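import Cfsg.Agent.Lib.LargeExtra.Extraspecial
import Cfsg.Agent.Lib.Transfer.Critical

/-!
Subgroups of extraspecial 2-groups which are themselves extraspecial.
-/

namespace CfsgLib.LargeExtra

open Subgroup Cfsg
open scoped commutatorElement

variable {E : Type*} [Group E] [Finite E]

/-- A nonabelian subgroup of an extraspecial 2-group whose centre is central in the whole group. -/
theorem isExtraspecial_subgroup (hE : IsExtraspecial 2 E) (H : Subgroup E)
    (hna : ∃ a ∈ H, ∃ b ∈ H, a * b ≠ b * a)
    (hZ : ∀ x ∈ H, (∀ y ∈ H, y * x = x * y) → x ∈ center E) : IsExtraspecial 2 H := by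
  haveI : Fact (Nat.Prime 2) := ⟨Nat.prime_two⟩
  obtain ⟨z, hzc, hz2, hz⟩ := exists_centre_gen hE
  obtain ⟨a, ha, b, hb, hab⟩ := hna
  have hp : IsPGroup 2 H := hE.1.1.to_subgroup H
  -- the commutator of a noncommuting pair is the central involution
  have hzab : ⁅a, b⁆ = z := by
    rcases hz _ (comm_mem_center hE a b) with h | h
    · exact absurd (commutatorElement_eq_one_iff_mul_comm.1 h) hab
    · exact h
  have hzH : z ∈ H := by
    rw [← hzab, commutatorElement_def]
    exact mul_mem (mul_mem (mul_mem ha hb) (inv_mem ha)) (inv_mem hb)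
  have hcen : ∀ x : H, x ∈ center H ↔ (x : E) ∈ center E := by
    intro x
    rw [Subgroup.mem_center_iff]
    constructor
    · intro h
      exact hZ x x.2 fun y hy => congrArg Subtype.val (h ⟨y, hy⟩)
    · intro h y
      exact Subtype.ext (Subgroup.mem_center_iff.1 h y)
  have hmap : (center H).map H.subtype = center E := by
    apply le_antisymm
    · rintro _ ⟨x, hx, rfl⟩
      exact (hcen x).1 hx
    · intro x hx
      rcases hz x hx with rfl | rfl
      · exact one_mem _
      · exact ⟨⟨x, hzH⟩, (hcen ⟨x, hzH⟩).2 hx, rfl⟩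
  have hcard : Nat.card (center H) = 2 := by
    rw [← hE.2, ← hmap, Subgroup.card_map_of_injective H.subtype_injective]
  have hcomm : ∀ u v : H, ⁅u, v⁆ ∈ center H := fun u v => by
    rw [hcen, commutatorElement_def]
    exact comm_mem_center hE u v
  have hle : center H ≤ _root_.commutator H := by
    intro x hx
    rcases hz _ ((hcen x).1 hx) with h | h
    · have : x = 1 := Subtype.ext h
      rw [this]; exact one_mem _
    · have : x = ⁅(⟨a, ha⟩ : H), ⟨b, hb⟩⁆ := Subtype.ext (by rw [h, ← hzab]; rfl)
      rw [this]
      exact Subgroup.commutator_mem_commutator (Subgroup.mem_top _) (Subgroup.mem_top _)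
  have hle' : _root_.commutator H ≤ center H := by
    rw [commutator_def, Subgroup.commutator_le]
    exact fun u _ v _ => hcomm u v
  refine ⟨⟨hp, le_antisymm ?_ (hle.trans (CfsgLib.PGroup.commutator_le_frattini hp)),
    le_antisymm hle' hle⟩, hcard⟩
  refine CfsgLib.Transfer.frattini_le_of_commutator_pow (p := 2) (center H) hcomm fun u => ?_
  rw [hcen, SubmonoidClass.coe_pow, pow_two]
  exact sq_mem_center hE u

theorem isExtraspecial_of_mulEquiv {A B : Type*} [Group A] [Group B] (e : A ≃* B)
    (h : IsExtraspecial 2 A) : IsExtraspecial 2 B := by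
  have hcen : (center A).map e.toMonoidHom = center B := by
    ext b
    constructor
    · rintro ⟨a, ha, rfl⟩
      rw [Subgroup.mem_center_iff]
      intro y
      obtain ⟨x, rfl⟩ := e.surjective y
      show e x * e a = e a * e x
      rw [← map_mul, ← map_mul, Subgroup.mem_center_iff.1 ha x]
    · intro hb
      refine ⟨e.symm b, Subgroup.mem_center_iff.2 fun x => e.injective ?_, e.apply_symm_apply b⟩
      rw [map_mul, map_mul, e.apply_symm_apply]
      exact Subgroup.mem_center_iff.1 hb (e x)
  have hfr : (frattini A).map e.toMonoidHom = frattini B := by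
    apply le_antisymm
    · rw [Subgroup.map_le_iff_le_comap]
      exact frattini_le_comap_frattini_of_surjective (φ := e.toMonoidHom) e.surjective
    · have h2 : frattini B ≤ (frattini A).comap e.symm.toMonoidHom :=
        frattini_le_comap_frattini_of_surjective (φ := e.symm.toMonoidHom) e.symm.surjective
      intro b hb
      exact ⟨e.symm b, h2 hb, e.apply_symm_apply b⟩
  have hco : (_root_.commutator A).map e.toMonoidHom = _root_.commutator B := by
    rw [commutator_def, commutator_def, Subgroup.map_commutator,
      Subgroup.map_top_of_surjective e.toMonoidHom e.surjective]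
  refine ⟨⟨h.1.1.of_equiv e, ?_, ?_⟩, ?_⟩
  · rw [← hfr, h.1.2.1, hcen]
  · rw [← hco, h.1.2.2, hcen]
  · rw [← hcen, Subgroup.card_map_of_injective (f := e.toMonoidHom) e.injective, h.2]

end CfsgLib.LargeExtra
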