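import Mathlib
import Cfsg.Prelude.Def_Transfer
import Cfsg.Agent.Lib.PGroup.Basic

/-!
Extraspecial 2-groups: the commutator pairing on the quotient by the centre.
-/

namespace CfsgLib.LargeExtra

open Subgroup Cfsg
open scoped commutatorElement

variable {E : Type*} [Group E] [Finite E]

theorem centre_card (hE : IsExtraspecial 2 E) : Nat.card (center E) = 2 := hE.2

theorem exists_centre_gen (hE : IsExtraspecial 2 E) :
    ∃ z : E, z ∈ center E ∧ orderOf z = 2 ∧ ∀ x ∈ center E, x = 1 ∨ x = z := by
  obtain ⟨a, ha⟩ : ∃ a : center E, a ≠ 1 := by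
    have : Nontrivial (center E) := Finite.one_lt_card_iff_nontrivial.1 (by rw [hE.2]; norm_num)
    exact exists_ne 1
  refine ⟨a, a.2, ?_, ?_⟩
  · rw [Subgroup.orderOf_coe]
    have h : orderOf a ∣ 2 := hE.2 ▸ orderOf_dvd_natCard a
    rcases (Nat.dvd_prime Nat.prime_two).1 h with h | h
    · exact absurd (orderOf_eq_one_iff.1 h) ha
    · exact h
  · intro x hx
    obtain ⟨u, v, huv, huniv⟩ := Nat.card_eq_two_iff.1 hE.2
    have h : ∀ y : center E, y = 1 ∨ y = a := by
      intro y
      have hy := Set.eq_univ_iff_forall.1 huniv y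
      have h1 := Set.eq_univ_iff_forall.1 huniv 1
      have h2 := Set.eq_univ_iff_forall.1 huniv a
      simp only [Set.mem_insert_iff, Set.mem_singleton_iff] at hy h1 h2
      grind
    rcases h ⟨x, hx⟩ with h | h
    · exact .inl (by simpa using congrArg Subtype.val h)
    · exact .inr (by simpa using congrArg Subtype.val h)

theorem comm_mem_center (hE : IsExtraspecial 2 E) (x y : E) :
    x * y * x⁻¹ * y⁻¹ ∈ center E := by
  have : ⁅x, y⁆ ∈ _root_.commutator E :=
    Subgroup.commutator_mem_commutator (Subgroup.mem_top x) (Subgroup.mem_top y)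
  rwa [hE.1.2.2, commutatorElement_def] at this

theorem sq_mem_center (hE : IsExtraspecial 2 E) (x : E) : x * x ∈ center E := by
  have : Fact (Nat.Prime 2) := ⟨Nat.prime_two⟩
  rw [← hE.1.2.1, ← sq]
  exact CfsgLib.PGroup.pow_mem_frattini hE.1.1 x

/-- `k ↦ k x k⁻¹ x⁻¹` as a homomorphism into the centre. -/
def commHom (hE : IsExtraspecial 2 E) (x : E) (K : Subgroup E) : K →* center E where
  toFun k := ⟨k * x * (k : E)⁻¹ * x⁻¹, comm_mem_center hE k x⟩
  map_one' := Subtype.ext (by simp)
  map_mul' a b := Subtype.ext (by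
    have hb := Subgroup.mem_center_iff.1 (comm_mem_center hE (b : E) x) (a : E)
    have ha := Subgroup.mem_center_iff.1 (comm_mem_center hE (a : E) x) ((b : E) * x * (b : E)⁻¹ * x⁻¹)
    simp only [Subgroup.coe_mul]
    rw [← ha]
    calc (a : E) * b * x * ((a : E) * b)⁻¹ * x⁻¹
        = ((a : E) * ((b : E) * x * (b : E)⁻¹ * x⁻¹)) * x * (a : E)⁻¹ * x⁻¹ := by group
      _ = ((b : E) * x * (b : E)⁻¹ * x⁻¹) * ((a : E) * x * (a : E)⁻¹ * x⁻¹) := by
        rw [hb]; group)

theorem card_le_two_mul_centralizer (hE : IsExtraspecial 2 E) (x : E) (K : Subgroup E) :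
    Nat.card K ≤ 2 * Nat.card ↥(K ⊓ centralizer ({x} : Set E)) := by
  have h1 := Subgroup.card_eq_card_quotient_mul_card_subgroup (commHom hE x K).ker
  rw [Nat.card_congr (QuotientGroup.quotientKerEquivRange (commHom hE x K)).toEquiv] at h1
  have h2 : Nat.card (commHom hE x K).range ≤ 2 :=
    hE.2 ▸ Subgroup.card_le_card_group _
  have h3 : (commHom hE x K).ker.map K.subtype = K ⊓ centralizer ({x} : Set E) := by
    ext k
    simp only [Subgroup.mem_map, MonoidHom.mem_ker, Subgroup.coe_subtype, Subgroup.mem_inf,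
      Subgroup.mem_centralizer_singleton_iff]
    constructor
    · rintro ⟨k, hk, rfl⟩
      refine ⟨k.2, ?_⟩
      have h := congrArg Subtype.val hk
      simp only [commHom, MonoidHom.coe_mk, OneHom.coe_mk, OneMemClass.coe_one] at h
      rw [mul_inv_eq_one, mul_inv_eq_iff_eq_mul] at h
      exact h
    · rintro ⟨hk, hc⟩
      refine ⟨⟨k, hk⟩, Subtype.ext ?_, rfl⟩
      simp [commHom, hc]
  rw [← h3, Subgroup.card_map_of_injective K.subtype_injective, h1]
  exact Nat.mul_le_mul_right _ h2

/-- Enlarging a subgroup containing the centre shrinks its centralizer by at most the same factor. -/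
theorem card_centralizer_mul_card_le (hE : IsExtraspecial 2 E) :
    ∀ M M' : Subgroup E, center E ≤ M → M ≤ M' →
      Nat.card (centralizer (M : Set E)) * Nat.card M ≤
        Nat.card (centralizer (M' : Set E)) * Nat.card M' := by
  intro M
  induction hn : Nat.card E - Nat.card M using Nat.strong_induction_on generalizing M with
  | _ n ih =>
    intro M' hZ hle
    rcases hle.eq_or_lt with rfl | hlt
    · exact le_rfl
    obtain ⟨x, hxM', hxM⟩ := SetLike.exists_of_lt hlt
    have hxx : x * x ∈ M := hZ (sq_mem_center hE x)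
    have hnorm : ∀ (g : E), ∀ m ∈ M, g * m * g⁻¹ ∈ M := by
      intro g m hm
      have := mul_mem (hZ (comm_mem_center hE g m)) hm
      simpa using this
    have hnormal : M.Normal := ⟨fun m hm g => hnorm g m hm⟩
    let M1 : Subgroup E := M ⊔ zpowers x
    have hMM1 : M ≤ M1 := le_sup_left
    have hxM1 : x ∈ M1 := Subgroup.mem_sup_right (mem_zpowers x)
    have hM1M' : M1 ≤ M' := sup_le hle ((zpowers_le).2 hxM')
    have hcard : Nat.card M1 = 2 * Nat.card M := by
      have hdvd : M.relIndex M1 ∣ 2 := by
        rw [Subgroup.relIndex_sup_left]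
        rw [← Subgroup.inf_relIndex_right]
        have hle2 : zpowers (x * x) ≤ M ⊓ zpowers x :=
          le_inf ((zpowers_le).2 hxx) ((zpowers_le).2 (mul_mem (mem_zpowers x) (mem_zpowers x)))
        refine (Subgroup.relIndex_dvd_of_le_left _ hle2).trans ?_
        have h := Subgroup.relIndex_mul_relIndex ⊥ (zpowers (x * x)) (zpowers x) bot_le
          ((zpowers_le).2 (mul_mem (mem_zpowers x) (mem_zpowers x)))
        rw [Subgroup.relIndex_bot_left, Subgroup.relIndex_bot_left, Nat.card_zpowers,
          Nat.card_zpowers, ← sq, orderOf_pow] at h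
        have hpos := orderOf_pos x
        rcases (Nat.dvd_prime Nat.prime_two).1 (Nat.gcd_dvd_right (orderOf x) 2) with hg | hg <;>
          rw [hg] at h
        · rw [Nat.div_one] at h
          have := Nat.eq_of_mul_eq_mul_left hpos (h.trans (mul_one _).symm)
          rw [sq] at this
          exact ⟨2, by rw [this, one_mul]⟩
        · have h2 : 2 ∣ orderOf x := hg ▸ Nat.gcd_dvd_left _ _
          obtain ⟨k, hk⟩ := h2
          rw [hk, Nat.mul_div_cancel_left _ (by norm_num)] at h
          have : 0 < k := by omega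
          rw [sq, Nat.mul_comm 2 k] at h
          exact ⟨1, by rw [Nat.eq_of_mul_eq_mul_left this h, mul_one]⟩
      have hne : M.relIndex M1 ≠ 1 := fun h => hxM (Subgroup.relIndex_eq_one.1 h hxM1)
      have h2 : M.relIndex M1 = 2 := ((Nat.dvd_prime Nat.prime_two).1 hdvd).resolve_left hne
      have h := Subgroup.relIndex_mul_relIndex ⊥ M M1 bot_le hMM1
      rw [Subgroup.relIndex_bot_left, Subgroup.relIndex_bot_left, h2] at h
      omega
    have hpos : 0 < Nat.card M := Nat.card_pos
    have hlt' : Nat.card E - Nat.card M1 < n := by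
      have : Nat.card M1 ≤ Nat.card E := Subgroup.card_le_card_group M1
      omega
    refine le_trans ?_ (ih _ hlt' M1 rfl M' (hZ.trans hMM1) hM1M')
    have hsub : centralizer (M : Set E) ⊓ centralizer ({x} : Set E) ≤ centralizer (M1 : Set E) := by
      rw [Subgroup.le_centralizer_iff]
      refine sup_le ?_ ?_
      · exact Subgroup.le_centralizer_iff.1 inf_le_left
      · rw [zpowers_le, Subgroup.mem_centralizer_iff]
        intro c hc
        exact Subgroup.mem_centralizer_singleton_iff.1 hc.2
    have h1 := card_le_two_mul_centralizer hE x (centralizer (M : Set E))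
    have h2 : Nat.card ↥(centralizer (M : Set E) ⊓ centralizer ({x} : Set E)) ≤
        Nat.card (centralizer (M1 : Set E)) := Subgroup.card_le_of_le hsub
    calc Nat.card (centralizer (M : Set E)) * Nat.card M
        ≤ 2 * Nat.card (centralizer (M1 : Set E)) * Nat.card M :=
          Nat.mul_le_mul_right _ (h1.trans (Nat.mul_le_mul_left 2 h2))
      _ = Nat.card (centralizer (M1 : Set E)) * Nat.card M1 := by rw [hcard]; ring

/-- The perpendicular of a subgroup containing the centre has the complementary order. -/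
theorem card_centralizer_mul_card (hE : IsExtraspecial 2 E) (M : Subgroup E) (hZ : center E ≤ M) :
    Nat.card (centralizer (M : Set E)) * Nat.card M = Nat.card (center E) * Nat.card E := by
  apply le_antisymm
  · have h := card_centralizer_mul_card_le hE M ⊤ hZ le_top
    rwa [Subgroup.coe_top, Subgroup.centralizer_univ, Subgroup.card_top] at h
  · have h := card_centralizer_mul_card_le hE (center E) M le_rfl hZ
    have htop : centralizer (center E : Set E) = ⊤ := eq_top_iff.2 fun g _ =>
      Subgroup.mem_centralizer_iff.2 fun c hc => (Subgroup.mem_center_iff.1 hc g).symm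
    rw [htop] at h
    rwa [Subgroup.card_top, Nat.mul_comm (Nat.card E)] at h

/-- Double perpendicular. -/
theorem centralizer_centralizer (hE : IsExtraspecial 2 E) (M : Subgroup E) (hZ : center E ≤ M) :
    centralizer (centralizer (M : Set E) : Set E) = M := by
  refine (Subgroup.eq_of_le_of_card_ge ?_ ?_).symm
  · exact Subgroup.le_centralizer_iff.1 le_rfl
  · have h1 := card_centralizer_mul_card hE M hZ
    have h2 := card_centralizer_mul_card hE (centralizer (M : Set E))
      (Subgroup.center_le_centralizer _)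
    have hpos : 0 < Nat.card (centralizer (M : Set E)) := Nat.card_pos
    refine Nat.le_of_mul_le_mul_left (le_of_eq ?_) hpos
    rw [Nat.mul_comm, h2, h1]

/-- An element moving an element outside a subgroup `M` containing the centre while centralizing `M`. -/
theorem exists_mem_centralizer_comm (hE : IsExtraspecial 2 E) {M : Subgroup E} (hZ : center E ≤ M)
    {x : E} (hx : x ∉ M) :
    ∃ g ∈ centralizer (M : Set E), g * x * g⁻¹ * x⁻¹ ≠ 1 := by
  by_contra h
  push Not at h
  apply hx
  rw [← centralizer_centralizer hE M hZ, Subgroup.mem_centralizer_iff]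
  intro g hg
  have := h g hg
  rwa [mul_inv_eq_one, mul_inv_eq_iff_eq_mul] at this

/-- An automorphism trivial modulo the centre is inner. -/
theorem exists_inner_of_trivial_mod_center (hE : IsExtraspecial 2 E) (φ : E ≃* E)
    (hφ : ∀ x : E, φ x * x⁻¹ ∈ center E) : ∃ g : E, ∀ x : E, φ x = g * x * g⁻¹ := by
  obtain ⟨z, hzc, hz2, hz⟩ := exists_centre_gen hE
  have hz1 : z ≠ 1 := by
    intro h; rw [h, orderOf_one] at hz2; omega
  have hcen : ∀ x ∈ center E, φ x = x := by
    intro x hx
    have hφx : φ x ∈ center E := by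
      have := mul_mem (hφ x) hx
      simpa using this
    rcases hz x hx with rfl | rfl
    · exact map_one φ
    · rcases hz _ hφx with h | h
      · exact absurd (φ.injective (h.trans (map_one φ).symm)) hz1
      · exact h
  let K : Subgroup E := MonoidHom.eqLocus φ.toMonoidHom (MonoidHom.id E)
  have hK : center E ≤ K := fun x hx => hcen x hx
  by_cases hKt : K = ⊤
  · exact ⟨1, fun x => by
      have hx : x ∈ K := hKt ▸ Subgroup.mem_top x
      rw [one_mul, inv_one, mul_one]; exact hx⟩
  obtain ⟨x₀, hx₀⟩ : ∃ x₀, x₀ ∉ K := by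
    by_contra h
    exact hKt (eq_top_iff.2 fun x _ => not_not.1 fun hx => h ⟨x, hx⟩)
  obtain ⟨g, hg, hgx⟩ := exists_mem_centralizer_comm hE hK hx₀
  refine ⟨g, fun y => ?_⟩
  have hbase : ∀ a, a ∉ K → φ a = z * a := by
    intro a ha
    rcases hz _ (hφ a) with h | h
    · exact absurd (show a ∈ K from mul_inv_eq_one.1 h) ha
    · exact eq_mul_of_mul_inv_eq h
  have hgx₀ : g * x₀ * g⁻¹ = z * x₀ := by
    rcases hz _ (comm_mem_center hE g x₀) with h | h
    · exact absurd h hgx
    · exact eq_mul_of_mul_inv_eq h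
  have hgK : ∀ k ∈ K, g * k * g⁻¹ = k := by
    intro k hk
    rw [mul_inv_eq_iff_eq_mul]
    exact (Subgroup.mem_centralizer_iff.1 hg k hk).symm
  by_cases hy : y ∈ K
  · rw [hgK y hy]; exact hy
  · have h2 : y * x₀⁻¹ ∈ K := by
      show φ (y * x₀⁻¹) = y * x₀⁻¹
      rw [map_mul, map_inv, hbase y hy, hbase x₀ hx₀, mul_inv_rev,
        Subgroup.mem_center_iff.1 (inv_mem hzc) x₀⁻¹]
      group
      rw [← Subgroup.mem_center_iff.1 hzc y]
      group
    calc φ y = z * y := hbase y hy
      _ = (y * x₀⁻¹) * (z * x₀) := by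
        rw [← mul_assoc, Subgroup.mem_center_iff.1 hzc (y * x₀⁻¹), mul_assoc z]; group
      _ = (g * (y * x₀⁻¹) * g⁻¹) * (g * x₀ * g⁻¹) := by rw [hgK _ h2, hgx₀]
      _ = g * y * g⁻¹ := by group

end CfsgLib.LargeExtra
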