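import Mathlib
import Cfsg.Prelude.Def_MonsterType
import Cfsg.Agent.Lib.Cores.Basic
import Cfsg.Agent.Lib.LargeExtra.Extraspecial

/-!
An extraspecial 2-subgroup of a group with its central involution.
-/

namespace CfsgLib.LargeExtra

open Subgroup Cfsg

variable {G : Type*} [Group G] [Finite G]

theorem exists_centre_involution {Q : Subgroup G} (hE : IsExtraspecial 2 Q) :
    ∃ z : G, z ∈ Q ∧ orderOf z = 2 ∧ (center Q).map Q.subtype = zpowers z ∧
      (∀ x ∈ Q, x * z = z * x) ∧ ∀ x ∈ zpowers z, x = 1 ∨ x = z := by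
  obtain ⟨z, hzc, hz2, hz⟩ := exists_centre_gen hE
  have hmap : (center Q).map Q.subtype = zpowers (z : G) := by
    apply le_antisymm
    · rintro _ ⟨x, hx, rfl⟩
      rcases hz x hx with rfl | rfl
      · simp
      · exact mem_zpowers _
    · rw [zpowers_le]
      exact ⟨z, hzc, rfl⟩
  refine ⟨z, z.2, by rw [Subgroup.orderOf_coe]; exact hz2, hmap, ?_, ?_⟩
  · intro x hx
    exact congrArg Subtype.val (Subgroup.mem_center_iff.1 hzc ⟨x, hx⟩)
  · intro x hx
    rw [← hmap] at hx
    obtain ⟨y, hy, rfl⟩ := hx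
    rcases hz y hy with rfl | rfl
    · exact .inl rfl
    · exact .inr rfl

omit [Finite G] in
theorem centralizer_zpowers (z : G) :
    centralizer ((zpowers z : Subgroup G) : Set G) = centralizer ({z} : Set G) := by
  rw [zpowers_eq_closure, centralizer_closure]

/-- An element of a 2-group lying in a subgroup of odd order is trivial. -/
theorem eq_one_of_two_group_of_odd {P K : Subgroup G} (hP : IsPGroup 2 P) (hK : Odd (Nat.card K))
    {x : G} (hxP : x ∈ P) (hxK : x ∈ K) : x = 1 := by
  obtain ⟨k, hk⟩ := hP ⟨x, hxP⟩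
  have h1 : orderOf x ∣ 2 ^ k := orderOf_dvd_of_pow_eq_one (by
    simpa using congrArg Subtype.val hk)
  have h2 : orderOf x ∣ Nat.card K := Subgroup.orderOf_dvd_natCard _ hxK
  rw [← orderOf_eq_one_iff, ← Nat.dvd_one]
  have : Nat.gcd (2 ^ k) (Nat.card K) = 1 := (Nat.coprime_two_left.2 hK).pow_left k
  exact this ▸ Nat.dvd_gcd h1 h2

/-- The criterion for the odd-order condition of a large extraspecial subgroup. -/
theorem eq_bot_of_odd_of_le_centralizer {Q : Subgroup G} (hE : IsExtraspecial 2 Q)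
    (hL2 : centralizer (Q : Set G) = (center Q).map Q.subtype)
    (hL3 : centralizer (((center Q).map Q.subtype : Subgroup G) : Set G) ≤ normalizer (Q : Set G))
    {K : Subgroup G} (hK : Odd (Nat.card K)) (hQK : Q ≤ normalizer (K : Set G))
    (hKZ : K ≤ centralizer (((center Q).map Q.subtype : Subgroup G) : Set G)) : K = ⊥ := by
  have hQp : IsPGroup 2 Q := hE.1.1
  have hKQ : K ≤ centralizer (Q : Set G) := by
    intro k hk
    rw [Subgroup.mem_centralizer_iff]
    intro q hq
    have h1 : q * k * q⁻¹ * k⁻¹ = 1 := by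
      apply eq_one_of_two_group_of_odd hQp hK
      · have := mul_mem hq ((Subgroup.mem_normalizer_iff.1 (hL3 (hKZ hk)) q⁻¹).1 (inv_mem hq))
        simpa [mul_assoc] using this
      · exact mul_mem ((Subgroup.mem_normalizer_iff.1 (hQK hq) k).1 hk) (inv_mem hk)
    rwa [mul_inv_eq_one, mul_inv_eq_iff_eq_mul] at h1
  rw [hL2] at hKQ
  exact (Subgroup.eq_bot_iff_forall _).2 fun k hk =>
    eq_one_of_two_group_of_odd hQp hK (Subgroup.map_subtype_le _ (hKQ hk)) hk

theorem isLargeExtraspecial_of_two_core {Q : Subgroup G} (hE : IsExtraspecial 2 Q)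
    (hL2 : centralizer (Q : Set G) = (center Q).map Q.subtype)
    (hL3 : centralizer (((center Q).map Q.subtype : Subgroup G) : Set G) ≤ normalizer (Q : Set G))
    (hZ : (center Q).map Q.subtype ≤ pCore 2 G) : IsLargeExtraspecial Q := by
  refine ⟨hE, hL2, hL3, fun K hK hQK => eq_bot_of_odd_of_le_centralizer hE hL2 hL3 hK hQK ?_⟩
  intro k hk
  rw [Subgroup.mem_centralizer_iff]
  intro z hz
  have hzQ : z ∈ Q := Subgroup.map_subtype_le _ hz
  have h1 : z * k * z⁻¹ * k⁻¹ = 1 := by
    apply eq_one_of_two_group_of_odd (CfsgLib.Cores.isPGroup_pCore 2) hK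
    · have hn : (pCore 2 G).Normal := by
        haveI := CfsgLib.Cores.pCore_characteristic (G := G) 2; infer_instance
      have := mul_mem (hZ hz) (hn.conj_mem _ (inv_mem (hZ hz)) k)
      simpa [mul_assoc] using this
    · exact mul_mem ((Subgroup.mem_normalizer_iff.1 (hQK hzQ) k).1 hk) (inv_mem hk)
  rwa [mul_inv_eq_one, mul_inv_eq_iff_eq_mul] at h1

/-- `b` centralizes no nontrivial element of a `Q`-invariant subgroup of odd order. -/
theorem centralizer_trivial_of_mem_two_core {Q : Subgroup G} (hE : IsExtraspecial 2 Q)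
    (hL2 : centralizer (Q : Set G) = (center Q).map Q.subtype)
    (hL3 : centralizer (((center Q).map Q.subtype : Subgroup G) : Set G) ≤ normalizer (Q : Set G))
    {K : Subgroup G} (hK : Odd (Nat.card K)) (hQK : Q ≤ normalizer (K : Set G))
    {z b : G} (hzZ : (center Q).map Q.subtype = zpowers z) (hzQ : z ∈ Q) (hbQ : b ∈ Q)
    (hzb : z ∈ (pCore 2 (centralizer ({b} : Set G))).map (centralizer ({b} : Set G)).subtype) :
    ∀ k ∈ K, b * k = k * b → k = 1 := by
  let S : Subgroup G := K ⊓ centralizer ({z} : Set G)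
  have hS : ∀ k ∈ K, z * k = k * z → k = 1 := by
    suffices h : S = ⊥ by
      intro k hk hc
      rw [← Subgroup.mem_bot, ← h]
      exact ⟨hk, Subgroup.mem_centralizer_singleton_iff.2 hc.symm⟩
    refine eq_bot_of_odd_of_le_centralizer hE hL2 hL3 ?_ ?_ ?_
    · exact hK.of_dvd_nat (Subgroup.card_dvd_of_le inf_le_left)
    · intro q hq
      have hzc : z ∈ (center Q).map Q.subtype := hzZ ▸ mem_zpowers z
      obtain ⟨z', hz', rfl⟩ := hzc
      have hqz : q * (Q.subtype z') = Q.subtype z' * q :=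
        congrArg Subtype.val (Subgroup.mem_center_iff.1 hz' ⟨q, hq⟩)
      rw [Subgroup.mem_normalizer_iff]
      intro k
      show (k ∈ K ∧ k ∈ centralizer _) ↔ q * k * q⁻¹ ∈ K ∧ q * k * q⁻¹ ∈ centralizer _
      rw [← Subgroup.mem_normalizer_iff.1 (hQK hq) k,
        Subgroup.mem_centralizer_singleton_iff, Subgroup.mem_centralizer_singleton_iff]
      have hqz' : q⁻¹ * Q.subtype z' = Q.subtype z' * q⁻¹ :=
        (Commute.inv_left (show Commute q (Q.subtype z') from hqz)).eq
      constructor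
      · rintro ⟨h1, h2⟩
        refine ⟨h1, ?_⟩
        rw [mul_assoc (q * k), hqz', ← mul_assoc, mul_assoc q k, h2, ← mul_assoc, hqz]
        group
      · rintro ⟨h1, h2⟩
        refine ⟨h1, ?_⟩
        have h3 := congrArg (fun y => q⁻¹ * y * q) h2
        simp only [← mul_assoc] at h3
        rw [hqz'] at h3
        have h4 : q⁻¹ * (Q.subtype z' * q) = Q.subtype z' := by rw [← hqz, inv_mul_cancel_left]
        simp only [Subgroup.coe_subtype, mul_assoc] at h3 h4 ⊢
        rw [h4] at h3
        simpa [mul_assoc] using h3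
    · rw [hzZ, centralizer_zpowers]; exact inf_le_right
  intro k hk hc
  obtain ⟨⟨z', hz'C⟩, hz', hzz⟩ := hzb
  subst hzz
  refine hS k hk ?_
  have hkC : k ∈ centralizer ({b} : Set G) := Subgroup.mem_centralizer_singleton_iff.2 hc.symm
  have hn : (pCore 2 (centralizer ({b} : Set G))).Normal :=
    by haveI := CfsgLib.Cores.pCore_characteristic (G := centralizer ({b} : Set G)) 2; infer_instance
  have h1 : z' * k * z'⁻¹ * k⁻¹ = 1 := by
    apply eq_one_of_two_group_of_odd
      ((CfsgLib.Cores.isPGroup_pCore (G := centralizer ({b} : Set G)) 2).map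
        (centralizer ({b} : Set G)).subtype) hK
    · exact ⟨⟨z', hz'C⟩ * (⟨k, hkC⟩ * ⟨z', hz'C⟩⁻¹ * ⟨k, hkC⟩⁻¹),
        mul_mem hz' (hn.conj_mem _ (inv_mem hz') _), by simp [mul_assoc]⟩
    · exact mul_mem ((Subgroup.mem_normalizer_iff.1 (hQK hzQ) k).1 hk) (inv_mem hk)
  rwa [mul_inv_eq_one, mul_inv_eq_iff_eq_mul] at h1

end CfsgLib.LargeExtra
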