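import Mathlib
import Cfsg.Agent.Lib.LargeExtra.Basic

/-!
If a conjugate `x` of the central involution `z` lies in an extraspecial `Q` (self-centralizing and
normal in `C(z)`), then `z` lies in the conjugate of `Q` attached to `x`, and the four-group
`⟨z, x⟩` has automizer of order 6.
-/

namespace CfsgLib.LargeExtra

open Subgroup Cfsg

variable {G : Type*} [Group G] [Finite G]

omit [Finite G] in
theorem mem_zpowers_inv_iff {z : G} (hz : ∀ y ∈ zpowers z, y = 1 ∨ y = z) : z * z = 1 := by
  rcases hz (z * z) (mul_mem (mem_zpowers z) (mem_zpowers z)) with h | h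
  · exact h
  · have : z = 1 := by simpa using h
    simp [this]

/-- Elements centralizing `C_Q(x)` lie in the four group `⟨z, x⟩`. -/
theorem centralizer_perp_eq {Q : Subgroup G} (hE : IsExtraspecial 2 Q) {z x q : G}
    (hzQ : z ∈ Q) (hzc : ∀ y ∈ Q, y * z = z * y) (hZ : (center Q).map Q.subtype = zpowers z)
    (hz : ∀ y ∈ zpowers z, y = 1 ∨ y = z)
    (hL2 : centralizer (Q : Set G) = (center Q).map Q.subtype)
    (hL3 : centralizer ({z} : Set G) ≤ normalizer (Q : Set G))
    (hxQ : x ∈ Q) (hx2 : x * x = 1) (hqQ : q ∈ Q) (hqx : q * x * q⁻¹ = z * x) (hzx : z * x ≠ x)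
    {c : G} (hc : ∀ r ∈ Q, r * x = x * r → r * c = c * r) :
    c = 1 ∨ c = z ∨ c = x ∨ c = z * x := by
  have hzz : z * z = 1 := mem_zpowers_inv_iff hz
  have hcomm : ∀ a ∈ Q, ∀ b ∈ Q, a * b * a⁻¹ * b⁻¹ = 1 ∨ a * b * a⁻¹ * b⁻¹ = z := by
    intro a ha b hb
    refine hz _ ?_
    rw [← hZ]
    exact ⟨_, comm_mem_center hE ⟨a, ha⟩ ⟨b, hb⟩, rfl⟩
  have hsplit : ∀ y ∈ Q, y * x = x * y ∨ (q⁻¹ * y) * x = x * (q⁻¹ * y) := by
    intro y hy
    rcases hcomm y hy x hxQ with h | h
    · left
      rwa [mul_inv_eq_one, mul_inv_eq_iff_eq_mul] at h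
    · right
      have h1 : y * x * y⁻¹ = q * x * q⁻¹ := by
        rw [hqx, ← h]; group
      calc q⁻¹ * y * x = q⁻¹ * (y * x * y⁻¹) * y := by group
        _ = q⁻¹ * (q * x * q⁻¹) * y := by rw [h1]
        _ = x * (q⁻¹ * y) := by group
  have hcz : z * c = c * z := hc z hzQ (hzc x hxQ).symm
  have hcN : c ∈ normalizer (Q : Set G) := hL3 (mem_centralizer_singleton_iff.2 hcz.symm)
  have hcq : c * q * c⁻¹ ∈ Q := (mem_normalizer_iff.1 hcN q).1 hqQ
  let d : G := q⁻¹ * (c * q * c⁻¹)
  have hdQ : d ∈ Q := mul_mem (inv_mem hqQ) hcq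
  have hqz : q * z * q⁻¹ = z := by rw [hzc q hqQ]; group
  have hd : ∀ r ∈ Q, r * x = x * r → r * d = d * r := by
    intro r hr hrx
    have hcr : c * r * c⁻¹ = r := by rw [← hc r hr hrx]; group
    have hczc : c * z * c⁻¹ = z := by rw [← hcz]; group
    have h1 : c * (q * r * q⁻¹) * c⁻¹ = q * r * q⁻¹ := by
      rcases hcomm q hqQ r hr with h | h
      · rw [show q * r * q⁻¹ = r from by simpa [mul_inv_eq_one] using h, hcr]
      · rw [eq_mul_of_mul_inv_eq h]
        calc c * (z * r) * c⁻¹ = (c * z * c⁻¹) * (c * r * c⁻¹) := by group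
          _ = z * r := by rw [hczc, hcr]
    have h2 : (c * q * c⁻¹) * r * (c * q * c⁻¹)⁻¹ = q * r * q⁻¹ := by
      conv_rhs => rw [← h1]
      conv_lhs => rw [← hcr]
      group
    calc r * d = q⁻¹ * (q * r * q⁻¹) * (c * q * c⁻¹) := by simp only [d]; group
      _ = q⁻¹ * ((c * q * c⁻¹) * r * (c * q * c⁻¹)⁻¹) * (c * q * c⁻¹) := by rw [h2]
      _ = d * r := by simp only [d]; group
  -- `d` lies in the double perpendicular of `x`
  have hdV : d = 1 ∨ d = z ∨ d = x ∨ d = z * x := by
    let M : Subgroup Q := center Q ⊔ zpowers ⟨x, hxQ⟩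
    have hdM : (⟨d, hdQ⟩ : Q) ∈ centralizer (centralizer (M : Set Q) : Set Q) := by
      rw [mem_centralizer_iff]
      intro r hr
      have hrx : r * ⟨x, hxQ⟩ = ⟨x, hxQ⟩ * r :=
        (mem_centralizer_iff.1 hr _ (mem_sup_right (mem_zpowers _))).symm
      exact Subtype.ext (hd r r.2 (congrArg Subtype.val hrx))
    rw [centralizer_centralizer hE M le_sup_left, mem_sup_of_normal_left] at hdM
    obtain ⟨a, ha, b, hb, hab⟩ := hdM
    have haz : (a : G) = 1 ∨ (a : G) = z := hz _ (hZ ▸ ⟨a, ha, rfl⟩)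
    have hbx : (b : G) = 1 ∨ (b : G) = x := by
      obtain ⟨i, rfl⟩ := mem_zpowers_iff.1 hb
      rw [SubgroupClass.coe_zpow]
      rcases Int.even_or_odd i with ⟨j, rfl⟩ | ⟨j, rfl⟩
      · left; rw [← two_mul, zpow_mul, zpow_two, hx2, one_zpow]
      · right; rw [zpow_add, zpow_mul, zpow_two, hx2, one_zpow, one_mul, zpow_one]
    have hab' : (a : G) * b = d := congrArg Subtype.val hab
    rw [← hab']
    rcases haz with h | h <;> rcases hbx with h' | h' <;> rw [h, h'] <;> simp
  have hcomZ : ∀ e, (∀ r ∈ Q, r * x = x * r → r * e = e * r) → q * e = e * q → e = 1 ∨ e = z := by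
    intro e he heq
    refine hz _ ?_
    rw [← hZ, ← hL2, mem_centralizer_iff]
    intro y hy
    rcases hsplit y hy with h | h
    · exact he y hy h
    · have h3 := he _ (mul_mem (inv_mem hqQ) hy) h
      calc y * e = q * ((q⁻¹ * y) * e) := by group
        _ = (q * e) * (q⁻¹ * y) := by rw [h3]; group
        _ = e * y := by rw [heq]; group
  have hcq' : c * q * c⁻¹ = q * d := by simp only [d]; group
  rcases hdV with h | h | h | h
  · rw [h, mul_one, mul_inv_eq_iff_eq_mul] at hcq'
    rcases hcomZ c hc hcq'.symm with h' | h'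
    · exact .inl h'
    · exact .inr (.inl h')
  · rw [h] at hcq'
    have hxq : x * q * x⁻¹ = z * q := by
      have hxi : x⁻¹ = x := inv_eq_of_mul_eq_one_right hx2
      have h1 : q * x = z * x * q := mul_inv_eq_iff_eq_mul.1 hqx
      have h2 : x * (q * x) = x * (z * x * q) := by rw [h1]
      rw [hxi]
      calc x * q * x = x * (z * x * q) := by rw [← h2, mul_assoc]
        _ = z * (x * x) * q := by rw [← mul_assoc, ← mul_assoc, hzc x hxQ, mul_assoc z]
        _ = z * q := by rw [hx2, mul_one]
    have hcx : ∀ r ∈ Q, r * x = x * r → r * (c * x) = c * x * r := by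
      intro r hr hrx
      rw [← mul_assoc, hc r hr hrx, mul_assoc, hrx, mul_assoc]
    have hcxq : q * (c * x) = c * x * q := by
      have h1 : x * q = z * q * x := mul_inv_eq_iff_eq_mul.1 hxq
      have h2 : c * q = q * z * c := mul_inv_eq_iff_eq_mul.1 hcq'
      symm
      calc c * x * q = c * (z * q * x) := by rw [mul_assoc, h1]
        _ = (c * z) * q * x := by group
        _ = (z * c) * q * x := by rw [hcz]
        _ = z * (c * q) * x := by group
        _ = z * (q * z * c) * x := by rw [h2]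
        _ = (z * q) * z * c * x := by group
        _ = (q * z) * z * c * x := by rw [hzc q hqQ]
        _ = q * (z * z) * c * x := by group
        _ = q * (c * x) := by rw [hzz]; group
    have hxi : x⁻¹ = x := inv_eq_of_mul_eq_one_right hx2
    rcases hcomZ _ hcx hcxq with h' | h'
    · exact .inr (.inr (.inl ((eq_inv_of_mul_eq_one_left h').trans hxi)))
    · exact .inr (.inr (.inr (by rw [eq_mul_inv_of_mul_eq h', hxi])))
  all_goals
    exfalso
    have hq2 : c * (q * q) * c⁻¹ = q * q := by
      rcases hz (q * q) (hZ ▸ ⟨_, sq_mem_center hE ⟨q, hqQ⟩, rfl⟩) with h' | h'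
      · rw [h']; group
      · rw [h', ← hcz]; group
    have h1 : (c * q * c⁻¹) * (c * q * c⁻¹) = q * q := by
      conv_rhs => rw [← hq2]
      group
    rw [hcq'] at h1
    have h2 : d * q * d = q := by
      have := mul_left_cancel (a := q) (by simpa [mul_assoc] using h1 : q * (d * (q * d)) = q * q)
      simpa [mul_assoc] using this
    apply hzx
    rw [← hqx, mul_inv_eq_iff_eq_mul]
    rw [h] at h2
  · have h3 : x * (x * q * x) = x * q := by rw [h2]
    simpa [← mul_assoc, hx2] using h3
  · have hqzc : q * z = z * q := hzc q hqQ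
    have hxz : x * z = z * x := hzc x hxQ
    have h3 : z * x * q * (z * x) = x * q * x := by
      calc z * x * q * (z * x) = (x * z) * q * (z * x) := by rw [hxz]
        _ = x * (z * q) * (z * x) := by group
        _ = x * (q * z) * (z * x) := by rw [hqzc]
        _ = x * q * (z * z) * x := by group
        _ = x * q * x := by rw [hzz]; group
    rw [h3] at h2
    have h4 : x * (x * q * x) = x * q := by rw [h2]
    simpa [← mul_assoc, hx2] using h4

/-- The main configuration lemma. -/
theorem four_group_automizer {Q : Subgroup G} (hE : IsExtraspecial 2 Q) {z : G}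
    (hz2 : orderOf z = 2) (hZ : (center Q).map Q.subtype = zpowers z)
    (hL2 : centralizer (Q : Set G) = (center Q).map Q.subtype)
    (hL3 : centralizer ({z} : Set G) ≤ normalizer (Q : Set G))
    {g : G} (hxQ : g * z * g⁻¹ ∈ Q) (hxz : g * z * g⁻¹ ≠ z) :
    (∃ q ∈ Q, q * (g * z * g⁻¹) * q⁻¹ = z * (g * z * g⁻¹)) ∧
    (∃ n ∈ centralizer ({g * z * g⁻¹} : Set G), n * z * n⁻¹ = z * (g * z * g⁻¹)) ∧
    z ∈ Q.map (MulAut.conj g).toMonoidHom := by
  have : Fact (Nat.Prime 2) := ⟨Nat.prime_two⟩
  obtain ⟨z', hz'Q, -, hz'Z, hz'c, hz'⟩ := exists_centre_involution hE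
  have hzeq : z' = z := by
    have hmem : z' ∈ zpowers z := by rw [← hZ, hz'Z]; exact mem_zpowers _
    have hmem' : z ∈ zpowers z' := by rw [← hz'Z, hZ]; exact mem_zpowers _
    rcases hz' z hmem' with h | h
    · rw [h, orderOf_one] at hz2; omega
    · exact h.symm
  subst z'
  clear hz'Z
  have hzz : z * z = 1 := mem_zpowers_inv_iff hz'
  have hz1 : z ≠ 1 := fun h => by rw [h, orderOf_one] at hz2; omega
  set x := g * z * g⁻¹ with hx
  clear_value x
  have hx2 : x * x = 1 := by
    rw [hx]
    calc g * z * g⁻¹ * (g * z * g⁻¹) = g * (z * z) * g⁻¹ := by group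
      _ = 1 := by rw [hzz]; group
  have hx1 : x ≠ 1 := by simpa [hx, mul_inv_eq_one] using hz1
  have hxzc : x * z = z * x := hz'c x hxQ
  have hzxne : z * x ≠ x := fun h => hz1 (by simpa using h)
  obtain ⟨q, hqQ, hqx⟩ : ∃ q ∈ Q, q * x * q⁻¹ = z * x := by
    have hnc : (⟨x, hxQ⟩ : Q) ∉ center Q := fun h => by
      rcases hz' x (hZ ▸ ⟨_, h, rfl⟩) with h' | h'
      · exact hx1 h'
      · exact hxz h'
    rw [mem_center_iff] at hnc
    push Not at hnc
    obtain ⟨q, hq⟩ := hnc
    have hm : ((q * ⟨x, hxQ⟩ * q⁻¹ * (⟨x, hxQ⟩ : Q)⁻¹ : Q) : G) ∈ zpowers z :=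
      hZ ▸ ⟨_, comm_mem_center hE q ⟨x, hxQ⟩, rfl⟩
    rcases hz' _ hm with h | h
    · exact absurd (by rwa [OneMemClass.coe_eq_one, mul_inv_eq_one, mul_inv_eq_iff_eq_mul] at h) hq
    · exact ⟨q, q.2, eq_mul_of_mul_inv_eq (by simpa using h)⟩
  let K : Subgroup G := centralizer ({x} : Set G) ⊓ centralizer ({z} : Set G)
  have hmemK : ∀ {y : G}, y ∈ K ↔ y * x = x * y ∧ y * z = z * y := fun {y} =>
    ⟨fun h => ⟨mem_centralizer_singleton_iff.1 h.1, mem_centralizer_singleton_iff.1 h.2⟩,
      fun h => ⟨mem_centralizer_singleton_iff.2 h.1, mem_centralizer_singleton_iff.2 h.2⟩⟩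
  let R : Subgroup G := Q ⊓ centralizer ({x} : Set G)
  have hRK : R ≤ K := fun r hr => hmemK.2 ⟨mem_centralizer_singleton_iff.1 hr.2, hz'c r hr.1⟩
  obtain ⟨T, hT⟩ := ((hE.1.1.to_le (inf_le_left : R ≤ Q)).of_equiv
    (subgroupOfEquivOfLe hRK).symm).exists_le_sylow
  let T' : Subgroup G := (T : Subgroup K).map K.subtype
  have hT'K : T' ≤ K := map_subtype_le _
  have hT'p : IsPGroup 2 T' := T.2.map _
  have hRT : R ≤ T' := fun r hr => ⟨⟨r, hRK hr⟩, hT hr, rfl⟩
  obtain ⟨T₁, hT₁⟩ := (hT'p.of_equiv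
    (subgroupOfEquivOfLe (hT'K.trans (inf_le_left : K ≤ centralizer ({x} : Set G)))).symm).exists_le_sylow
  have hne : T'.subgroupOf (centralizer ({x} : Set G)) < (T₁ : Subgroup (centralizer ({x} : Set G))) := by
    refine lt_of_le_of_ne hT₁ fun h => ?_
    have h2 : 2 * Nat.card K ∣ Nat.card (centralizer ({z} : Set G)) := by
      let N : Subgroup G := centralizer ({z} : Set G) ⊓ normalizer (K : Set G)
      have hKN : K ≤ N := le_inf inf_le_right Subgroup.le_normalizer
      have hqK : q ∉ K := fun h => hzxne (by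
        rw [← hqx, (hmemK.1 h).1]; group)
      have hqN : q ∈ N := by
        refine ⟨mem_centralizer_singleton_iff.2 (hz'c q hqQ), mem_normalizer_iff.2 fun k => ?_⟩
        have hqzx : q * (z * x) * q⁻¹ = x := by
          calc q * (z * x) * q⁻¹ = (q * z) * x * q⁻¹ := by group
            _ = z * (q * x * q⁻¹) := by rw [hz'c q hqQ]; group
            _ = x := by rw [hqx, ← mul_assoc, hzz, one_mul]
        have hqz' : q * z * q⁻¹ = z := by rw [hz'c q hqQ]; group
        simp only [hmemK]
        constructor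
        · rintro ⟨hkx, hkz⟩
          have hkzx : k * (z * x) = z * x * k := by
            rw [← mul_assoc, hkz, mul_assoc, hkx, mul_assoc]
          constructor
          · calc q * k * q⁻¹ * x = q * k * q⁻¹ * (q * (z * x) * q⁻¹) := by rw [hqzx]
              _ = q * (k * (z * x)) * q⁻¹ := by group
              _ = (q * (z * x) * q⁻¹) * (q * k * q⁻¹) := by rw [hkzx]; group
              _ = x * (q * k * q⁻¹) := by rw [hqzx]
          · calc q * k * q⁻¹ * z = q * k * q⁻¹ * (q * z * q⁻¹) := by rw [hqz']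
              _ = q * (k * z) * q⁻¹ := by group
              _ = (q * z * q⁻¹) * (q * k * q⁻¹) := by rw [hkz]; group
              _ = z * (q * k * q⁻¹) := by rw [hqz']
        · rintro ⟨hkx, hkz⟩
          have hkzx : q * k * q⁻¹ * (z * x) = z * x * (q * k * q⁻¹) := by
            rw [← mul_assoc, hkz, mul_assoc, hkx, mul_assoc z x]
          constructor
          · apply mul_left_cancel (a := q)
            apply mul_right_cancel (b := q⁻¹)
            calc q * (k * x) * q⁻¹ = (q * k * q⁻¹) * (q * x * q⁻¹) := by group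
              _ = (q * x * q⁻¹) * (q * k * q⁻¹) := by rw [hqx, hkzx]
              _ = q * (x * k) * q⁻¹ := by group
          · apply mul_left_cancel (a := q)
            apply mul_right_cancel (b := q⁻¹)
            calc q * (k * z) * q⁻¹ = (q * k * q⁻¹) * (q * z * q⁻¹) := by group
              _ = (q * z * q⁻¹) * (q * k * q⁻¹) := by rw [hqz', hkz]
              _ = q * (z * k) * q⁻¹ := by group
      have : (K.subgroupOf N).Normal :=
        Subgroup.normal_subgroupOf_of_le_normalizer inf_le_right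
      have hord : orderOf (QuotientGroup.mk ⟨q, hqN⟩ : N ⧸ K.subgroupOf N) = 2 := by
        refine orderOf_eq_prime ?_ ?_
        · rw [← QuotientGroup.mk_pow, QuotientGroup.eq_one_iff, mem_subgroupOf, sq]
          show q * q ∈ K
          have hqq : q * q ∈ zpowers z := hZ ▸ ⟨_, sq_mem_center hE ⟨q, hqQ⟩, rfl⟩
          exact (zpowers_le.2 (hmemK.2 ⟨hxzc.symm, rfl⟩)) hqq
        · rw [Ne, QuotientGroup.eq_one_iff, mem_subgroupOf]
          exact hqK
      have h3 : 2 ∣ K.relIndex N := by
        rw [relIndex, index_eq_card, ← hord]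
        exact orderOf_dvd_natCard _
      have h4 := relIndex_mul_relIndex ⊥ K N bot_le hKN
      rw [relIndex_bot_left, relIndex_bot_left] at h4
      calc 2 * Nat.card K ∣ K.relIndex N * Nat.card K := mul_dvd_mul_right h3 _
        _ = Nat.card N := by rw [← h4, mul_comm]
        _ ∣ _ := card_dvd_of_le inf_le_left
    have hcx : Nat.card (centralizer ({x} : Set G)) = Nat.card (centralizer ({z} : Set G)) := by
      have hconj : (centralizer ({z} : Set G)).map (MulAut.conj g).toMonoidHom
          = centralizer ({x} : Set G) := by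
        ext y
        constructor
        · rintro ⟨c, hc, rfl⟩
          rw [SetLike.mem_coe, mem_centralizer_singleton_iff] at hc
          rw [mem_centralizer_singleton_iff]
          simp only [MulEquiv.coe_toMonoidHom, MulAut.conj_apply, hx]
          calc g * c * g⁻¹ * (g * z * g⁻¹) = g * (c * z) * g⁻¹ := by group
            _ = g * z * g⁻¹ * (g * c * g⁻¹) := by rw [hc]; group
        · intro hy
          refine ⟨g⁻¹ * y * g, ?_, by simp [mul_assoc]⟩
          rw [mem_centralizer_singleton_iff] at hy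
          rw [SetLike.mem_coe, mem_centralizer_singleton_iff]
          calc g⁻¹ * y * g * z = g⁻¹ * (y * x) * g := by rw [hx]; group
            _ = z * (g⁻¹ * y * g) := by rw [hy, hx]; group
      rw [← hconj, card_map_of_injective (MulEquiv.injective _)]
    have h5 : Nat.card (T₁ : Subgroup (centralizer ({x} : Set G))) = Nat.card (T : Subgroup K) := by
      rw [← h, Nat.card_congr (subgroupOfEquivOfLe (hT'K.trans inf_le_left)).toEquiv,
        card_map_of_injective K.subtype_injective]
    rw [Sylow.card_eq_multiplicity, Sylow.card_eq_multiplicity, hcx] at h5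
    have h6 := Nat.pow_right_injective le_rfl h5
    have hK0 : Nat.card K ≠ 0 := Nat.card_pos.ne'
    have h7 := (Nat.factorization_le_iff_dvd (by positivity) Nat.card_pos.ne').2 h2 2
    rw [Nat.factorization_mul two_ne_zero hK0] at h7
    simp [Nat.Prime.factorization_self Nat.prime_two] at h7
    omega
  have : Group.IsNilpotent (T₁ : Subgroup (centralizer ({x} : Set G))) := T₁.2.isNilpotent
  have hlt : (T'.subgroupOf (centralizer ({x} : Set G))).subgroupOf
      (T₁ : Subgroup (centralizer ({x} : Set G))) < ⊤ :=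
    lt_top_iff_ne_top.2 fun h => not_le_of_gt hne (subgroupOf_eq_top.1 h)
  obtain ⟨n', hn'N, hn'T⟩ := SetLike.exists_of_lt
    (Group.normalizerCondition_of_isNilpotent _ hlt)
  let n : G := ((n' : centralizer ({x} : Set G)) : G)
  have hnx : n * x = x * n := mem_centralizer_singleton_iff.1 (n' : centralizer ({x} : Set G)).2
  have hnorm : ∀ t ∈ T', n * t * n⁻¹ ∈ T' := by
    intro t ht
    have htC : t ∈ centralizer ({x} : Set G) := (hT'K ht).1
    have ht1 : (⟨t, htC⟩ : centralizer ({x} : Set G)) ∈ (T₁ : Subgroup _) := hne.le ht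
    exact (mem_normalizer_iff.1 hn'N ⟨⟨t, htC⟩, ht1⟩).1 ht
  have hzT : z ∈ T' := hRT ⟨hz'Q, mem_centralizer_singleton_iff.2 hxzc.symm⟩
  have hncR : ∀ r ∈ Q, r * x = x * r → r * (n * z * n⁻¹) = n * z * n⁻¹ * r := by
    intro r hr hrx
    have hrT : r ∈ T' := hRT ⟨hr, mem_centralizer_singleton_iff.2 hrx⟩
    have hr' : n⁻¹ * r * n ∈ K := by
      refine hT'K ?_
      have hrC : r ∈ centralizer ({x} : Set G) := (hT'K hrT).1
      have hr1 : (⟨r, hrC⟩ : centralizer ({x} : Set G)) ∈ (T₁ : Subgroup _) := hne.le hrT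
      have := (mem_normalizer_iff.1 (inv_mem hn'N) ⟨⟨r, hrC⟩, hr1⟩).1 hrT
      simp only [mem_subgroupOf, coe_mul, InvMemClass.coe_inv, inv_inv] at this
      exact this
    have h1 := (hmemK.1 hr').2
    calc r * (n * z * n⁻¹) = n * ((n⁻¹ * r * n) * z) * n⁻¹ := by group
      _ = n * z * n⁻¹ * r := by rw [h1]; group
  have hnz : n * z * n⁻¹ ≠ z := by
    intro h
    apply hn'T
    have hnK : n ∈ K := hmemK.2 ⟨hnx, mul_inv_eq_iff_eq_mul.1 h⟩
    let P : Subgroup K := ((T₁ : Subgroup (centralizer ({x} : Set G))).map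
      (centralizer ({x} : Set G)).subtype).subgroupOf K
    have hP : IsPGroup 2 P := (T₁.2.map _).comap_subtype
    have hTP : (T : Subgroup K) ≤ P := fun t ht =>
      ⟨⟨t, t.2.1⟩, hne.le ⟨t, ht, rfl⟩, rfl⟩
    have hPT : P = (T : Subgroup K) := T.3 hP hTP
    have : (⟨n, hnK⟩ : K) ∈ (T : Subgroup K) := hPT ▸ ⟨_, n'.2, rfl⟩
    exact ⟨⟨n, hnK⟩, this, rfl⟩
  have hnzx : n * z * n⁻¹ = z * x := by
    rcases centralizer_perp_eq hE hz'Q hz'c hZ hz' hL2 hL3 hxQ hx2 hqQ hqx hzxne hncR
      with h | h | h | h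
    · exact absurd (by simpa [mul_inv_eq_one] using h) hz1
    · exact absurd h hnz
    · have : n * x * n⁻¹ = x := by rw [hnx]; group
      exact absurd (mul_left_cancel (mul_right_cancel (h.trans this.symm))).symm hxz
    · exact h
  refine ⟨⟨q, hqQ, hqx⟩, ⟨n, mem_centralizer_singleton_iff.2 hnx, hnzx⟩, ?_⟩
  -- `h = q n` maps `z` to `x` and `z x` to `z`
  have hqn : (q * n) * z * (q * n)⁻¹ = x := by
    calc q * n * z * (q * n)⁻¹ = q * (n * z * n⁻¹) * q⁻¹ := by group
      _ = q * z * x * q⁻¹ := by rw [hnzx, mul_assoc q z]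
      _ = z * (q * x * q⁻¹) := by rw [hz'c q hqQ]; group
      _ = x := by rw [hqx, ← mul_assoc, hzz, one_mul]
  have hqnzx : (q * n) * (z * x) * (q * n)⁻¹ = z := by
    calc q * n * (z * x) * (q * n)⁻¹
        = ((q * n) * z * (q * n)⁻¹) * (q * (n * x * n⁻¹) * q⁻¹) := by group
      _ = x * (q * x * q⁻¹) := by rw [hqn, hnx]; group
      _ = z := by rw [hqx, ← mul_assoc, hxzc, mul_assoc, hx2, mul_one]
  have hfix : (g⁻¹ * (q * n)) * z * (g⁻¹ * (q * n))⁻¹ = z := by
    calc g⁻¹ * (q * n) * z * (g⁻¹ * (q * n))⁻¹ = g⁻¹ * ((q * n) * z * (q * n)⁻¹) * g := by group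
      _ = z := by rw [hqn, hx]; group
  have hcN := hL3 (mem_centralizer_singleton_iff.2 (mul_inv_eq_iff_eq_mul.1 hfix))
  refine ⟨(g⁻¹ * (q * n)) * (z * x) * (g⁻¹ * (q * n))⁻¹,
    (mem_normalizer_iff.1 hcN _).1 (mul_mem hz'Q hxQ), ?_⟩
  simp only [MulEquiv.coe_toMonoidHom, MulAut.conj_apply]
  calc g * (g⁻¹ * (q * n) * (z * x) * (g⁻¹ * (q * n))⁻¹) * g⁻¹
      = (q * n) * (z * x) * (q * n)⁻¹ := by group
    _ = z := hqnzx

/-- The automizer of the four group `⟨z, x⟩` has order 6. -/
theorem relIndex_centralizer_normalizer_four {z x q n : G} (hz : z ≠ 1) (hx : x ≠ 1) (hxz : x ≠ z)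
    (hzz : z * z = 1) (hxx : x * x = 1) (hc : x * z = z * x)
    (hq1 : q * z * q⁻¹ = z) (hq2 : q * x * q⁻¹ = z * x)
    (hn1 : n * x * n⁻¹ = x) (hn2 : n * z * n⁻¹ = z * x) :
    (centralizer ((zpowers z ⊔ zpowers x : Subgroup G) : Set G)).relIndex
      (normalizer ((zpowers z ⊔ zpowers x : Subgroup G) : Set G)) = 6 := by
  classical
  let V : Subgroup G :=
    { carrier := {1, z, x, z * x}
      one_mem' := by simp
      mul_mem' := by
        intro a b ha hb
        have e1 : z * (z * x) = x := by rw [← mul_assoc, hzz, one_mul]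
        have e2 : x * (z * x) = z := by rw [← mul_assoc, hc, mul_assoc, hxx, mul_one]
        have e3 : z * x * z = x := by rw [mul_assoc, hc, e1]
        have e4 : z * x * x = z := by rw [mul_assoc, hxx, mul_one]
        have e5 : z * x * (z * x) = 1 := by rw [← mul_assoc, e3, hxx]
        simp only [Set.mem_insert_iff, Set.mem_singleton_iff] at ha hb ⊢
        rcases ha with rfl | rfl | rfl | rfl <;> rcases hb with rfl | rfl | rfl | rfl <;>
          simp [hzz, hxx, hc, e1, e2, e3, e4, e5]
      inv_mem' := by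
        intro a ha
        have hzi : z⁻¹ = z := inv_eq_of_mul_eq_one_right hzz
        have hxi : x⁻¹ = x := inv_eq_of_mul_eq_one_right hxx
        simp only [Set.mem_insert_iff, Set.mem_singleton_iff] at ha ⊢
        rcases ha with rfl | rfl | rfl | rfl <;> simp [hzi, hxi, hc] }
  have hV : zpowers z ⊔ zpowers x = V := by
    refine le_antisymm (sup_le ?_ ?_) ?_
    · rw [zpowers_le]; exact .inr (.inl rfl)
    · rw [zpowers_le]; exact .inr (.inr (.inl rfl))
    · rintro a (rfl | rfl | rfl | rfl)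
      · exact one_mem _
      · exact mem_sup_left (mem_zpowers _)
      · exact mem_sup_right (mem_zpowers _)
      · exact mul_mem (mem_sup_left (mem_zpowers _)) (mem_sup_right (mem_zpowers _))
  rw [hV]
  let N : Subgroup G := normalizer (V : Set G)
  let S := {y : G // y ∈ V ∧ y ≠ 1}
  let act : N →* Equiv.Perm S :=
    { toFun := fun c =>
        { toFun := fun y => ⟨c * y.1 * (c : G)⁻¹, (mem_normalizer_iff.1 c.2 _).1 y.2.1, by
            simpa [mul_inv_eq_one] using y.2.2⟩
          invFun := fun y => ⟨(c : G)⁻¹ * y.1 * c, by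
            simpa using (mem_normalizer_iff.1 (inv_mem c.2) _).1 y.2.1, by
            intro h
            refine y.2.2 ?_
            calc y.1 = (c : G) * ((c : G)⁻¹ * y.1 * c) * (c : G)⁻¹ := by group
              _ = 1 := by rw [h]; group⟩
          left_inv := fun y => Subtype.ext (by simp [mul_assoc])
          right_inv := fun y => Subtype.ext (by simp [mul_assoc]) }
      map_one' := by ext y; simp
      map_mul' := fun a b => by ext y; simp [mul_assoc] }
  have hker : act.ker = (centralizer (V : Set G)).subgroupOf N := by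
    ext c
    rw [MonoidHom.mem_ker, mem_subgroupOf, mem_centralizer_iff]
    constructor
    · intro h y hy
      by_cases hy1 : y = 1
      · simp [hy1]
      · have := congrArg Subtype.val (Equiv.ext_iff.1 h ⟨y, hy, hy1⟩)
        simp only [act, MonoidHom.coe_mk, OneHom.coe_mk, Equiv.coe_fn_mk, Equiv.Perm.one_apply] at this
        exact (mul_inv_eq_iff_eq_mul.1 this).symm
    · intro h
      ext y
      simp [act, ← h y.1 y.2.1]
  have hnorm : ∀ {c : G}, c * z * c⁻¹ ∈ V → c * x * c⁻¹ ∈ V → c ∈ N := by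
    intro c hcz hcx
    rw [mem_normalizer_iff_map_conj_eq]
    refine eq_of_le_of_card_ge ?_ ?_
    · rintro _ ⟨a, ha, rfl⟩
      show c * a * c⁻¹ ∈ V
      rcases ha with rfl | rfl | rfl | rfl
      · simp
      · exact hcz
      · exact hcx
      · have := mul_mem hcz hcx
        simpa [mul_assoc] using this
    · rw [card_map_of_injective (MulEquiv.injective _)]
  have hqN : q ∈ N := hnorm (by rw [hq1]; exact .inr (.inl rfl)) (by rw [hq2]; exact .inr (.inr (.inr rfl)))
  have hnN : n ∈ N := hnorm (by rw [hn2]; exact .inr (.inr (.inr rfl))) (by rw [hn1]; exact .inr (.inr (.inl rfl)))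
  have hS : Nat.card S = 3 := by
    have hset : {y : G | y ∈ V ∧ y ≠ 1} = ({z, x, z * x} : Set G) := by
      ext y
      constructor
      · rintro ⟨h | h | h | h, h1⟩
        · exact absurd h h1
        · exact .inl h
        · exact .inr (.inl h)
        · exact .inr (.inr h)
      · rintro (h | h | h) <;> subst h
        · exact ⟨.inr (.inl rfl), hz⟩
        · exact ⟨.inr (.inr (.inl rfl)), hx⟩
        · exact ⟨.inr (.inr (.inr rfl)), fun h => hxz
            ((eq_inv_of_mul_eq_one_right h).trans (inv_eq_of_mul_eq_one_right hzz))⟩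
    rw [show Nat.card S = {y : G | y ∈ V ∧ y ≠ 1}.ncard from rfl, hset,
      Set.ncard_insert_of_notMem, Set.ncard_pair]
    · simpa using hz
    · simp only [Set.mem_insert_iff, Set.mem_singleton_iff, not_or]
      exact ⟨fun h => hxz h.symm, fun h => hx (by simpa using h.symm)⟩
  let zS : S := ⟨z, .inr (.inl rfl), hz⟩
  let xS : S := ⟨x, .inr (.inr (.inl rfl)), hx⟩
  have hzx : z * x ≠ z := fun h => hx (by simpa using h)
  have hzx' : z * x ≠ x := fun h => hz (by simpa using h)
  have h2 : 2 ∣ Nat.card act.range := by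
    have hord : orderOf (act ⟨q, hqN⟩) = 2 := by
      refine orderOf_eq_prime ?_ ?_
      · rw [sq, ← map_mul, ← MonoidHom.mem_ker, hker, mem_subgroupOf, mem_centralizer_iff]
        intro y hy
        have hz' : q * q * z * (q * q)⁻¹ = z := by
          calc q * q * z * (q * q)⁻¹ = q * (q * z * q⁻¹) * q⁻¹ := by group
            _ = z := by rw [hq1, hq1]
        have hx' : q * q * x * (q * q)⁻¹ = x := by
          calc q * q * x * (q * q)⁻¹ = (q * z * q⁻¹) * (q * x * q⁻¹) := by
                calc _ = q * (q * x * q⁻¹) * q⁻¹ := by group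
                  _ = q * (z * x) * q⁻¹ := by rw [hq2]
                  _ = _ := by group
            _ = x := by rw [hq1, hq2, ← mul_assoc, hzz, one_mul]
        have e1 : q * q * z = z * (q * q) := mul_inv_eq_iff_eq_mul.1 hz'
        have e2 : q * q * x = x * (q * q) := mul_inv_eq_iff_eq_mul.1 hx'
        show y * (q * q) = q * q * y
        rcases hy with rfl | rfl | rfl | rfl
        · simp
        · exact e1.symm
        · exact e2.symm
        · rw [mul_assoc z x, ← e2, ← mul_assoc z, ← e1, mul_assoc (q * q)]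
      · intro h
        have := congrArg Subtype.val (Equiv.ext_iff.1 h xS)
        exact hzx' (hq2.symm.trans this)
    rw [← hord, ← Subgroup.orderOf_mk (H := act.range) (act ⟨q, hqN⟩) ⟨_, rfl⟩]
    exact orderOf_dvd_natCard _
  have h3 : 3 ∣ Nat.card act.range := by
    have hm : q * n * z * (q * n)⁻¹ = x := by
      calc q * n * z * (q * n)⁻¹ = q * (n * z * n⁻¹) * q⁻¹ := by group
        _ = (q * z * q⁻¹) * (q * x * q⁻¹) := by rw [hn2]; group
        _ = x := by rw [hq1, hq2, ← mul_assoc, hzz, one_mul]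
    have hm2 : q * n * x * (q * n)⁻¹ = z * x := by
      calc q * n * x * (q * n)⁻¹ = q * (n * x * n⁻¹) * q⁻¹ := by group
        _ = z * x := by rw [hn1, hq2]
    have hord : orderOf (act ⟨q * n, mul_mem hqN hnN⟩) = 3 := by
      have : Fact (Nat.Prime 3) := ⟨by norm_num⟩
      refine orderOf_eq_prime ?_ ?_
      · rw [← map_pow, ← MonoidHom.mem_ker, hker, mem_subgroupOf, mem_centralizer_iff]
        intro y hy
        show y * (q * n) ^ 3 = (q * n) ^ 3 * y
        have hmzx : q * n * (z * x) * (q * n)⁻¹ = z := by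
          calc q * n * (z * x) * (q * n)⁻¹
              = (q * n * z * (q * n)⁻¹) * (q * n * x * (q * n)⁻¹) := by group
            _ = z := by rw [hm, hm2, ← mul_assoc, hc, mul_assoc, hxx, mul_one]
        have e : ∀ {a b c d : G}, q * n * a * (q * n)⁻¹ = b → q * n * b * (q * n)⁻¹ = c →
            q * n * c * (q * n)⁻¹ = d → a = d → a * (q * n) ^ 3 = (q * n) ^ 3 * a := by
          intro a b c d ha hb hc' had
          have : (q * n) ^ 3 * a * ((q * n) ^ 3)⁻¹ = a := by
            calc (q * n) ^ 3 * a * ((q * n) ^ 3)⁻¹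
                = (q * n) * ((q * n) * ((q * n) * a * (q * n)⁻¹) * (q * n)⁻¹) * (q * n)⁻¹ := by
                  simp only [pow_succ, pow_zero, one_mul]; group
              _ = a := by rw [ha, hb, hc', had]
          exact (mul_inv_eq_iff_eq_mul.1 this).symm
        rcases hy with rfl | rfl | rfl | rfl
        · simp
        · exact e hm hm2 hmzx rfl
        · exact e hm2 hmzx hm rfl
        · exact e hmzx hm hm2 rfl
      · intro h
        have := congrArg Subtype.val (Equiv.ext_iff.1 h zS)
        exact hxz (hm.symm.trans this)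
    rw [← hord, ← Subgroup.orderOf_mk (H := act.range) (act ⟨q * n, mul_mem hqN hnN⟩) ⟨_, rfl⟩]
    exact orderOf_dvd_natCard _
  have h6 : Nat.card act.range ≤ 6 := by
    refine (card_le_card_group _).trans ?_
    rw [Nat.card_perm, hS]
    decide
  have hpos : 0 < Nat.card act.range := Nat.card_pos
  have h23 : 6 ∣ Nat.card act.range := Nat.Coprime.mul_dvd_of_dvd_of_dvd (by norm_num) h2 h3
  have := Nat.le_of_dvd hpos h23
  show ((centralizer (V : Set G)).subgroupOf N).index = 6
  rw [← hker, index_ker]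
  omega

end CfsgLib.LargeExtra
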