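import Mathlib
import Cfsg.Agent.Lib.LargeExtra.Symm
import Cfsg.Agent.Lib.Cores.Basic

/-!
The subgroups generated by a large extraspecial `Q` and the conjugate attached to a second point of
`Q`: `X = ⟨Q, Q^g⟩` induces the full automizer of the four group, with kernel the 2-group `R`.
-/

namespace CfsgLib.LargeExtra

open Subgroup Cfsg

variable {G : Type*} [Group G] [Finite G]

omit [Finite G] in
theorem braid_of {a b : G} (haa : a * a = 1) (hbb : b * b = 1) (hb : b ≠ 1)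
    (h : b⁻¹ * (a * b * a⁻¹) * b = 1 ∨ b⁻¹ * (a * b * a⁻¹) * b = a) : a * b * a = b * a * b := by
  have hai : a⁻¹ = a := inv_eq_of_mul_eq_one_left haa
  have hbi : b⁻¹ = b := inv_eq_of_mul_eq_one_left hbb
  rcases h with h | h
  · exact absurd (conj_eq_one_iff.1 (by simpa [mul_assoc] using h : b⁻¹ * (a * b * a⁻¹) * b⁻¹⁻¹ = 1)) (fun h1 =>
      hb (conj_eq_one_iff.1 h1))
  · rw [hai, hbi] at h
    calc a * b * a = b * (b * (a * b * a) * b) * b := by
          simp only [← mul_assoc, hbb, one_mul]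
          simp only [mul_assoc, hbb, mul_one]
      _ = b * a * b := by rw [h]

omit [Finite G] in
theorem mul_W_mem {a b s w : G} (haa : a * a = 1) (hbb : b * b = 1)
    (hbr : a * b * a = b * a * b) (hs : s = a ∨ s = b)
    (hw : w ∈ ({1, a, b, a * b, b * a, a * b * a} : Set G)) :
    s * w ∈ ({1, a, b, a * b, b * a, a * b * a} : Set G) := by
  have h1 : a * (a * b) = b := by rw [← mul_assoc, haa, one_mul]
  have h2 : a * (a * b * a) = b * a := by rw [← mul_assoc, h1]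
  have h3 : b * (b * a) = a := by rw [← mul_assoc, hbb, one_mul]
  have h4 : b * (a * b * a) = a * b := by
    rw [hbr, ← mul_assoc, ← mul_assoc, hbb, one_mul]
  have h5 : b * (a * b) = a * b * a := by rw [← mul_assoc, hbr]
  have h6 : a * (b * a) = a * b * a := (mul_assoc a b a).symm
  simp only [Set.mem_insert_iff, Set.mem_singleton_iff] at hw ⊢
  rcases hs with hs | hs <;> rcases hw with hw | hw | hw | hw | hw | hw <;> rw [hs, hw]
  all_goals simp [haa, hbb, h1, h2, h3, h4, h5, h6]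

theorem perm_three_two_normal_bot {N : Subgroup (Equiv.Perm (Fin 3))} (hN : N.Normal)
    (hp : IsPGroup 2 N) : N = ⊥ := by
  rw [eq_bot_iff]
  intro σ hσ
  by_contra hne
  rw [mem_bot] at hne
  obtain ⟨τ, hτ⟩ : ∃ τ, (σ * (τ * σ * τ⁻¹)) ^ 3 = 1 ∧ σ * (τ * σ * τ⁻¹) ≠ 1 := by
    clear hσ; revert σ; decide +kernel
  have hmem : σ * (τ * σ * τ⁻¹) ∈ N := mul_mem hσ (hN.conj_mem σ hσ τ)
  obtain ⟨k, hk⟩ := hp ⟨_, hmem⟩
  have h3 : orderOf (σ * (τ * σ * τ⁻¹)) = 3 := orderOf_eq_prime hτ.1 hτ.2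
  have hd : orderOf (σ * (τ * σ * τ⁻¹)) ∣ 2 ^ k := orderOf_dvd_of_pow_eq_one (congrArg Subtype.val hk)
  rw [h3] at hd
  exact absurd (Nat.prime_three.dvd_of_dvd_pow hd) (by decide)

/-- The data of two orthogonal conjugates: `x` is a conjugate of `z` in `Q`, other than `z`. -/
structure PairHyp (Q : Subgroup G) (z g : G) : Prop where
  extra : IsExtraspecial 2 Q
  centre : (center Q).map Q.subtype = zpowers z
  ord : orderOf z = 2
  self : centralizer (Q : Set G) = (center Q).map Q.subtype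
  normal : centralizer ({z} : Set G) ≤ normalizer (Q : Set G)
  mem : g * z * g⁻¹ ∈ Q
  ne : g * z * g⁻¹ ≠ z

namespace PairHyp

variable {Q : Subgroup G} {z g : G}

set_option quotPrecheck false

local notation "x'" => g * z * g⁻¹
local notation "Qg" => (Subgroup.map (MulEquiv.toMonoidHom (MulAut.conj g)) Q : Subgroup _)
local notation "V'" => (Subgroup.closure ({z, g * z * g⁻¹} : Set G) : Subgroup _)
local notation "A'" => (Q ⊓ Subgroup.centralizer ({g * z * g⁻¹} : Set G) : Subgroup _)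
local notation "B'" =>
  (Subgroup.map (MulEquiv.toMonoidHom (MulAut.conj g)) Q ⊓ Subgroup.centralizer ({z} : Set G) :
    Subgroup _)
local notation "R'" =>
  ((Subgroup.map (MulEquiv.toMonoidHom (MulAut.conj g)) Q ⊓ Subgroup.centralizer ({z} : Set G)) ⊔
    (Q ⊓ Subgroup.centralizer ({g * z * g⁻¹} : Set G)) : Subgroup _)
local notation "X'" => (Q ⊔ Subgroup.map (MulEquiv.toMonoidHom (MulAut.conj g)) Q : Subgroup _)
local notation "E'" => (Q ⊓ Subgroup.map (MulEquiv.toMonoidHom (MulAut.conj g)) Q : Subgroup _)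

variable (h : PairHyp Q z g)

include h

theorem zz : z * z = 1 := by rw [← sq, ← h.ord, pow_orderOf_eq_one]

theorem z_ne_one : z ≠ 1 := fun hz => by
  have := h.ord
  rw [hz, orderOf_one] at this
  omega

theorem xx : x' * x' = 1 := by
  calc g * z * g⁻¹ * (g * z * g⁻¹) = g * (z * z) * g⁻¹ := by group
    _ = 1 := by rw [h.zz]; group

theorem x_ne_one : x' ≠ 1 := fun hx => h.z_ne_one (conj_eq_one_iff.1 hx)

theorem zp_cases : ∀ y ∈ zpowers z, y = 1 ∨ y = z := by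
  intro y hy
  obtain ⟨k, rfl⟩ := mem_zpowers_iff.1 hy
  have h2 : z ^ (2 : ℤ) = 1 := by rw [zpow_two, h.zz]
  rcases Int.even_or_odd k with ⟨j, hj⟩ | ⟨j, hj⟩
  · left; rw [hj, ← two_mul, zpow_mul, h2, one_zpow]
  · right; rw [hj, zpow_add, zpow_mul, h2, one_zpow, one_mul, zpow_one]

theorem z_mem : z ∈ Q := by
  have : z ∈ (center Q).map Q.subtype := h.centre ▸ mem_zpowers z
  exact map_subtype_le _ this

theorem z_comm {y : G} (hy : y ∈ Q) : y * z = z * y := by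
  obtain ⟨c, hc, hcz⟩ : z ∈ (center Q).map Q.subtype := h.centre ▸ mem_zpowers z
  rw [← hcz]
  exact congrArg Subtype.val (mem_center_iff.1 hc ⟨y, hy⟩)

theorem xz : x' * z = z * x' := h.z_comm h.mem

theorem comm_cases {a b : G} (ha : a ∈ Q) (hb : b ∈ Q) :
    a * b * a⁻¹ * b⁻¹ = 1 ∨ a * b * a⁻¹ * b⁻¹ = z :=
  h.zp_cases _ (h.centre ▸ ⟨_, comm_mem_center h.extra ⟨a, ha⟩ ⟨b, hb⟩, rfl⟩)

theorem sq_cases {a : G} (ha : a ∈ Q) : a * a = 1 ∨ a * a = z :=
  h.zp_cases _ (h.centre ▸ ⟨_, sq_mem_center h.extra ⟨a, ha⟩, rfl⟩)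

theorem automizer : (∃ q ∈ Q, q * x' * q⁻¹ = z * x') ∧ z ∈ Qg := by
  obtain ⟨h1, -, h3⟩ := four_group_automizer h.extra h.ord h.centre h.self h.normal h.mem h.ne
  exact ⟨h1, h3⟩

omit h in
theorem mem_map_iff {y : G} : y ∈ Qg ↔ g⁻¹ * y * g ∈ Q := by
  constructor
  · rintro ⟨w, hw, rfl⟩
    simpa [mul_assoc] using hw
  · exact fun hy => ⟨_, hy, by simp [mul_assoc]⟩

theorem x_mem_map : x' ∈ Qg := mem_map_iff.2 (by simpa [mul_assoc] using h.z_mem)

theorem map_comm {y : G} (hy : y ∈ Qg) : y * x' = x' * y := by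
  have h1 := h.z_comm (mem_map_iff.1 hy)
  calc y * (g * z * g⁻¹) = g * ((g⁻¹ * y * g) * z) * g⁻¹ := by group
    _ = g * z * g⁻¹ * y := by rw [h1]; group

theorem map_comm_cases {a b : G} (ha : a ∈ Qg) (hb : b ∈ Qg) :
    a * b * a⁻¹ * b⁻¹ = 1 ∨ a * b * a⁻¹ * b⁻¹ = x' := by
  have e : a * b * a⁻¹ * b⁻¹ =
      g * (g⁻¹ * a * g * (g⁻¹ * b * g) * (g⁻¹ * a * g)⁻¹ * (g⁻¹ * b * g)⁻¹) * g⁻¹ := by group
  rcases h.comm_cases (mem_map_iff.1 ha) (mem_map_iff.1 hb) with h1 | h1 <;> rw [e, h1]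
  · left; group
  · right; rfl

theorem map_sq_cases {a : G} (ha : a ∈ Qg) : a * a = 1 ∨ a * a = x' := by
  have e : a * a = g * (g⁻¹ * a * g * (g⁻¹ * a * g)) * g⁻¹ := by group
  rcases h.sq_cases (mem_map_iff.1 ha) with h1 | h1 <;> rw [e, h1]
  · left; group
  · right; rfl

theorem normalizer_map : centralizer ({x'} : Set G) ≤ normalizer (Qg : Set G) := by
  intro c hc
  rw [mem_centralizer_singleton_iff] at hc
  have hc' : g⁻¹ * c * g ∈ centralizer ({z} : Set G) := by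
    rw [mem_centralizer_singleton_iff]
    calc g⁻¹ * c * g * z = g⁻¹ * (c * (g * z * g⁻¹)) * g := by group
      _ = z * (g⁻¹ * c * g) := by rw [hc]; group
  rw [mem_normalizer_iff]
  intro w
  rw [mem_map_iff, mem_map_iff]
  have := mem_normalizer_iff.1 (h.normal hc') (g⁻¹ * w * g)
  simpa [mul_assoc] using this

theorem V_cases {y : G} (hy : y ∈ V') : y = 1 ∨ y = z ∨ y = x' ∨ y = z * x' := by
  have hc1 : ∀ w, z * (z * w) = w := fun w => by rw [← mul_assoc, h.zz, one_mul]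
  have hc3 : ∀ w, x' * (z * w) = z * (x' * w) := fun w => by rw [← mul_assoc, h.xz, mul_assoc]
  induction hy using closure_induction with
  | mem y hy => rcases hy with rfl | rfl <;> simp
  | one => exact .inl rfl
  | mul a b _ _ ha hb =>
    generalize hxg : x' = x at *
    have hxx : x * x = 1 := hxg ▸ h.xx
    have hxz : x * z = z * x := hxg ▸ h.xz
    have hc2 : ∀ w, x * (x * w) = w := fun w => by rw [← mul_assoc, hxx, one_mul]
    rcases ha with rfl | rfl | rfl | rfl <;> rcases hb with rfl | rfl | rfl | rfl <;>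
      simp [mul_assoc, h.zz, hxx, hxz, hc1, hc2, hc3]
  | inv a _ ha =>
    generalize hxg : x' = x at *
    have hxi : x⁻¹ = x := inv_eq_of_mul_eq_one_left (hxg ▸ h.xx)
    have hzi : z⁻¹ = z := inv_eq_of_mul_eq_one_left h.zz
    have hxz : x * z = z * x := hxg ▸ h.xz
    rcases ha with rfl | rfl | rfl | rfl <;> simp [hxi, hzi, hxz]

omit h in
theorem mem_centralizer_V {c : G} :
    c ∈ centralizer (V' : Set G) ↔ c * z = z * c ∧ c * x' = x' * c := by
  rw [centralizer_closure, mem_centralizer_iff]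
  simp only [Set.mem_insert_iff, Set.mem_singleton_iff, forall_eq_or_imp, forall_eq]
  exact ⟨fun h => ⟨h.1.symm, h.2.symm⟩, fun h => ⟨h.1.symm, h.2.symm⟩⟩

theorem mem_normalizer_V {c : G} (h1 : c * z * c⁻¹ ∈ V') (h2 : c * x' * c⁻¹ ∈ V') :
    c ∈ normalizer (V' : Set G) := by
  rw [mem_normalizer_iff_map_conj_eq]
  refine eq_of_le_of_card_ge ?_ (by rw [card_map_of_injective (MulEquiv.injective _)])
  rw [MonoidHom.map_closure, closure_le]
  rintro _ ⟨y, rfl | rfl, rfl⟩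
  exacts [h1, h2]

theorem Q_le_normalizer_V : Q ≤ normalizer (V' : Set G) := fun q hq => by
  refine h.mem_normalizer_V ?_ ?_
  · rw [h.z_comm hq, mul_inv_cancel_right]
    exact subset_closure (Set.mem_insert _ _)
  · rcases h.comm_cases hq h.mem with h1 | h1
    · rw [mul_inv_eq_one.1 h1]; exact subset_closure (Set.mem_insert_of_mem _ rfl)
    · rw [eq_mul_of_mul_inv_eq h1]
      exact mul_mem (subset_closure (Set.mem_insert _ _)) (subset_closure (Set.mem_insert_of_mem _ rfl))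

theorem map_le_normalizer_V : Qg ≤ normalizer (V' : Set G) := fun r hr => by
  refine h.mem_normalizer_V ?_ ?_
  · rcases h.map_comm_cases hr h.automizer.2 with h1 | h1
    · rw [mul_inv_eq_one.1 h1]; exact subset_closure (Set.mem_insert _ _)
    · rw [eq_mul_of_mul_inv_eq h1]
      exact mul_mem (subset_closure (Set.mem_insert_of_mem _ rfl)) (subset_closure (Set.mem_insert _ _))
  · rw [h.map_comm hr, mul_inv_cancel_right]
    exact subset_closure (Set.mem_insert_of_mem _ rfl)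

theorem X_le_normalizer_V : X' ≤ normalizer (V' : Set G) :=
  sup_le h.Q_le_normalizer_V h.map_le_normalizer_V

omit h in
theorem conj_centralizer {n c : G} (hn : n ∈ normalizer (V' : Set G))
    (hc : c ∈ centralizer (V' : Set G)) : n * c * n⁻¹ ∈ centralizer (V' : Set G) := by
  rw [mem_centralizer_iff] at hc ⊢
  intro v hv
  have hv' : n⁻¹ * v * n ∈ V' := by
    simpa using (mem_normalizer_iff.1 (inv_mem hn) v).1 hv
  calc v * (n * c * n⁻¹) = n * ((n⁻¹ * v * n) * c) * n⁻¹ := by group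
    _ = n * c * n⁻¹ * v := by rw [hc _ hv']; group

theorem mem_A_iff {a : G} : a ∈ A' ↔ a ∈ Q ∧ a ∈ centralizer (V' : Set G) := by
  rw [mem_inf, mem_centralizer_singleton_iff, mem_centralizer_V]
  exact ⟨fun ha => ⟨ha.1, h.z_comm ha.1, ha.2⟩, fun ha => ⟨ha.1, ha.2.2⟩⟩

theorem mem_B_iff {b : G} : b ∈ B' ↔ b ∈ Qg ∧ b ∈ centralizer (V' : Set G) := by
  rw [mem_inf, mem_centralizer_singleton_iff, mem_centralizer_V]
  exact ⟨fun hb => ⟨hb.1, hb.2, h.map_comm hb.1⟩, fun hb => ⟨hb.1, hb.2.1⟩⟩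

theorem centralizer_V_normalizes {c : G} (hc : c ∈ centralizer (V' : Set G)) :
    c ∈ normalizer (Q : Set G) ∧ c ∈ normalizer (Qg : Set G) := by
  obtain ⟨h1, h2⟩ := mem_centralizer_V.1 hc
  exact ⟨h.normal (mem_centralizer_singleton_iff.2 h1),
    h.normalizer_map (mem_centralizer_singleton_iff.2 h2)⟩

theorem R_le_centralizer : R' ≤ centralizer (V' : Set G) :=
  sup_le (fun _ hb => (h.mem_B_iff.1 hb).2) (fun _ ha => (h.mem_A_iff.1 ha).2)

theorem R_le_X : R' ≤ X' :=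
  sup_le (inf_le_left.trans le_sup_right) (inf_le_left.trans le_sup_left)

theorem inter_eq : B' ⊓ A' = E' := by
  ext y
  constructor
  · rintro ⟨hb, ha⟩; exact ⟨ha.1, hb.1⟩
  · rintro ⟨hq, hg⟩
    exact ⟨⟨hg, mem_centralizer_singleton_iff.2 (h.z_comm hq)⟩,
      ⟨hq, mem_centralizer_singleton_iff.2 (h.map_comm hg)⟩⟩

theorem conj_mem_of_mem_normalizer_V {n : G} (hn : n ∈ normalizer (V' : Set G))
    (hnQ : n ∈ normalizer (Q : Set G)) {a : G} (ha : a ∈ A') : n * a * n⁻¹ ∈ A' := by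
  obtain ⟨h1, h2⟩ := h.mem_A_iff.1 ha
  exact h.mem_A_iff.2 ⟨(mem_normalizer_iff.1 hnQ a).1 h1, conj_centralizer hn h2⟩

theorem conj_mem_B {n : G} (hn : n ∈ normalizer (V' : Set G)) (hnQ : n ∈ normalizer (Qg : Set G))
    {b : G} (hb : b ∈ B') : n * b * n⁻¹ ∈ B' := by
  obtain ⟨h1, h2⟩ := h.mem_B_iff.1 hb
  exact h.mem_B_iff.2 ⟨(mem_normalizer_iff.1 hnQ b).1 h1, conj_centralizer hn h2⟩

omit h in
theorem conj_sup {H K : Subgroup G} {n : G} (hH : ∀ y ∈ H, n * y * n⁻¹ ∈ H ⊔ K)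
    (hK : ∀ y ∈ K, n * y * n⁻¹ ∈ H ⊔ K) : n ∈ normalizer ((H ⊔ K : Subgroup G) : Set G) := by
  rw [mem_normalizer_iff_map_conj_eq]
  refine eq_of_le_of_card_ge ?_ (by rw [card_map_of_injective (MulEquiv.injective _)])
  rw [Subgroup.map_sup]
  refine sup_le ?_ ?_ <;> rintro _ ⟨y, hy, rfl⟩
  exacts [hH y hy, hK y hy]

theorem X_le_normalizer_R : X' ≤ normalizer (R' : Set G) := by
  refine sup_le (fun q hq => ?_) (fun r hr => ?_)
  · refine conj_sup (fun b hb => ?_) (fun a ha => mem_sup_right ?_)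
    · obtain ⟨h1, h2⟩ := h.mem_B_iff.1 hb
      have hQn : b * q⁻¹ * b⁻¹ ∈ Q :=
        (mem_normalizer_iff.1 (h.centralizer_V_normalizes h2).1 _).1 (inv_mem hq)
      have hc : q * (b * q⁻¹ * b⁻¹) ∈ A' := by
        refine h.mem_A_iff.2 ⟨mul_mem hq hQn, ?_⟩
        rw [show q * (b * q⁻¹ * b⁻¹) = q * b * q⁻¹ * b⁻¹ by group]
        exact mul_mem (conj_centralizer (h.Q_le_normalizer_V hq) h2) (inv_mem h2)
      rw [show q * b * q⁻¹ = q * (b * q⁻¹ * b⁻¹) * b by group]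
      exact mul_mem (mem_sup_right hc) (mem_sup_left hb)
    · exact h.conj_mem_of_mem_normalizer_V (h.Q_le_normalizer_V hq) (Subgroup.le_normalizer hq) ha
  · refine conj_sup (fun b hb => mem_sup_left ?_) (fun a ha => ?_)
    · exact h.conj_mem_B (h.map_le_normalizer_V hr) (Subgroup.le_normalizer hr) hb
    · obtain ⟨h1, h2⟩ := h.mem_A_iff.1 ha
      have hQn : a * r⁻¹ * a⁻¹ ∈ Qg :=
        (mem_normalizer_iff.1 (h.centralizer_V_normalizes h2).2 _).1 (inv_mem hr)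
      have hc : r * (a * r⁻¹ * a⁻¹) ∈ B' := by
        refine h.mem_B_iff.2 ⟨mul_mem hr hQn, ?_⟩
        rw [show r * (a * r⁻¹ * a⁻¹) = r * a * r⁻¹ * a⁻¹ by group]
        exact mul_mem (conj_centralizer (h.map_le_normalizer_V hr) h2) (inv_mem h2)
      rw [show r * a * r⁻¹ = r * (a * r⁻¹ * a⁻¹) * a by group]
      exact mul_mem (mem_sup_left hc) (mem_sup_right ha)

theorem E_comm : ∀ a ∈ E', ∀ b ∈ E', a * b = b * a := by
  intro a ha b hb
  rcases h.comm_cases ha.1 hb.1 with h1 | h1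
  · rwa [mul_inv_eq_one, mul_inv_eq_iff_eq_mul] at h1
  · rcases h.map_comm_cases ha.2 hb.2 with h2 | h2
    · rwa [mul_inv_eq_one, mul_inv_eq_iff_eq_mul] at h2
    · exact absurd (h2.symm.trans h1) h.ne

theorem E_sq : ∀ a ∈ E', a * a = 1 := by
  intro a ha
  rcases h.sq_cases ha.1 with h1 | h1
  · exact h1
  · rcases h.map_sq_cases ha.2 with h2 | h2
    · exact h2
    · exact absurd (h2.symm.trans h1) h.ne

theorem elem_E : IsElementaryAbelian 2 E' :=
  ⟨⟨⟨fun a b => Subtype.ext (h.E_comm a a.2 b b.2)⟩⟩, fun a ha => by rw [sq]; exact h.E_sq a ha⟩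

theorem R_le_normalizer_E : R' ≤ normalizer (E' : Set G) := by
  intro r hr
  obtain ⟨h1, h2⟩ := h.centralizer_V_normalizes (h.R_le_centralizer hr)
  rw [mem_normalizer_iff]
  intro y
  simp only [mem_inf]
  rw [mem_normalizer_iff.1 h1 y, mem_normalizer_iff.1 h2 y]

theorem z_mem_E : z ∈ E' := ⟨h.z_mem, h.automizer.2⟩

theorem x_mem_E : x' ∈ E' := ⟨h.mem, h.x_mem_map⟩

/-- Modulo `E` the group `R` is elementary abelian. -/
theorem R_mod_E : ∀ a ∈ R', ∀ b ∈ R', a * b * a⁻¹ * b⁻¹ ∈ E' ∧ a ^ 2 ∈ E' := by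
  have hn : ((E').subgroupOf R').Normal := normal_subgroupOf_of_le_normalizer h.R_le_normalizer_E
  let π : ↥(R') →* (↥(R') ⧸ (E').subgroupOf R') := QuotientGroup.mk' _
  have hπ1 : ∀ y : ↥(R'), π y = 1 ↔ (y : G) ∈ E' := fun y =>
    (QuotientGroup.eq_one_iff y).trans mem_subgroupOf
  -- the two halves commute modulo `E`
  have hAB : ∀ a ∈ A', ∀ b ∈ B', a * b * a⁻¹ * b⁻¹ ∈ E' := by
    intro a ha b hb
    obtain ⟨ha1, ha2⟩ := h.mem_A_iff.1 ha
    obtain ⟨hb1, hb2⟩ := h.mem_B_iff.1 hb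
    refine mem_inf.2 ⟨?_, ?_⟩
    · rw [show a * b * a⁻¹ * b⁻¹ = a * (b * a⁻¹ * b⁻¹) by group]
      exact mul_mem ha1 ((mem_normalizer_iff.1 (h.centralizer_V_normalizes hb2).1 _).1 (inv_mem ha1))
    · exact mul_mem ((mem_normalizer_iff.1 (h.centralizer_V_normalizes ha2).2 _).1 hb1) (inv_mem hb1)
  let S : Set G := (B' : Set G) ∪ (A' : Set G)
  have hgen : ∀ a ∈ S, ∀ b ∈ S, a * b * a⁻¹ * b⁻¹ ∈ E' := by
    rintro a (ha | ha) b (hb | hb)
    · rcases h.map_comm_cases ha.1 hb.1 with h1 | h1 <;> rw [h1]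
      exacts [one_mem _, h.x_mem_E]
    · have := inv_mem (hAB b hb a ha)
      rwa [show (b * a * b⁻¹ * a⁻¹)⁻¹ = a * b * a⁻¹ * b⁻¹ by group] at this
    · exact hAB a ha b hb
    · rcases h.comm_cases ha.1 hb.1 with h1 | h1 <;> rw [h1]
      exacts [one_mem _, h.z_mem_E]
  have hsq : ∀ a ∈ S, a * a ∈ E' := by
    rintro a (ha | ha)
    · rcases h.map_sq_cases ha.1 with h1 | h1 <;> rw [h1]
      exacts [one_mem _, h.x_mem_E]
    · rcases h.sq_cases ha.1 with h1 | h1 <;> rw [h1]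
      exacts [one_mem _, h.z_mem_E]
  have hR : R' = closure S := by rw [Subgroup.closure_union, closure_eq, closure_eq]
  have hS : ∀ a ∈ S, a ∈ R' := fun a ha => hR ▸ subset_closure ha
  have comm1 : ∀ a ∈ S, ∀ y, ∀ hy : y ∈ R', ∀ ha' : a ∈ R',
      π ⟨a, ha'⟩ * π ⟨y, hy⟩ = π ⟨y, hy⟩ * π ⟨a, ha'⟩ := by
    intro a ha y hy ha'
    have hy' : y ∈ closure S := hR ▸ hy
    induction hy' using closure_induction with
    | mem y hy' =>
      rw [← mul_inv_eq_iff_eq_mul, ← mul_inv_eq_one]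
      exact (hπ1 ⟨_, mul_mem (mul_mem (mul_mem ha' hy) (inv_mem ha')) (inv_mem hy)⟩).2 (hgen a ha y hy')
    | one =>
      rw [show π ⟨1, hy⟩ = 1 from (hπ1 _).2 (one_mem _), mul_one, one_mul]
    | mul b c hb hc ihb ihc =>
      have e : π ⟨b * c, hy⟩ = π ⟨b, hR ▸ hb⟩ * π ⟨c, hR ▸ hc⟩ := rfl
      rw [e]
      exact Commute.mul_right (ihb (hR ▸ hb)) (ihc (hR ▸ hc))
    | inv b hb ihb =>
      have e : π ⟨b⁻¹, hy⟩ = (π ⟨b, hR ▸ hb⟩)⁻¹ := rfl
      rw [e]
      exact (Commute.inv_right (ihb (hR ▸ hb))).eq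
  have key : ∀ a, ∀ ha : a ∈ R', (∀ y, ∀ hy : y ∈ R',
      π ⟨a, ha⟩ * π ⟨y, hy⟩ = π ⟨y, hy⟩ * π ⟨a, ha⟩) ∧ π ⟨a, ha⟩ * π ⟨a, ha⟩ = 1 := by
    intro a ha
    have ha' : a ∈ closure S := hR ▸ ha
    induction ha' using closure_induction with
    | mem a ha' =>
      exact ⟨fun y hy => comm1 a ha' y hy ha, (hπ1 ⟨_, mul_mem ha ha⟩).2 (hsq a ha')⟩
    | one =>
      have e : π ⟨1, ha⟩ = 1 := (hπ1 _).2 (one_mem _)
      exact ⟨fun y hy => by rw [e, one_mul, mul_one], by rw [e, one_mul]⟩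
    | mul b c hb hc ihb ihc =>
      obtain ⟨b1, b2⟩ := ihb (hR ▸ hb)
      obtain ⟨c1, c2⟩ := ihc (hR ▸ hc)
      have e : π ⟨b * c, ha⟩ = π ⟨b, hR ▸ hb⟩ * π ⟨c, hR ▸ hc⟩ := rfl
      refine ⟨fun y hy => ?_, ?_⟩
      · rw [e]
        exact Commute.mul_left (b1 y hy) (c1 y hy)
      · rw [e]
        calc _ = π ⟨b, hR ▸ hb⟩ * π ⟨b, hR ▸ hb⟩ * (π ⟨c, hR ▸ hc⟩ * π ⟨c, hR ▸ hc⟩) :=
              Commute.mul_mul_mul_comm (c1 b (hR ▸ hb)) _ _
          _ = 1 := by rw [b2, c2, one_mul]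
    | inv b hb ihb =>
      obtain ⟨b1, b2⟩ := ihb (hR ▸ hb)
      have e : π ⟨b⁻¹, ha⟩ = (π ⟨b, hR ▸ hb⟩)⁻¹ := rfl
      rw [e, inv_eq_of_mul_eq_one_left b2]
      exact ⟨b1, b2⟩
  intro a ha b hb
  refine ⟨(hπ1 ⟨_, mul_mem (mul_mem (mul_mem ha hb) (inv_mem ha)) (inv_mem hb)⟩).1 ?_, ?_⟩
  · show π ⟨a, ha⟩ * π ⟨b, hb⟩ * (π ⟨a, ha⟩)⁻¹ * (π ⟨b, hb⟩)⁻¹ = 1
    rw [mul_inv_eq_one, mul_inv_eq_iff_eq_mul]
    exact (key a ha).1 b hb
  · rw [sq]
    exact (hπ1 ⟨_, mul_mem ha ha⟩).1 (key a ha).2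

theorem isPGroup_R : IsPGroup 2 R' := fun a => ⟨2, Subtype.ext (by
  have h1 := h.E_sq _ (h.R_mod_E a a.2 a a.2).2
  rw [SubmonoidClass.coe_pow, OneMemClass.coe_one, ← h1, ← pow_add]
  norm_num)⟩

theorem center_R_iff {c : G} (hc : c ∈ R') : (∀ y ∈ R', y * c = c * y) ↔ c ∈ V' := by
  constructor
  · intro hcen
    obtain ⟨⟨q, hq, hqx⟩, -⟩ := h.automizer
    have hne : z * x' ≠ x' := fun h1 => h.z_ne_one (by simpa using h1)
    rcases centralizer_perp_eq h.extra h.z_mem (fun y hy => h.z_comm hy) h.centre h.zp_cases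
      h.self h.normal h.mem h.xx hq hqx hne (c := c) (fun r hr hrx =>
        hcen r (mem_sup_right ⟨hr, mem_centralizer_singleton_iff.2 hrx⟩)) with h1 | h1 | h1 | h1 <;>
      rw [h1]
    exacts [one_mem _, subset_closure (Set.mem_insert _ _), subset_closure (Set.mem_insert_of_mem _ rfl),
      mul_mem (subset_closure (Set.mem_insert _ _)) (subset_closure (Set.mem_insert_of_mem _ rfl))]
  · intro hv y hy
    exact (mem_centralizer_iff.1 (h.R_le_centralizer hy) c hv).symm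

theorem V_le_R : V' ≤ R' := by
  rw [closure_le]
  rintro y (rfl | rfl)
  · exact mem_sup_left ⟨h.automizer.2, mem_centralizer_singleton_iff.2 rfl⟩
  · exact mem_sup_left ⟨h.x_mem_map, mem_centralizer_singleton_iff.2 h.xz⟩

theorem commutator_X_E : ⁅X', E'⁆ ≤ V' := by
  rw [Subgroup.commutator_le]
  intro y hy e he
  show y * e * y⁻¹ * e⁻¹ ∈ V'
  rw [sup_eq_closure] at hy
  induction hy using closure_induction with
  | mem y hy =>
    rcases hy with hy | hy
    · rcases h.comm_cases hy he.1 with h1 | h1 <;> rw [h1]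
      exacts [one_mem _, subset_closure (Set.mem_insert _ _)]
    · rcases h.map_comm_cases hy he.2 with h1 | h1 <;> rw [h1]
      exacts [one_mem _, subset_closure (Set.mem_insert_of_mem _ rfl)]
  | one => simp
  | mul a b ha hb iha ihb =>
    have han : a ∈ normalizer (V' : Set G) := h.X_le_normalizer_V (by rw [sup_eq_closure]; exact ha)
    rw [show a * b * e * (a * b)⁻¹ * e⁻¹ = (a * (b * e * b⁻¹ * e⁻¹) * a⁻¹) * (a * e * a⁻¹ * e⁻¹) by group]
    exact mul_mem ((mem_normalizer_iff.1 han _).1 ihb) iha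
  | inv a ha iha =>
    have han : a⁻¹ ∈ normalizer (V' : Set G) :=
      inv_mem (h.X_le_normalizer_V (by rw [sup_eq_closure]; exact ha))
    rw [show a⁻¹ * e * a⁻¹⁻¹ * e⁻¹ = a⁻¹ * (a * e * a⁻¹ * e⁻¹)⁻¹ * a⁻¹⁻¹ by group]
    exact (mem_normalizer_iff.1 han _).1 (inv_mem iha)

theorem center_R : (center (↥(R'))).map (R').subtype = V' := by
  ext c
  constructor
  · rintro ⟨c, hc, rfl⟩
    exact (h.center_R_iff c.2).1 fun y hy => congrArg Subtype.val (mem_center_iff.1 hc ⟨y, hy⟩)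
  · intro hc
    exact ⟨⟨c, h.V_le_R hc⟩, mem_center_iff.2 fun y => Subtype.ext ((h.center_R_iff (h.V_le_R hc)).2 hc y y.2), rfl⟩

theorem E_le_R : E' ≤ R' := by
  intro y hy
  rw [← h.inter_eq] at hy
  exact mem_sup_left hy.1

theorem upper_series : E' ≤ (Subgroup.upperCentralSeries (↥(R')) 2).map (R').subtype ∧
    Subgroup.upperCentralSeries (↥(R')) 3 = ⊤ := by
  have h2 : ∀ e : ↥(R'), (e : G) ∈ E' → e ∈ Subgroup.upperCentralSeries (↥(R')) 2 := by
    intro e he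
    rw [Subgroup.mem_upperCentralSeries_succ_iff]
    intro y
    rw [Subgroup.upperCentralSeries_one]
    have h1 : (y : G) * e * (y : G)⁻¹ * (e : G)⁻¹ ∈ V' :=
      h.commutator_X_E (commutator_mem_commutator (h.R_le_X y.2) he)
    rw [mem_center_iff]
    intro w
    refine Subtype.ext ((h.center_R_iff (e * y * e⁻¹ * y⁻¹ : ↥(R')).2).2 ?_ w w.2)
    have := inv_mem h1
    rwa [show ((y : G) * e * (y : G)⁻¹ * (e : G)⁻¹)⁻¹ = ((e * y * e⁻¹ * y⁻¹ : ↥(R')) : G) by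
      simp only [coe_mul, coe_inv]; group] at this
  refine ⟨fun e he => ⟨⟨e, h.E_le_R he⟩, h2 _ he, rfl⟩, eq_top_iff.2 fun a _ => ?_⟩
  rw [Subgroup.mem_upperCentralSeries_succ_iff]
  intro y
  exact h2 _ (h.R_mod_E a a.2 y y.2).1

/-- The action on the three involutions of the four group. -/
theorem exists_automizer :
    X' ⊓ centralizer (V' : Set G) = R' ∧
      (∃ hn : ((R').subgroupOf X').Normal,
        Nonempty (↥(X') ⧸ (R').subgroupOf X' ≃* Equiv.Perm (Fin 3))) ∧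
      normalizer (V' : Set G) = X' ⊔ (centralizer ({z} : Set G) ⊓ centralizer (V' : Set G)) ∧
      (∀ y ∈ normalizer (V' : Set G), ∀ a ∈ X', y * a * y⁻¹ ∈ X') ∧
      R' = (pCore 2 (↥(X'))).map (X').subtype := by
  classical
  obtain ⟨⟨q, hq, hqx⟩, hzg⟩ := h.automizer
  obtain ⟨r, hr, hrz⟩ : ∃ r ∈ Qg, r * z * r⁻¹ = z * x' := by
    by_contra! hall
    have hcz : ∀ r ∈ Qg, r * z = z * r := fun r hr => by
      rcases h.map_comm_cases hr hzg with h1 | h1
      · rwa [mul_inv_eq_one, mul_inv_eq_iff_eq_mul] at h1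
      · exact absurd ((eq_mul_of_mul_inv_eq h1).trans h.xz) (hall r hr)
    have h1 : g⁻¹ * z * g ∈ centralizer (Q : Set G) := by
      rw [mem_centralizer_iff]
      intro w hw
      have h2 := hcz (g * w * g⁻¹) (mem_map_iff.2 (by simpa [mul_assoc] using hw))
      calc w * (g⁻¹ * z * g) = g⁻¹ * ((g * w * g⁻¹) * z) * g := by group
        _ = g⁻¹ * z * g * w := by rw [h2]; group
    rw [h.self, h.centre] at h1
    rcases h.zp_cases _ h1 with h2 | h2
    · exact h.z_ne_one (by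
        calc z = g * (g⁻¹ * z * g) * g⁻¹ := by group
          _ = 1 := by rw [h2]; group)
    · exact h.ne (by
        calc g * z * g⁻¹ = g * (g⁻¹ * z * g) * g⁻¹ := by rw [h2]
          _ = z := by group)
  -- the three points
  let S := {y : G // y ∈ V' ∧ y ≠ 1}
  have hzV : z ∈ V' := subset_closure (Set.mem_insert _ _)
  have hxV : x' ∈ V' := subset_closure (Set.mem_insert_of_mem _ rfl)
  have hzx1 : z * x' ≠ 1 := fun h1 => h.ne
    ((eq_inv_of_mul_eq_one_right h1).trans (inv_eq_of_mul_eq_one_left h.zz))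
  let p : Fin 3 → S := ![⟨z, hzV, h.z_ne_one⟩, ⟨x', hxV, h.x_ne_one⟩, ⟨z * x', mul_mem hzV hxV, hzx1⟩]
  have hp : Function.Bijective p := by
    refine ⟨?_, ?_⟩
    · have e1 : z ≠ z * x' := fun h1 => h.x_ne_one (left_eq_mul.1 h1)
      have e2 : x' ≠ z * x' := fun h1 => h.z_ne_one (right_eq_mul.1 h1)
      intro i j hij
      have hij' := congrArg Subtype.val hij
      fin_cases i <;> fin_cases j <;> simp [p] at hij' ⊢
      all_goals first
        | exact h.ne hij' | exact h.ne hij'.symm | exact e1 hij' | exact e1 hij'.symm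
        | exact e2 hij' | exact e2 hij'.symm | exact h.z_ne_one hij' | exact h.z_ne_one hij'.symm
        | exact h.x_ne_one hij' | exact h.x_ne_one hij'.symm
    · rintro ⟨y, hy, hy1⟩
      rcases h.V_cases hy with rfl | rfl | rfl | rfl
      · exact absurd rfl hy1
      · exact ⟨0, rfl⟩
      · exact ⟨1, rfl⟩
      · exact ⟨2, rfl⟩
  let ι : Fin 3 ≃ S := Equiv.ofBijective p hp
  let act : normalizer (V' : Set G) →* Equiv.Perm S :=
    { toFun := fun c =>
        { toFun := fun y => ⟨c * y.1 * (c : G)⁻¹, (mem_normalizer_iff.1 c.2 _).1 y.2.1, by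
            simpa [mul_inv_eq_one] using y.2.2⟩
          invFun := fun y => ⟨(c : G)⁻¹ * y.1 * c, by
            simpa using (mem_normalizer_iff.1 (inv_mem c.2) _).1 y.2.1, by
            intro h1
            refine y.2.2 ?_
            calc y.1 = (c : G) * ((c : G)⁻¹ * y.1 * c) * (c : G)⁻¹ := by group
              _ = 1 := by rw [h1]; group⟩
          left_inv := fun y => Subtype.ext (by simp [mul_assoc])
          right_inv := fun y => Subtype.ext (by simp [mul_assoc]) }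
      map_one' := by ext y; simp
      map_mul' := fun a b => by ext y; simp [mul_assoc] }
  let φ : normalizer (V' : Set G) →* Equiv.Perm (Fin 3) :=
    (ι.symm.permCongrHom).toMonoidHom.comp act
  have hφval : ∀ c i, (ι (φ c i) : G) = (c : G) * (ι i : G) * (c : G)⁻¹ := fun c i => by
    have : φ c i = ι.symm (act c (ι i)) := rfl
    rw [this, Equiv.apply_symm_apply]
    rfl
  have hφ1 : ∀ c, φ c = 1 ↔ (c : G) ∈ centralizer (V' : Set G) := by
    intro c
    rw [mem_centralizer_iff]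
    constructor
    · intro h1 y hy
      by_cases hy1 : y = 1
      · simp [hy1]
      obtain ⟨i, hi⟩ := ι.surjective ⟨y, hy, hy1⟩
      have h2 := hφval c i
      rw [h1, Equiv.Perm.one_apply, hi] at h2
      exact eq_mul_inv_iff_mul_eq.1 h2
    · intro h1
      refine Equiv.ext fun i => ι.injective (Subtype.ext ?_)
      rw [hφval, Equiv.Perm.one_apply, ← h1 _ (ι i).2.1, mul_inv_cancel_right]
  have hqN := h.Q_le_normalizer_V hq
  have hrN := h.map_le_normalizer_V hr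
  have hφq : φ ⟨q, hqN⟩ = Equiv.swap 1 2 := by
    refine Equiv.ext fun i => ι.injective (Subtype.ext ?_)
    rw [hφval]
    fin_cases i
    · show q * z * q⁻¹ = z
      rw [h.z_comm hq, mul_inv_cancel_right]
    · show q * x' * q⁻¹ = z * x'
      exact hqx
    · show q * (z * x') * q⁻¹ = x'
      calc q * (z * x') * q⁻¹ = (q * z * q⁻¹) * (q * x' * q⁻¹) := by group
        _ = z * (z * x') := by rw [hqx, h.z_comm hq, mul_inv_cancel_right]
        _ = x' := by rw [← mul_assoc, h.zz, one_mul]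
  have hφr : φ ⟨r, hrN⟩ = Equiv.swap 0 2 := by
    refine Equiv.ext fun i => ι.injective (Subtype.ext ?_)
    rw [hφval]
    fin_cases i
    · show r * z * r⁻¹ = z * x'
      exact hrz
    · show r * x' * r⁻¹ = x'
      rw [h.map_comm hr, mul_inv_cancel_right]
    · show r * (z * x') * r⁻¹ = z
      calc r * (z * x') * r⁻¹ = (r * z * r⁻¹) * (r * x' * r⁻¹) := by group
        _ = (z * x') * x' := by rw [hrz, h.map_comm hr, mul_inv_cancel_right]
        _ = z := by rw [mul_assoc, h.xx, mul_one]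
  -- `q Q^g q⁻¹ = r Q r⁻¹`
  have hk : (q * g)⁻¹ * r ∈ normalizer (Q : Set G) := by
    refine h.normal (mem_centralizer_singleton_iff.2 (mul_inv_eq_iff_eq_mul.1 ?_))
    calc (q * g)⁻¹ * r * z * ((q * g)⁻¹ * r)⁻¹ = g⁻¹ * q⁻¹ * (r * z * r⁻¹) * q * g := by group
      _ = g⁻¹ * q⁻¹ * (q * x' * q⁻¹) * q * g := by rw [hrz, hqx]
      _ = z := by group
  -- the six cosets
  have hRsub := h.R_le_X
  have hXN := h.X_le_normalizer_R
  have hn : ((R').subgroupOf X').Normal := normal_subgroupOf_of_le_normalizer hXN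
  have hqX : q ∈ X' := mem_sup_left hq
  have hrX : r ∈ X' := mem_sup_right hr
  let π : ↥(X') →* (↥(X') ⧸ (R').subgroupOf X') := QuotientGroup.mk' _
  have hπ1 : ∀ y : ↥(X'), π y = 1 ↔ (y : G) ∈ R' := fun y =>
    (QuotientGroup.eq_one_iff y).trans mem_subgroupOf
  set a := π ⟨q, hqX⟩ with ha_def
  set b := π ⟨r, hrX⟩ with hb_def
  have hqA : ∀ y, ∀ hy : y ∈ Q, π ⟨y, mem_sup_left hy⟩ = 1 ∨ π ⟨y, mem_sup_left hy⟩ = a := by
    intro y hy
    rcases h.comm_cases hy h.mem with h1 | h1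
    · left
      refine (hπ1 _).2 (mem_sup_right ⟨hy, mem_centralizer_singleton_iff.2 ?_⟩)
      rwa [mul_inv_eq_one, mul_inv_eq_iff_eq_mul] at h1
    · right
      have h2 : q⁻¹ * y ∈ A' := by
        refine mem_inf.2
          ⟨mul_mem (inv_mem hq) hy, mem_centralizer_singleton_iff.2 (mul_inv_eq_iff_eq_mul.1 ?_)⟩
        calc q⁻¹ * y * x' * (q⁻¹ * y)⁻¹ = q⁻¹ * (y * x' * y⁻¹) * q := by group
          _ = q⁻¹ * (q * x' * q⁻¹) * q := by rw [eq_mul_of_mul_inv_eq h1, hqx]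
          _ = x' := by group
      have h3 : π (⟨q, hqX⟩⁻¹ * ⟨y, mem_sup_left hy⟩) = 1 := (hπ1 _).2 (mem_sup_right h2)
      rw [map_mul, map_inv, inv_mul_eq_one] at h3
      exact h3.symm
  have hrB : ∀ y, ∀ hy : y ∈ Qg, π ⟨y, mem_sup_right hy⟩ = 1 ∨ π ⟨y, mem_sup_right hy⟩ = b := by
    intro y hy
    rcases h.map_comm_cases hy hzg with h1 | h1
    · left
      refine (hπ1 _).2 (mem_sup_left ⟨hy, mem_centralizer_singleton_iff.2 ?_⟩)
      rwa [mul_inv_eq_one, mul_inv_eq_iff_eq_mul] at h1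
    · right
      have h2 : r⁻¹ * y ∈ B' := by
        refine mem_inf.2
          ⟨mul_mem (inv_mem hr) hy, mem_centralizer_singleton_iff.2 (mul_inv_eq_iff_eq_mul.1 ?_)⟩
        calc r⁻¹ * y * z * (r⁻¹ * y)⁻¹ = r⁻¹ * (y * z * y⁻¹) * r := by group
          _ = r⁻¹ * (r * z * r⁻¹) * r := by rw [eq_mul_of_mul_inv_eq h1, h.xz, hrz]
          _ = z := by group
      have h3 : π (⟨r, hrX⟩⁻¹ * ⟨y, mem_sup_right hy⟩) = 1 := (hπ1 _).2 (mem_sup_left h2)
      rw [map_mul, map_inv, inv_mul_eq_one] at h3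
      exact h3.symm
  have haa : a * a = 1 := by
    rw [ha_def, ← map_mul]
    refine (hπ1 _).2 (h.E_le_R ?_)
    show q * q ∈ E'
    rcases h.sq_cases hq with h1 | h1 <;> rw [h1]
    exacts [one_mem _, h.z_mem_E]
  have hbb : b * b = 1 := by
    rw [hb_def, ← map_mul]
    refine (hπ1 _).2 (h.E_le_R ?_)
    show r * r ∈ E'
    rcases h.map_sq_cases hr with h1 | h1 <;> rw [h1]
    exacts [one_mem _, h.x_mem_E]
  -- the braid relation
  have hrC : r ∉ centralizer (V' : Set G) := fun hc =>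
    absurd ((hφ1 ⟨r, hrN⟩).2 hc) (by rw [hφr]; decide)
  have hbr : a * b * a = b * a * b := by
    have h1 : r⁻¹ * (q * r * q⁻¹) * r ∈ Q := by
      have h2 : g⁻¹ * r * g ∈ Q := mem_map_iff.1 hr
      have h3 := (mem_normalizer_iff.1 (inv_mem hk) _).1 h2
      simpa [mul_assoc] using h3
    have e : π ⟨r⁻¹ * (q * r * q⁻¹) * r, mem_sup_left h1⟩ = b⁻¹ * (a * b * a⁻¹) * b := by
      simp only [ha_def, hb_def, ← map_mul, ← map_inv]
      rfl
    refine braid_of haa hbb (fun hb1 => hrC (h.R_le_centralizer ((hπ1 _).1 hb1))) ?_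
    rw [← e]
    exact hqA _ h1
  -- the image of `X` consists of six cosets
  let W : Set (↥(X') ⧸ (R').subgroupOf X') := {1, a, b, a * b, b * a, a * b * a}
  have hW : ∀ s, (s = a ∨ s = b) → ∀ w ∈ W, s * w ∈ W := fun s hs w hw => mul_W_mem haa hbb hbr hs hw
  have hai : a⁻¹ = a := inv_eq_of_mul_eq_one_left haa
  have hbi : b⁻¹ = b := inv_eq_of_mul_eq_one_left hbb
  have hall : ∀ y, ∀ hy : y ∈ X', π ⟨y, hy⟩ ∈ W := by
    have hgen : ∀ y ∈ (Q : Set G) ∪ (Qg : Set G), ∀ hy : y ∈ X',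
        π ⟨y, hy⟩ = 1 ∨ π ⟨y, hy⟩ = a ∨ π ⟨y, hy⟩ = b := by
      rintro y (hy | hy) _
      · exact (hqA y hy).imp id .inl
      · exact (hrB y hy).imp id .inr
    intro y hy
    have hy' : y ∈ closure ((Q : Set G) ∪ (Qg : Set G)) := by rwa [← sup_eq_closure]
    induction hy' using closure_induction_left with
    | one => exact .inl ((hπ1 _).2 (one_mem _))
    | mul_left u hu v hv ih =>
      have hu' : u ∈ X' := by rw [sup_eq_closure]; exact subset_closure hu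
      have hv' : v ∈ X' := by rwa [sup_eq_closure]
      have e : π ⟨u * v, hy⟩ = π ⟨u, hu'⟩ * π ⟨v, hv'⟩ := rfl
      rw [e]
      rcases hgen u hu hu' with h1 | h1 <;> [rw [h1, one_mul]; skip]
      · exact ih hv'
      · exact hW _ h1 _ (ih hv')
    | inv_mul_cancel u hu v hv ih =>
      have hu' : u ∈ X' := by rw [sup_eq_closure]; exact subset_closure hu
      have hv' : v ∈ X' := by rwa [sup_eq_closure]
      have e : π ⟨u⁻¹ * v, hy⟩ = (π ⟨u, hu'⟩)⁻¹ * π ⟨v, hv'⟩ := rfl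
      rw [e]
      rcases hgen u hu hu' with h1 | h1 | h1 <;> rw [h1]
      · rw [inv_one, one_mul]; exact ih hv'
      · rw [hai]; exact hW _ (.inl rfl) _ (ih hv')
      · rw [hbi]; exact hW _ (.inr rfl) _ (ih hv')
  let ψ : ↥(X') →* Equiv.Perm (Fin 3) := φ.comp (inclusion h.X_le_normalizer_V)
  have hψq : ψ ⟨q, hqX⟩ = Equiv.swap 1 2 := hφq
  have hψr : ψ ⟨r, hrX⟩ = Equiv.swap 0 2 := hφr
  have hψR : ∀ y : ↥(X'), (y : G) ∈ R' → ψ y = 1 := fun y hy =>
    (hφ1 _).2 (h.R_le_centralizer hy)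
  have hψ1 : ∀ y : ↥(X'), ψ y = 1 → (y : G) ∈ R' := by
    intro y hy
    -- compare with the six representatives
    have hrep : ∀ w : ↥(X'), π y = π w → ψ y = ψ w := by
      intro w hw
      have h1 : π (w⁻¹ * y) = 1 := by rw [map_mul, map_inv, hw, inv_mul_cancel]
      have h2 := hψR _ ((hπ1 _).1 h1)
      rwa [map_mul, map_inv, inv_mul_eq_one, eq_comm] at h2
    have hno : ∀ w : ↥(X'), π y = π w → ψ w ≠ 1 → False := fun w hw hne =>
      hne ((hrep w hw).symm.trans hy)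
    rcases hall y y.2 with h1 | h1 | h1 | h1 | h1 | h1
    · exact (hπ1 y).1 h1
    · exact (hno ⟨q, hqX⟩ h1 (by rw [hψq]; decide)).elim
    · exact (hno ⟨r, hrX⟩ h1 (by rw [hψr]; decide)).elim
    · exact (hno (⟨q, hqX⟩ * ⟨r, hrX⟩) (h1.trans (map_mul π _ _).symm)
        (by rw [map_mul, hψq, hψr]; decide)).elim
    · exact (hno (⟨r, hrX⟩ * ⟨q, hqX⟩) (h1.trans (map_mul π _ _).symm)
        (by rw [map_mul, hψq, hψr]; decide)).elim
    · exact (hno (⟨q, hqX⟩ * ⟨r, hrX⟩ * ⟨q, hqX⟩)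
        (h1.trans (by rw [map_mul, map_mul])) (by rw [map_mul, map_mul, hψq, hψr]; decide)).elim
  have hinf : X' ⊓ centralizer (V' : Set G) = R' := by
    refine le_antisymm (fun y hy => ?_) (le_inf hRsub h.R_le_centralizer)
    exact hψ1 ⟨y, hy.1⟩ ((hφ1 _).2 hy.2)
  have hker : ψ.ker = (R').subgroupOf X' := by
    ext y
    rw [MonoidHom.mem_ker, mem_subgroupOf]
    exact ⟨hψ1 y, hψR y⟩
  have hsurj : Function.Surjective ψ := by
    intro σ
    obtain h1 | h1 | h1 | h1 | h1 | h1 : σ = 1 ∨ σ = Equiv.swap 1 2 ∨ σ = Equiv.swap 0 2 ∨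
        σ = Equiv.swap 1 2 * Equiv.swap 0 2 ∨ σ = Equiv.swap 0 2 * Equiv.swap 1 2 ∨
        σ = Equiv.swap 1 2 * Equiv.swap 0 2 * Equiv.swap 1 2 := by
      revert σ; decide
    · exact ⟨1, by rw [map_one, h1]⟩
    · exact ⟨⟨q, hqX⟩, by rw [hψq, h1]⟩
    · exact ⟨⟨r, hrX⟩, by rw [hψr, h1]⟩
    · exact ⟨⟨q, hqX⟩ * ⟨r, hrX⟩, by rw [map_mul, hψq, hψr, h1]⟩
    · exact ⟨⟨r, hrX⟩ * ⟨q, hqX⟩, by rw [map_mul, hψq, hψr, h1]⟩
    · exact ⟨⟨q, hqX⟩ * ⟨r, hrX⟩ * ⟨q, hqX⟩, by rw [map_mul, map_mul, hψq, hψr, h1]⟩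
  have hdec : ∀ y, ∀ hy : y ∈ normalizer (V' : Set G),
      ∃ w ∈ X', w⁻¹ * y ∈ centralizer (V' : Set G) := by
    intro y hy
    obtain ⟨w, hw⟩ := hsurj (φ ⟨y, hy⟩)
    have h1 : φ ((inclusion h.X_le_normalizer_V w)⁻¹ * ⟨y, hy⟩) = 1 := by
      rw [map_mul, map_inv]
      exact inv_mul_eq_one.2 hw
    exact ⟨w, w.2, (hφ1 _).1 h1⟩
  refine ⟨hinf, ⟨hn, ⟨(QuotientGroup.quotientMulEquivOfEq hker).symm.trans
    (QuotientGroup.quotientKerEquivOfSurjective ψ hsurj)⟩⟩, ?_, ?_, ?_⟩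
  · refine le_antisymm (fun y hy => ?_) (sup_le h.X_le_normalizer_V ?_)
    · obtain ⟨w, hw, hwy⟩ := hdec y hy
      rw [show y = w * (w⁻¹ * y) by group]
      exact mul_mem (mem_sup_left hw) (mem_sup_right (mem_inf.2
        ⟨mem_centralizer_singleton_iff.2 (mem_centralizer_V.1 hwy).1, hwy⟩))
    · exact inf_le_right.trans (Subgroup.centralizer_le_normalizer _)
  · intro y hy c hc
    obtain ⟨w, hw, hwy⟩ := hdec y hy
    obtain ⟨h1, h2⟩ := h.centralizer_V_normalizes hwy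
    have hN : w⁻¹ * y ∈ normalizer ((X' : Subgroup G) : Set G) :=
      conj_sup (fun u hu => mem_sup_left ((mem_normalizer_iff.1 h1 u).1 hu))
        (fun u hu => mem_sup_right ((mem_normalizer_iff.1 h2 u).1 hu))
    rw [show y * c * y⁻¹ = w * ((w⁻¹ * y) * c * (w⁻¹ * y)⁻¹) * w⁻¹ by group]
    exact mul_mem (mul_mem hw ((mem_normalizer_iff.1 hN c).1 hc)) (inv_mem hw)
  · refine le_antisymm ?_ ?_
    · rintro y hy
      refine ⟨⟨y, hRsub hy⟩, ?_, rfl⟩
      haveI := hn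
      exact CfsgLib.Cores.le_pCore (N := (R').subgroupOf X') h.isPGroup_R.comap_subtype (mem_subgroupOf.2 hy)
    · have hbot : (pCore 2 ↥(X')).map ψ = ⊥ := by
        refine perm_three_two_normal_bot ?_ ((CfsgLib.Cores.isPGroup_pCore 2).map ψ)
        have hnP : (pCore 2 ↥(X')).Normal :=
          haveI := CfsgLib.Cores.pCore_characteristic (G := ↥(X')) 2
          inferInstance
        exact hnP.map ψ hsurj
      rintro _ ⟨y, hy, rfl⟩
      exact hψ1 y (mem_bot.1 (hbot ▸ mem_map_of_mem ψ hy))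

end PairHyp

theorem pairHyp_of_isLarge {Q : Subgroup G} (hQ : IsLargeExtraspecial Q) {z g : G}
    (hz : (center Q).map Q.subtype = zpowers z) (hz2 : orderOf z = 2)
    (hgH : g ∉ centralizer ({z} : Set G)) (hgQ : g * z * g⁻¹ ∈ Q) : PairHyp Q z g := by
  refine ⟨hQ.1, hz, hz2, hQ.2.1, ?_, hgQ, fun h => hgH ?_⟩
  · intro c hc
    refine hQ.2.2.1 ?_
    rw [hz, zpowers_eq_closure, centralizer_closure]
    exact hc
  · exact mem_centralizer_singleton_iff.2 (mul_inv_eq_iff_eq_mul.1 h)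

end CfsgLib.LargeExtra
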