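import Mathlib
import Cfsg.Prelude.Def_Classical
import Cfsg.Prelude.Def_KGroupFacts
import Cfsg.Agent.Lib.LargeExtra.Extraspecial
import Cfsg.Agent.Lib.KnownSimple.POAut.FormClass
import Cfsg.Agent.Lib.Classical.QuadPOmega
import Cfsg.Agent.Lib.Classical.WittBound

/-!
The outer automorphism group of an extraspecial 2-group is the orthogonal group of its squaring form.
-/

set_option linter.style.haveILetI false
set_option linter.unusedSectionVars false

namespace CfsgLib.LargeExtra.OutExtra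

open Subgroup Cfsg Matrix

variable {E : Type*} [Group E] [Finite E]

/-- An identification of `E` modulo `⟨z⟩` with a coordinate space, squares given by `Q`. -/
structure Chart (E : Type*) [Group E] {ι : Type} (Q : (ι → ZMod 2) → ZMod 2) (z : E) where
  π : E → ι → ZMod 2
  pi_mul : ∀ x y, π (x * y) = π x + π y
  surj : Function.Surjective π
  ker_iff : ∀ x, π x = 0 ↔ x = 1 ∨ x = z
  sq_eq : ∀ x, x * x = if Q (π x) = 0 then 1 else z
  z_ne : z ≠ 1
  z_sq : z * z = 1

theorem two_cases : ∀ a : ZMod 2, a = 0 ∨ a = 1 := by decide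

namespace Chart

variable {ι : Type} [Fintype ι] [DecidableEq ι] {Q : (ι → ZMod 2) → ZMod 2} {z : E} (C : Chart E Q z)

theorem pi_one : C.π 1 = 0 := (C.ker_iff 1).2 (.inl rfl)

theorem pi_inv (x : E) : C.π x⁻¹ = C.π x := by
  have h := C.pi_mul x⁻¹ x
  rw [inv_mul_cancel, C.pi_one] at h
  funext i
  have hi := congrFun h i
  simp only [Pi.zero_apply, Pi.add_apply] at hi
  revert hi
  generalize C.π x⁻¹ i = a
  generalize C.π x i = b
  revert a b; decide

theorem pi_eq {x y : E} (h : C.π x = C.π y) : x⁻¹ * y = 1 ∨ x⁻¹ * y = z :=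
  (C.ker_iff _).1 (by rw [C.pi_mul, C.pi_inv, h]; exact funext fun i => CharTwo.add_self_eq_zero _)

include C in
theorem center_le (hE : IsExtraspecial 2 E) (hz : z ∈ center E) : ∀ x ∈ center E, x = 1 ∨ x = z := by
  obtain ⟨w, -, -, hw⟩ := exists_centre_gen hE
  intro x hx
  rcases hw x hx with e | e
  · exact .inl e
  · rcases hw z hz with e' | e'
    · exact absurd e' C.z_ne
    · exact .inr (e.trans e'.symm)

include C in
/-- Every linear map preserving the form is induced by an automorphism. -/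
theorem exists_lift (L : (ι → ZMod 2) →+ (ι → ZMod 2)) (hL : Function.Injective L)
    (hQ : ∀ v, Q (L v) = Q v) : ∃ φ : MulAut E, ∀ x, C.π (φ x) = L (C.π x) := by
  classical
  obtain ⟨H, hH⟩ : ∃ H : Subgroup (E × E), ∀ p, p ∈ H ↔ C.π p.2 = L (C.π p.1) :=
    ⟨{ carrier := {p | C.π p.2 = L (C.π p.1)}
       one_mem' := by simp [C.pi_one]
       mul_mem' := fun {a b} (ha : C.π a.2 = _) (hb : C.π b.2 = _) => by
         show C.π (a.2 * b.2) = L (C.π (a.1 * b.1))
         rw [C.pi_mul, C.pi_mul, map_add, ha, hb]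
       inv_mem' := fun {a} (ha : C.π a.2 = _) => by
         show C.π a.2⁻¹ = L (C.π a.1⁻¹)
         rw [C.pi_inv, C.pi_inv, ha] }, fun p => Iff.rfl⟩
  have hzπ : C.π z = 0 := (C.ker_iff z).2 (.inr rfl)
  have hzzH : (z, z) ∈ H := (hH _).2 (by simp [hzπ])
  have hw : ((1 : E), z) ∈ H := (hH _).2 (by simp [hzπ, C.pi_one])
  have hsq : ∀ p ∈ H, p * p = 1 ∨ p * p = (z, z) := by
    intro p hp
    have e := C.sq_eq p.2
    rw [(hH p).1 hp, hQ] at e
    have e' := C.sq_eq p.1
    by_cases h0 : Q (C.π p.1) = 0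
    · rw [if_pos h0] at e e'; exact .inl (Prod.ext e' e)
    · rw [if_neg h0] at e e'; exact .inr (Prod.ext e' e)
  obtain ⟨Γ, -, hΓm⟩ := Finite.exists_le_maximal
    (p := fun Γ : Subgroup (E × E) => (Γ ≤ H ∧ (z, z) ∈ Γ) ∧ ((1 : E), z) ∉ Γ)
    (a := zpowers (z, z)) (by
      refine ⟨⟨zpowers_le.2 hzzH, mem_zpowers _⟩, fun h => ?_⟩
      obtain ⟨k, hk⟩ := mem_zpowers_iff.1 h
      have h1 := congrArg Prod.fst hk
      have h2 := congrArg Prod.snd hk
      simp only [Prod.pow_fst, Prod.pow_snd] at h1 h2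
      exact C.z_ne (h2.symm.trans h1))
  obtain ⟨⟨hΓH, hzzΓ⟩, hwΓ⟩ := hΓm.1
  have hsqΓ : ∀ p ∈ H, p * p ∈ Γ := fun p hp => by
    rcases hsq p hp with e | e <;> rw [e]
    exacts [one_mem _, hzzΓ]
  have hnorm : ∀ a ∈ H, ∀ g ∈ Γ, a * g * a⁻¹ ∈ Γ := by
    intro a ha g hg
    rw [show a * g * a⁻¹ = a * a * ((a⁻¹ * g) * (a⁻¹ * g)) * (g⁻¹ * g⁻¹) * g by group]
    exact mul_mem (mul_mem (mul_mem (hsqΓ a ha) (hsqΓ _ (mul_mem (inv_mem ha) (hΓH hg))))
      (hsqΓ _ (inv_mem (hΓH hg)))) hg
  have hdich : ∀ a ∈ H, a ∈ Γ ∨ ((1 : E), z) * a⁻¹ ∈ Γ := by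
    intro a ha
    by_contra! hno
    let Γ' : Subgroup (E × E) :=
      { carrier := {x | x ∈ Γ ∨ x * a⁻¹ ∈ Γ}
        one_mem' := .inl (one_mem _)
        mul_mem' := fun {x y} hx hy => by
          rcases hx with hx | hx <;> rcases hy with hy | hy
          · exact .inl (mul_mem hx hy)
          · exact .inr (by rw [mul_assoc]; exact mul_mem hx hy)
          · refine .inr ?_
            rw [show x * y * a⁻¹ = x * a⁻¹ * (a * y * a⁻¹) by group]
            exact mul_mem hx (hnorm a ha y hy)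
          · refine .inl ?_
            rw [show x * y = x * a⁻¹ * (a * (y * a⁻¹) * a⁻¹) * (a * a) by group]
            exact mul_mem (mul_mem hx (hnorm a ha _ hy)) (hsqΓ a ha)
        inv_mem' := fun {x} hx => by
          rcases hx with hx | hx
          · exact .inl (inv_mem hx)
          · refine .inr ?_
            rw [show x⁻¹ * a⁻¹ = a⁻¹ * (x * a⁻¹)⁻¹ * (a⁻¹)⁻¹ * (a * a)⁻¹ by group]
            exact mul_mem (hnorm _ (inv_mem ha) _ (inv_mem hx)) (inv_mem (hsqΓ a ha)) }
    have hle : Γ ≤ Γ' := fun x hx => Or.inl hx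
    have hΓ'H : Γ' ≤ H := fun x hx => by
      rcases hx with hx | hx
      · exact hΓH hx
      · simpa [mul_assoc] using mul_mem (hΓH hx) ha
    have hnw : ((1 : E), z) ∉ Γ' := fun h => h.elim hwΓ hno.2
    exact hno.1 (hΓm.2 ⟨⟨hΓ'H, hle hzzΓ⟩, hnw⟩ hle
      (show a ∈ Γ' from Or.inr (by rw [mul_inv_cancel]; exact one_mem _)))
  have hex : ∀ x : E, ∃ y, (x, y) ∈ Γ := by
    intro x
    obtain ⟨y, hy⟩ := C.surj (L (C.π x))
    rcases hdich (x, y) ((hH _).2 hy) with h | h
    · exact ⟨y, h⟩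
    · refine ⟨y * z⁻¹, ?_⟩
      simpa using inv_mem h
  have huniq : ∀ x y y', (x, y) ∈ Γ → (x, y') ∈ Γ → y = y' := by
    intro x y y' h h'
    have e : C.π y = C.π y' := ((hH _).1 (hΓH h)).trans ((hH _).1 (hΓH h')).symm
    rcases C.pi_eq e with e' | e'
    · exact inv_mul_eq_one.1 e'
    · refine absurd ?_ hwΓ
      have := mul_mem (inv_mem h) h'
      simpa [e'] using this
  choose f hf using hex
  let φ : E →* E := MonoidHom.mk' f fun x y => huniq _ _ _ (hf (x * y)) (mul_mem (hf x) (hf y))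
  have hinj : Function.Injective φ := by
    rw [injective_iff_map_eq_one]
    intro x hx
    have hx' : (x, (1 : E)) ∈ Γ := (show f x = 1 from hx) ▸ hf x
    have e := (hH _).1 (hΓH hx')
    simp only [C.pi_one] at e
    rcases (C.ker_iff x).1 (hL (by rw [map_zero]; exact e.symm)) with rfl | rfl
    · rfl
    · refine absurd ?_ hwΓ
      have := mul_mem hx' hzzΓ
      simpa [C.z_sq] using this
  exact ⟨MulEquiv.ofBijective φ (Finite.injective_iff_bijective.1 hinj), fun x => (hH _).1 (hΓH (hf x))⟩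

include C in
/-- The outer automorphism group. -/
theorem out_equiv (hE : IsExtraspecial 2 E) (hz : z ∈ center E) :
    Nonempty (Out E ≃* isometryGroup (ZMod 2) Q) := by
  classical
  have hcen := C.center_le hE hz
  have hfixz : ∀ φ : MulAut E, φ z = z := by
    intro φ
    have : φ z ∈ center E := mem_center_iff.2 fun y => by
      have := congrArg φ (mem_center_iff.1 hz (φ.symm y))
      simpa using this
    exact (hcen _ this).resolve_left fun e => C.z_ne (φ.injective (e.trans (map_one φ).symm))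
  have hwd : ∀ (φ : MulAut E) x y, C.π x = C.π y → C.π (φ x) = C.π (φ y) := by
    intro φ x y e
    rcases C.pi_eq e with e' | e'
    · rw [inv_mul_eq_one.1 e']
    · rw [show y = x * z by rw [← e', mul_inv_cancel_left], map_mul, hfixz, C.pi_mul,
        (C.ker_iff z).2 (.inr rfl), add_zero]
  let s := Function.surjInv C.surj
  have hs : ∀ v, C.π (s v) = v := Function.surjInv_eq C.surj
  let L : MulAut E → ((ι → ZMod 2) →ₗ[ZMod 2] (ι → ZMod 2)) := fun φ =>
    (AddMonoidHom.mk' (fun v => C.π (φ (s v))) fun u v => by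
      rw [← C.pi_mul, ← map_mul]
      exact hwd φ _ _ (by rw [C.pi_mul, hs, hs, hs])).toZModLinearMap 2
  have hLπ : ∀ φ x, L φ (C.π x) = C.π (φ x) := fun φ x => hwd φ _ _ (hs _)
  let M : MulAut E →* Matrix ι ι (ZMod 2) :=
    { toFun := fun φ => LinearMap.toMatrix' (L φ)
      map_one' := by
        apply Matrix.toLin'.injective
        refine LinearMap.ext fun v => ?_
        simp only [Matrix.toLin'_toMatrix', Matrix.toLin'_one, LinearMap.id_apply]
        exact hs v
      map_mul' := fun φ ψ => by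
        apply Matrix.toLin'.injective
        refine LinearMap.ext fun v => ?_
        simp only [Matrix.toLin'_toMatrix', Matrix.toLin'_mul, LinearMap.comp_apply]
        conv_rhs => rw [← hs v, hLπ, hLπ]
        rfl }
  have hMv : ∀ φ v, M φ *ᵥ v = L φ v := fun φ v => LinearMap.toMatrix'_mulVec (L φ) v
  have hQpres : ∀ φ v, Q (L φ v) = Q v := by
    intro φ v
    obtain ⟨x, rfl⟩ := C.surj v
    rw [hLπ]
    have e := congrArg φ (C.sq_eq x)
    rw [map_mul, C.sq_eq, apply_ite φ, map_one, hfixz] at e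
    rcases two_cases (Q (C.π (φ x))) with h1 | h1 <;> rcases two_cases (Q (C.π x)) with h2 | h2 <;>
      simp [h1, h2] at e ⊢
    · exact C.z_ne e.symm
    · exact C.z_ne e
  let Ψ : MulAut E →* isometryGroup (ZMod 2) Q :=
    M.toHomUnits.codRestrict _ fun φ u _ => by
      show Q (M φ *ᵥ u) = Q u
      rw [hMv]; exact hQpres φ u
  have hΨ : ∀ φ, ((Ψ φ : GL ι (ZMod 2)) : Matrix ι ι (ZMod 2)) = M φ := fun φ => rfl
  have hker : Ψ.ker = Inn E := by
    ext φ
    rw [MonoidHom.mem_ker]
    constructor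
    · intro h
      have hM1 : M φ = 1 := by rw [← hΨ, h]; rfl
      obtain ⟨g, hg⟩ := exists_inner_of_trivial_mod_center hE φ fun x => by
        have e : C.π (φ x * x⁻¹) = 0 := by
          rw [C.pi_mul, C.pi_inv, ← hLπ, ← hMv, hM1, one_mulVec]
          exact funext fun i => CharTwo.add_self_eq_zero _
        rcases (C.ker_iff _).1 e with e | e <;> rw [e]
        exacts [one_mem _, hz]
      exact ⟨g, MulEquiv.ext fun x => (hg x).symm⟩
    · rintro ⟨g, rfl⟩
      refine Subtype.ext (Units.ext (Matrix.toLin'.injective (LinearMap.ext fun v => ?_)))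
      rw [toLin'_apply, hΨ, hMv]
      show L _ v = toLin' (1 : Matrix ι ι (ZMod 2)) v
      rw [toLin'_one, LinearMap.id_apply]
      obtain ⟨x, rfl⟩ := C.surj v
      rw [hLπ]
      show C.π (g * x * g⁻¹) = C.π x
      rw [C.pi_mul, C.pi_mul, C.pi_inv]
      funext i
      simp only [Pi.add_apply]
      linear_combination CharTwo.add_self_eq_zero (C.π g i)
  have hsurj : Function.Surjective Ψ := by
    rintro ⟨g, hg⟩
    obtain ⟨φ, hφ⟩ := C.exists_lift (Matrix.toLin' (g : Matrix ι ι (ZMod 2))).toAddMonoidHom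
      (fun u v h => by
        have := congrArg (fun w => ((g⁻¹ : GL ι (ZMod 2)) : Matrix ι ι (ZMod 2)) *ᵥ w)
          (show (g : Matrix ι ι (ZMod 2)) *ᵥ u = (g : Matrix ι ι (ZMod 2)) *ᵥ v from h)
        simpa [mulVec_mulVec] using this)
      (fun v => hg v 0)
    refine ⟨φ, Subtype.ext (Units.ext (Matrix.toLin'.injective (LinearMap.ext fun v => ?_)))⟩
    rw [toLin'_apply, hΨ, hMv]
    obtain ⟨x, rfl⟩ := C.surj v
    rw [hLπ, hφ]
    rfl
  exact ⟨(QuotientGroup.quotientMulEquivOfEq hker.symm).trans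
    (QuotientGroup.quotientKerEquivOfSurjective Ψ hsurj)⟩

/-- Transport along a linear isometry. -/
def transport {κ : Type} [Fintype κ] [DecidableEq κ] {Q' : (κ → ZMod 2) → ZMod 2}
    (e : (ι → ZMod 2) ≃ₗ[ZMod 2] (κ → ZMod 2)) (he : ∀ v, Q' (e v) = Q v) : Chart E Q' z where
  π x := e (C.π x)
  pi_mul x y := by rw [C.pi_mul, map_add]
  surj := e.surjective.comp C.surj
  ker_iff x := by rw [LinearEquiv.map_eq_zero_iff]; exact C.ker_iff x
  sq_eq x := by rw [he]; exact C.sq_eq x
  z_ne := C.z_ne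
  z_sq := C.z_sq

end Chart

open CfsgLib.Classical

/-- Every extraspecial 2-group has a chart of plus or minus type. -/
theorem exists_chart (hE : IsExtraspecial 2 E) (k : ℕ) (hcard : Nat.card E = 2 ^ (2 * (k + 1) + 1)) :
    ∃ z ∈ center E, Nonempty (Chart E (⇑(qPlus (k + 1) (ZMod 2))) z) ∨
      Nonempty (Chart E (⇑(qExt k (qBin (1 : ZMod 2) 1))) z) := by
  classical
  obtain ⟨z, hz, hz2, hzc⟩ := exists_centre_gen hE
  refine ⟨z, hz, ?_⟩
  have hz1 : z ≠ 1 := fun e => by rw [e, orderOf_one] at hz2; omega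
  have hzz : z * z = 1 := by rw [← _root_.sq, ← hz2, pow_orderOf_eq_one]
  let χ : E → ZMod 2 := fun x => if x = 1 then 0 else 1
  have hχ : ∀ a ∈ center E, ∀ b ∈ center E, χ (a * b) = χ a + χ b := by
    intro a ha b hb
    rcases hzc a ha with rfl | rfl <;> rcases hzc b hb with rfl | rfl <;> simp [χ, hz1, hzz]
    decide
  letI : CommGroup (E ⧸ center E) :=
    { (inferInstance : Group (E ⧸ center E)) with
      mul_comm := fun a b => by
        obtain ⟨x, rfl⟩ := QuotientGroup.mk'_surjective _ a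
        obtain ⟨y, rfl⟩ := QuotientGroup.mk'_surjective _ b
        rw [← map_mul, ← map_mul, QuotientGroup.mk'_apply, QuotientGroup.mk'_apply, eq_comm,
          QuotientGroup.eq]
        rw [show (y * x)⁻¹ * (x * y) = x⁻¹ * y⁻¹ * (x⁻¹)⁻¹ * (y⁻¹)⁻¹ by group]
        exact comm_mem_center hE _ _ }
  let V := Additive (E ⧸ center E)
  letI : Module (ZMod 2) V := AddCommGroup.zmodModule fun v => by
    obtain ⟨x, hx⟩ := QuotientGroup.mk'_surjective (center E) v.toMul
    apply Additive.toMul.injective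
    show v.toMul ^ 2 = 1
    rw [← hx, ← map_pow, QuotientGroup.mk'_apply, QuotientGroup.eq_one_iff, _root_.sq]
    exact sq_mem_center hE x
  let mkV : E → V := fun x => Additive.ofMul (QuotientGroup.mk x)
  have hmk : ∀ x y, mkV (x * y) = mkV x + mkV y := fun x y => rfl
  have hsurj : ∀ v : V, ∃ x, mkV x = v := fun v => by
    obtain ⟨x, hx⟩ := QuotientGroup.mk'_surjective (center E) v.toMul
    exact ⟨x, hx⟩
  let q : V → ZMod 2 := fun v => χ ((hsurj v).choose * (hsurj v).choose)
  have hq : ∀ x, q (mkV x) = χ (x * x) := by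
    intro x
    have h : (QuotientGroup.mk ((hsurj (mkV x)).choose) : E ⧸ center E) = QuotientGroup.mk x :=
      (hsurj (mkV x)).choose_spec
    show χ (_ * _) = _
    generalize (hsurj (mkV x)).choose = y at h
    have hc := QuotientGroup.eq.1 h
    rw [show x = y * (y⁻¹ * x) by group]
    generalize y⁻¹ * x = c at hc
    have : y * c * (y * c) = y * y * (c * c) := by
      rw [show y * c * (y * c) = y * (c * y) * c by group, ← mem_center_iff.1 hc y]; group
    rw [this]
    rcases hzc c hc with e | e <;> rw [e] <;> simp [hzz]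
  let c : E → E → E := fun x y => x⁻¹ * y * x * y⁻¹
  have hc : ∀ x y, c x y ∈ center E := fun x y => by
    have := comm_mem_center hE x⁻¹ y
    simpa [c] using this
  have hqadd : ∀ x y, q (mkV x + mkV y) = q (mkV x) + q (mkV y) + χ (c x y) := by
    intro x y
    rw [← hmk, hq, hq, hq, add_right_comm, ← hχ _ (sq_mem_center hE x) _ (hc x y),
      ← hχ _ (mul_mem (sq_mem_center hE x) (hc x y)) _ (sq_mem_center hE y)]
    exact congrArg χ (by simp only [c]; group)
  have hpolar : ∀ x y, QuadraticMap.polar q (mkV x) (mkV y) = χ (c x y) := by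
    intro x y; rw [QuadraticMap.polar, hqadd]; ring
  let Q₀ : QuadraticForm (ZMod 2) V := QuadraticMap.ofPolar q
    (fun a v => by
      have h0 : q 0 = 0 := by
        rw [show (0 : V) = mkV 1 from rfl, hq]; simp [χ]
      rcases two_cases a with rfl | rfl
      · simp [h0]
      · simp)
    (fun u v w => by
      obtain ⟨x, rfl⟩ := hsurj u
      obtain ⟨x', rfl⟩ := hsurj v
      obtain ⟨y, rfl⟩ := hsurj w
      rw [← hmk, hpolar, hpolar, hpolar, ← hχ _ (hc x y) _ (hc x' y)]
      refine congrArg χ ?_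
      have e := mem_center_iff.1 (hc x y) x'⁻¹
      calc c (x * x') y = x'⁻¹ * c x y * (y * x' * y⁻¹) := by simp only [c]; group
        _ = c x y * c x' y := by rw [e]; simp only [c]; group)
    (fun a u v => by
      rcases two_cases a with rfl | rfl
      · rw [zero_smul, zero_smul]
        obtain ⟨y, rfl⟩ := hsurj v
        rw [show (0 : V) = mkV 1 from rfl, hpolar]
        simp [c, χ]
      · rw [one_smul, one_smul])
  have hnd : PolarNondeg Q₀ := by
    intro v hv
    obtain ⟨x, rfl⟩ := hsurj v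
    refine congrArg Additive.ofMul ((QuotientGroup.eq_one_iff x).2 (mem_center_iff.2 fun y => ?_))
    have h : QuadraticMap.polar q (mkV x) (mkV y) = 0 := hv (mkV y)
    rw [hpolar] at h
    have h1 : c x y = 1 := by
      by_contra hne
      simp [χ, hne] at h
    calc y * x = x * (x⁻¹ * y * x * y⁻¹) * y := by group
      _ = x * y := by rw [show x⁻¹ * y * x * y⁻¹ = 1 from h1, mul_one]
  have hVcard : Nat.card V = 2 ^ (2 * (k + 1)) := by
    show Nat.card (E ⧸ center E) = _
    have h := (center E).card_eq_card_quotient_mul_card_subgroup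
    rw [hcard, hE.2, pow_succ] at h
    omega
  haveI : Module.Finite (ZMod 2) V := Module.Finite.of_finite
  have hrank : Module.finrank (ZMod 2) V = 2 * (k + 1) := by
    have := Module.natCard_eq_pow_finrank (K := ZMod 2) (V := V)
    rw [hVcard, Nat.card_zmod] at this
    exact (Nat.pow_right_injective le_rfl this).symm
  have hmkone : ∀ c : ZMod 2, c ≠ 0 → c = 1 := by decide
  have mkChart : ∀ {ι : Type} [Fintype ι] [DecidableEq ι] (Q' : QuadraticForm (ZMod 2) (ι → ZMod 2))
      (e : V ≃ₗ[ZMod 2] (ι → ZMod 2)), (∀ v, Q' (e v) = q v) → Nonempty (Chart E (⇑Q') z) := by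
    intro ι _ _ Q' e he
    exact ⟨{
      π := fun x => e (mkV x)
      pi_mul := fun x y => by rw [hmk, map_add]
      surj := e.surjective.comp hsurj
      ker_iff := fun x => by
        rw [LinearEquiv.map_eq_zero_iff]
        refine (Additive.ofMul.injective.eq_iff' rfl).trans ((QuotientGroup.eq_one_iff x).trans
          ⟨hzc x, ?_⟩)
        rintro (rfl | rfl)
        exacts [one_mem _, hz]
      sq_eq := fun x => by
        rw [he, hq]
        rcases hzc _ (sq_mem_center hE x) with e' | e' <;> simp [e', χ, hz1]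
      z_ne := hz1
      z_sq := hzz }⟩
  rcases CfsgLib.POAut.similar_even k Q₀ hnd hrank with ⟨a, e, ha, he⟩ | ⟨a, b, hab, a', e, ha, he⟩
  · refine .inl (mkChart (qPlus (k + 1) (ZMod 2)) (e.trans (plusLin (k + 1) (ZMod 2))) fun v => ?_)
    rw [LinearEquiv.trans_apply, qPlus_plusLin, he, hmkone a ha, one_mul]
    rfl
  · have h1 := hab 1 1
    have h2 := hab 0 1
    obtain ⟨rfl, rfl⟩ : a = 1 ∧ b = 1 :=
      (show ∀ x y : ZMod 2, (1 ^ 2 + x * 1 * 1 + y * 1 ^ 2 = 0 → (1 : ZMod 2) = 0 ∧ (1 : ZMod 2) = 0) →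
        ((0 : ZMod 2) ^ 2 + x * 0 * 1 + y * 1 ^ 2 = 0 → (0 : ZMod 2) = 0 ∧ (1 : ZMod 2) = 0) →
          x = 1 ∧ y = 1 by decide) a b h1 h2
    refine .inr (mkChart _ e fun v => ?_)
    rw [he, hmkone a' ha, one_mul]
    rfl

/-- A plus chart gives a large elementary abelian subgroup. -/
theorem exists_elementary {n : ℕ} {z : E} (hcard : Nat.card E = 2 ^ (2 * n + 1))
    (C : Chart E (⇑(qPlus n (ZMod 2))) z) :
    ∃ A : Subgroup E, IsElementaryAbelian 2 A ∧ Nat.card A = 2 ^ (n + 1) := by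
  let F : E →* Multiplicative (Fin n → ZMod 2) :=
    MonoidHom.mk' (fun x => Multiplicative.ofAdd fun i => C.π x (.inr i)) fun x y => by
      simp only [C.pi_mul]; rfl
  have hsq : ∀ x ∈ F.ker, x * x = 1 := by
    intro x hx
    have hx' : ∀ i, C.π x (.inr i) = 0 := congrFun (Multiplicative.ofAdd.injective hx)
    rw [C.sq_eq, if_pos]
    rw [congrFun (coe_qPlus n) (C.π x), quadFormPlus]
    exact Finset.sum_eq_zero fun i _ => by rw [hx' i, mul_zero]
  refine ⟨F.ker, ⟨⟨⟨fun a b => Subtype.ext ?_⟩⟩, fun x hx => by rw [_root_.sq]; exact hsq x hx⟩, ?_⟩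
  · have ha := inv_eq_of_mul_eq_one_left (hsq a a.2)
    have hb := inv_eq_of_mul_eq_one_left (hsq b b.2)
    have hab := inv_eq_of_mul_eq_one_left (hsq _ (mul_mem a.2 b.2))
    rw [_root_.mul_inv_rev, ha, hb] at hab
    exact hab.symm
  · have hF : Function.Surjective F := fun v => by
      obtain ⟨x, hx⟩ := C.surj (Sum.elim 0 v.toAdd)
      exact ⟨x, Multiplicative.toAdd.injective (funext fun i => congrFun hx (.inr i))⟩
    have h := F.ker.card_mul_index
    rw [index_ker, MonoidHom.range_eq_top.2 hF, card_top, hcard,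
      Nat.card_congr Multiplicative.toAdd, Nat.card_fun, Nat.card_zmod, Nat.card_fin,
      show 2 * n + 1 = (n + 1) + n by ring, pow_add] at h
    exact Nat.eq_of_mul_eq_mul_right (Nat.two_pow_pos n) h

/-- A minus chart excludes a large elementary abelian subgroup. -/
theorem no_elementary {k : ℕ} {z : E} (C : Chart E (⇑(qExt k (qBin (1 : ZMod 2) 1))) z)
    (A : Subgroup E) (hA : IsElementaryAbelian 2 A) : Nat.card A ≠ 2 ^ (k + 1 + 1) := by
  let P : E →* Multiplicative ((Fin k ⊕ Fin k) ⊕ Fin 2 → ZMod 2) :=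
    MonoidHom.mk' (fun x => Multiplicative.ofAdd (C.π x)) fun x y => by simp only [C.pi_mul]; rfl
  let U : Submodule (ZMod 2) ((Fin k ⊕ Fin k) ⊕ Fin 2 → ZMod 2) :=
    AddSubgroup.toZModSubmodule 2 (Subgroup.toAddSubgroup' (A.map P))
  have hanis : ∀ w : Fin 2 → ZMod 2, qBin (1 : ZMod 2) 1 w = 0 → w = 0 := by
    intro w hw
    rw [qBin_apply] at hw
    have := (show ∀ a b : ZMod 2, a ^ 2 + 1 * a * b + 1 * b ^ 2 = 0 → a = 0 ∧ b = 0 by decide) _ _ hw
    funext i
    fin_cases i
    exacts [this.1, this.2]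
  have hU : ∀ u ∈ U, qExt k (qBin (1 : ZMod 2) 1) u = 0 := by
    intro u hu
    obtain ⟨x, hx, hxu⟩ := (hu : Multiplicative.ofAdd u ∈ A.map P)
    have hxu' : C.π x = u := Multiplicative.ofAdd.injective hxu
    have e := C.sq_eq x
    rw [← _root_.sq, hA.2 x hx, hxu'] at e
    by_contra hne
    rw [if_neg hne] at e
    exact C.z_ne e.symm
  have hrank := finrank_le_of_singular _ hanis hU
  have hUcard : Nat.card U ≤ 2 ^ k := by
    rw [Module.natCard_eq_pow_finrank (K := ZMod 2), Nat.card_zmod]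
    exact Nat.pow_le_pow_right two_pos hrank
  have hUmap : Nat.card U = Nat.card (A.map P) :=
    Nat.card_congr (Multiplicative.ofAdd.subtypeEquiv fun _ => Iff.rfl)
  intro hA'
  have h := (P.comp A.subtype).ker.card_mul_index
  rw [index_ker, MonoidHom.range_comp, range_subtype, hA', ← hUmap] at h
  have hk : Nat.card (P.comp A.subtype).ker ≤ 2 := by
    rw [← card_map_of_injective A.subtype_injective]
    refine (card_le_of_le (K := zpowers z) ?_).trans
      (le_of_eq (by rw [Nat.card_zpowers]; exact orderOf_eq_prime (by rw [_root_.sq, C.z_sq]) C.z_ne))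
    rintro _ ⟨x, hx, rfl⟩
    rcases (C.ker_iff (x : E)).1 (Multiplicative.ofAdd.injective hx) with e | e
    · show (x : E) ∈ zpowers z; rw [e]; exact one_mem _
    · show (x : E) ∈ zpowers z; rw [e]; exact mem_zpowers z
  have := Nat.mul_le_mul hk hUcard
  rw [h, pow_succ, pow_succ] at this
  have := Nat.two_pow_pos k
  omega

theorem out_extraspecial (hE : IsExtraspecial 2 E) (n : ℕ) (hn : 1 ≤ n)
    (hcard : Nat.card E = 2 ^ (2 * n + 1)) :
    ((∃ A : Subgroup E, IsElementaryAbelian 2 A ∧ Nat.card ↥A = 2 ^ (n + 1)) →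
      Nonempty (Out E ≃* isometryGroup (ZMod 2) (quadFormPlus n (ZMod 2)))) ∧
    ((¬ ∃ A : Subgroup E, IsElementaryAbelian 2 A ∧ Nat.card ↥A = 2 ^ (n + 1)) →
      Nonempty (Out E ≃* isometryGroup (ZMod 2) (quadFormMinus (n - 1) (ZMod 2) 1 1))) := by
  obtain ⟨k, rfl⟩ : ∃ k, n = k + 1 := ⟨n - 1, by omega⟩
  rw [Nat.add_sub_cancel, ← coe_qPlus, ← coe_qExt_qBin]
  obtain ⟨z, hz, h⟩ := exists_chart hE k hcard
  rcases h with h | h <;> obtain ⟨C⟩ := h
  · exact ⟨fun _ => C.out_equiv hE hz, fun h => absurd (exists_elementary hcard C) h⟩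
  · exact ⟨fun ⟨A, hA, hA'⟩ => absurd hA' (no_elementary C A hA), fun _ => C.out_equiv hE hz⟩

end CfsgLib.LargeExtra.OutExtra
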