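import Mathlib
import Cfsg.Agent.Lib.LargeExtra.Symm

/-!
The odd-order condition of a large extraspecial subgroup follows from the other three conditions when
a second conjugate of the central involution lies in the subgroup.
-/

namespace CfsgLib.LargeExtra

open Subgroup Cfsg

variable {G : Type*} [Group G] [Finite G]

theorem mem_two_core_of_map {Q : Subgroup G} (hE : IsExtraspecial 2 Q) {z g : G}
    (hZ : (center Q).map Q.subtype = zpowers z)
    (hL3 : centralizer ({z} : Set G) ≤ normalizer (Q : Set G))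
    {y : G} (hy : y ∈ Q.map (MulAut.conj g).toMonoidHom) :
    y ∈ (pCore 2 (centralizer ({g * z * g⁻¹} : Set G))).map
      (centralizer ({g * z * g⁻¹} : Set G)).subtype := by
  have hzc : ∀ w ∈ Q, w * z = z * w := by
    intro w hw
    obtain ⟨c, hc, hcz⟩ : z ∈ (center Q).map Q.subtype := hZ ▸ mem_zpowers z
    rw [← hcz]
    exact congrArg Subtype.val (mem_center_iff.1 hc ⟨w, hw⟩)
  have hle : Q.map (MulAut.conj g).toMonoidHom ≤ centralizer ({g * z * g⁻¹} : Set G) := by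
    rintro _ ⟨w, hw, rfl⟩
    rw [mem_centralizer_singleton_iff]
    show g * w * g⁻¹ * (g * z * g⁻¹) = g * z * g⁻¹ * (g * w * g⁻¹)
    calc g * w * g⁻¹ * (g * z * g⁻¹) = g * (w * z) * g⁻¹ := by group
      _ = g * z * g⁻¹ * (g * w * g⁻¹) := by rw [hzc w hw]; group
  haveI : ((Q.map (MulAut.conj g).toMonoidHom).subgroupOf (centralizer ({g * z * g⁻¹} : Set G))).Normal := by
    refine normal_subgroupOf_of_le_normalizer fun c hc => ?_
    rw [mem_centralizer_singleton_iff] at hc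
    have hc' : g⁻¹ * c * g ∈ normalizer (Q : Set G) := hL3 (by
      rw [mem_centralizer_singleton_iff]
      calc g⁻¹ * c * g * z = g⁻¹ * (c * (g * z * g⁻¹)) * g := by group
        _ = z * (g⁻¹ * c * g) := by rw [hc]; group)
    rw [mem_normalizer_iff]
    intro w
    constructor
    · rintro ⟨v, hv, rfl⟩
      exact ⟨_, (mem_normalizer_iff.1 hc' v).1 hv, by simp [mul_assoc]⟩
    · rintro ⟨v, hv, hvw⟩
      refine ⟨(g⁻¹ * c * g)⁻¹ * v * (g⁻¹ * c * g), ?_, ?_⟩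
      · simpa using (mem_normalizer_iff.1 (inv_mem hc') v).1 hv
      · have e : g * v * g⁻¹ = c * w * c⁻¹ := hvw
        show g * ((g⁻¹ * c * g)⁻¹ * v * (g⁻¹ * c * g)) * g⁻¹ = w
        calc g * ((g⁻¹ * c * g)⁻¹ * v * (g⁻¹ * c * g)) * g⁻¹ = c⁻¹ * (g * v * g⁻¹) * c := by group
          _ = w := by rw [e]; group
  exact ⟨⟨y, hle hy⟩, CfsgLib.Cores.le_pCore
    (N := (Q.map (MulAut.conj g).toMonoidHom).subgroupOf (centralizer ({g * z * g⁻¹} : Set G)))
    ((hE.1.1.map (MulAut.conj g).toMonoidHom).comap_subtype) (mem_subgroupOf.2 hy), rfl⟩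

theorem isLargeExtraspecial_of_conj {Q : Subgroup G} (hE : IsExtraspecial 2 Q) {z g : G}
    (hz2 : orderOf z = 2) (hZ : (center Q).map Q.subtype = zpowers z)
    (hL2 : centralizer (Q : Set G) = (center Q).map Q.subtype)
    (hL3 : centralizer ({z} : Set G) ≤ normalizer (Q : Set G))
    (hxQ : g * z * g⁻¹ ∈ Q) (hxz : g * z * g⁻¹ ≠ z) : IsLargeExtraspecial Q := by
  have hL3' : centralizer (((center Q).map Q.subtype : Subgroup G) : Set G) ≤ normalizer (Q : Set G) := by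
    rw [hZ, centralizer_zpowers]; exact hL3
  refine ⟨hE, hL2, hL3', fun K hK hQK => ?_⟩
  have hzQ : z ∈ Q := map_subtype_le _ (hZ.symm ▸ mem_zpowers z : z ∈ (center Q).map Q.subtype)
  obtain ⟨⟨q, hq, hqx⟩, -, hzg⟩ := four_group_automizer hE hz2 hZ hL2 hL3 hxQ hxz
  have hqg : q * g * z * (q * g)⁻¹ = z * (g * z * g⁻¹) := by rw [← hqx]; group
  have hzx_ne : z * (g * z * g⁻¹) ≠ z := by
    intro h
    rw [mul_eq_left, conj_eq_one_iff] at h
    rw [h, orderOf_one] at hz2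
    omega
  obtain ⟨-, -, hzqg⟩ := four_group_automizer (g := q * g) hE hz2 hZ hL2 hL3
    (hqg ▸ mul_mem hzQ hxQ) (hqg ▸ hzx_ne)
  have hfz : ∀ k ∈ K, z * k = k * z → k = 1 := by
    refine centralizer_trivial_of_mem_two_core hE hL2 hL3' hK hQK hZ hzQ hzQ ?_
    have := mem_two_core_of_map (g := 1) hE hZ hL3 (y := z) ⟨z, hzQ, by simp⟩
    rw [show (1 : G) * z * 1⁻¹ = z by group] at this
    exact this
  have hfx : ∀ k ∈ K, g * z * g⁻¹ * k = k * (g * z * g⁻¹) → k = 1 :=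
    centralizer_trivial_of_mem_two_core hE hL2 hL3' hK hQK hZ hzQ hxQ (mem_two_core_of_map hE hZ hL3 hzg)
  have hfzx : ∀ k ∈ K, z * (g * z * g⁻¹) * k = k * (z * (g * z * g⁻¹)) → k = 1 := by
    have := centralizer_trivial_of_mem_two_core hE hL2 hL3' hK hQK hZ hzQ
      (hqg ▸ mul_mem hzQ hxQ : q * g * z * (q * g)⁻¹ ∈ Q) (mem_two_core_of_map hE hZ hL3 hzqg)
    rwa [hqg] at this
  -- each of the three involutions inverts `K`
  have hinv : ∀ b ∈ Q, b * b = 1 → (∀ k ∈ K, b * k = k * b → k = 1) → ∀ a ∈ K, b * a * b⁻¹ = a⁻¹ := by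
    intro b hb hbb hfix
    have hbK : ∀ k ∈ K, b * k * b⁻¹ ∈ K := fun k hk => (mem_normalizer_iff.1 (hQK hb) k).1 hk
    let f : K → K := fun m => ⟨(m : G)⁻¹ * (b * m * b⁻¹), mul_mem (inv_mem m.2) (hbK m m.2)⟩
    have hinj : Function.Injective f := by
      intro m n h
      have h' : (m : G)⁻¹ * (b * m * b⁻¹) = (n : G)⁻¹ * (b * n * b⁻¹) := congrArg Subtype.val h
      have h2 : b * ((n : G) * (m : G)⁻¹) = (n : G) * (m : G)⁻¹ * b := by
        calc b * ((n : G) * (m : G)⁻¹) = n * ((n : G)⁻¹ * (b * n * b⁻¹)) * (b * (m : G)⁻¹) := by group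
          _ = n * ((m : G)⁻¹ * (b * m * b⁻¹)) * (b * (m : G)⁻¹) := by rw [h']
          _ = (n : G) * (m : G)⁻¹ * b := by group
      exact Subtype.ext (mul_inv_eq_one.1 (hfix _ (mul_mem n.2 (inv_mem m.2)) h2)).symm
    intro a ha
    obtain ⟨m, hm⟩ := (Finite.injective_iff_surjective.1 hinj) ⟨a, ha⟩
    have hm' : (m : G)⁻¹ * (b * m * b⁻¹) = a := congrArg Subtype.val hm
    have hbi : b⁻¹ = b := inv_eq_of_mul_eq_one_left hbb
    rw [← hm']
    calc b * ((m : G)⁻¹ * (b * m * b⁻¹)) * b⁻¹ = b * (m : G)⁻¹ * b * m * (b * b)⁻¹ := by group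
      _ = b * (m : G)⁻¹ * b⁻¹ * m := by rw [hbb, hbi, inv_one, mul_one]
      _ = ((m : G)⁻¹ * (b * m * b⁻¹))⁻¹ := by group
  have hzz : z * z = 1 := by rw [← sq, ← hz2, pow_orderOf_eq_one]
  have hxx : g * z * g⁻¹ * (g * z * g⁻¹) = 1 := by
    rw [show g * z * g⁻¹ * (g * z * g⁻¹) = g * (z * z) * g⁻¹ by group, hzz]; group
  refine (eq_bot_iff_forall _).2 fun k hk => hfzx k hk (mul_inv_eq_iff_eq_mul.1 ?_)
  calc z * (g * z * g⁻¹) * k * (z * (g * z * g⁻¹))⁻¹
      = z * ((g * z * g⁻¹) * k * (g * z * g⁻¹)⁻¹) * z⁻¹ := by group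
    _ = k := by rw [hinv _ hxQ hxx hfx k hk, hinv z hzQ hzz hfz _ (inv_mem hk), inv_inv]

end CfsgLib.LargeExtra
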