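import Mathlib
import Cfsg.Agent.Lib.Cores.Components
import Cfsg.Agent.Lib.Solvable.CoprimeAction
import Cfsg.Agent.Lib.LargeExtra.LargeOfConj
import Cfsg.Agent.Lib.MonsterType.Perp

/-!
Large extraspecial subgroups in sections: fixed points of an odd-order group and centralizers of
involutions inside an extraspecial generalized Fitting subgroup.
-/

namespace CfsgLib.LargeExtra

open Subgroup Cfsg

variable {G : Type*} [Group G] [Finite G]

omit [Finite G] in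
theorem zpowers_two_cases {z : G} (hz : orderOf z = 2) : ∀ y ∈ zpowers z, y = 1 ∨ y = z := by
  intro y hy
  obtain ⟨k, rfl⟩ := mem_zpowers_iff.1 hy
  have h2 : z ^ (2 : ℤ) = 1 := by rw [zpow_two, ← sq, ← hz, pow_orderOf_eq_one]
  rcases Int.even_or_odd k with ⟨j, hj⟩ | ⟨j, hj⟩
  · left; rw [hj, ← two_mul, zpow_mul, h2, one_zpow]
  · right; rw [hj, zpow_add, zpow_mul, h2, one_zpow, one_mul, zpow_one]

/-- The data of a self-centralizing extraspecial subgroup normal in an involution centralizer. -/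
structure FData (Q : Subgroup G) (z : G) : Prop where
  extra : IsExtraspecial 2 Q
  ord : orderOf z = 2
  centre : (center Q).map Q.subtype = zpowers z
  self : centralizer (Q : Set G) = (center Q).map Q.subtype
  normal : centralizer ({z} : Set G) ≤ normalizer (Q : Set G)
  le : Q ≤ centralizer ({z} : Set G)

theorem fData {z : G} (hz : orderOf z = 2) {Q : Subgroup G} (hQC : Q ≤ centralizer ({z} : Set G))
    (hF : (generalizedFittingSubgroup ↥(centralizer ({z} : Set G))).map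
      (centralizer ({z} : Set G)).subtype = Q)
    (hQ : IsExtraspecial 2 Q) : FData Q z := by
  have hz1 : z ≠ 1 := fun h => by rw [h, orderOf_one] at hz; omega
  have hself : ∀ x : G, x ∈ centralizer ({z} : Set G) → (∀ y ∈ Q, y * x = x * y) → x ∈ Q := by
    intro x hx hxy
    rw [← hF]
    refine ⟨⟨x, hx⟩, CfsgLib.Cores.centralizer_generalizedFittingSubgroup_le ?_, rfl⟩
    rw [mem_centralizer_iff]
    intro y hy
    exact Subtype.ext (hxy y (by rw [← hF]; exact mem_map_of_mem _ hy))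
  have hcz : ∀ y ∈ Q, y * z = z * y := fun y hy => mem_centralizer_singleton_iff.1 (hQC hy)
  have hzQ : z ∈ Q := hself z (mem_centralizer_singleton_iff.2 rfl) hcz
  have hzc : (⟨z, hzQ⟩ : Q) ∈ center Q := mem_center_iff.2 fun y => Subtype.ext (hcz y y.2)
  have hcentre : (center Q).map Q.subtype = zpowers z := by
    refine (eq_of_le_of_card_ge (K := (center Q).map Q.subtype)
      (zpowers_le.2 (show z ∈ (center Q).map Q.subtype from ⟨⟨z, hzQ⟩, hzc, rfl⟩)) ?_).symm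
    rw [card_map_of_injective Q.subtype_injective, hQ.2, Nat.card_zpowers, hz]
  refine ⟨hQ, hz, hcentre, ?_, ?_, hQC⟩
  · refine le_antisymm (fun x hx => ?_) ?_
    · rw [mem_centralizer_iff] at hx
      have hxQ : x ∈ Q := hself x (mem_centralizer_singleton_iff.2 (hx z hzQ).symm) hx
      exact ⟨⟨x, hxQ⟩, mem_center_iff.2 fun y => Subtype.ext (hx y y.2), rfl⟩
    · rintro _ ⟨x, hx, rfl⟩
      exact mem_centralizer_iff.2 fun y hy => congrArg Subtype.val (mem_center_iff.1 hx ⟨y, hy⟩)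
  · haveI : (Q.subgroupOf (centralizer ({z} : Set G))).Normal := by
      rw [← hF, subgroupOf, comap_map_eq_self_of_injective (Subgroup.subtype_injective _)]
      exact CfsgLib.Cores.generalizedFittingSubgroup_normal
    exact (normal_subgroupOf_iff_le_normalizer hQC).1 inferInstance

/-- A fixed point of an odd-order group outside the centralizer of a fixed element. -/
theorem exists_fixed_noncomm {Q A : Subgroup G} {c y : G} (hQ : IsPGroup 2 Q) (hA : Odd (Nat.card A))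
    (hAQ : A ≤ normalizer (Q : Set G)) (hy : y ∈ Q) (hc : ∀ q ∈ Q, q * c = c * q)
    (hcomm : ∀ a ∈ Q, a * y * a⁻¹ * y⁻¹ = 1 ∨ a * y * a⁻¹ * y⁻¹ = c)
    (hAy : ∀ a ∈ A, a * y = y * a) (hAc : ∀ a ∈ A, a * c = c * a)
    (hne : ∃ q ∈ Q, q * y ≠ y * q) :
    ∃ q ∈ Q ⊓ centralizer (A : Set G), q * y * q⁻¹ = c * y := by
  obtain ⟨q₀, hq₀, hq₀y⟩ := hne
  have hq₀' : q₀ * y * q₀⁻¹ = c * y :=
    eq_mul_of_mul_inv_eq ((hcomm q₀ hq₀).resolve_left fun h =>
      hq₀y (by rwa [mul_inv_eq_one, mul_inv_eq_iff_eq_mul] at h))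
  haveI : Fact (Nat.Prime 2) := ⟨Nat.prime_two⟩
  let N := Q ⊓ centralizer ({y} : Set G)
  have hNp : IsPGroup 2 N := hQ.to_le inf_le_left
  have hAN : A ≤ normalizer (N : Set G) := by
    refine CfsgLib.Solvable.le_normalizer_inf hAQ fun a ha => ?_
    rw [mem_normalizer_iff]
    intro w
    have hai : a⁻¹ * y = y * a⁻¹ := hAy _ (inv_mem ha)
    have hay := hAy a ha
    simp only [mem_centralizer_singleton_iff]
    constructor
    · intro h
      calc a * w * a⁻¹ * y = a * w * (a⁻¹ * y) := by group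
        _ = a * (w * y) * a⁻¹ := by rw [hai]; group
        _ = (a * y) * w * a⁻¹ := by rw [h]; group
        _ = y * (a * w * a⁻¹) := by rw [hay]; group
    · intro h
      calc w * y = a⁻¹ * (a * w * a⁻¹) * (a * y) := by group
        _ = a⁻¹ * (a * w * a⁻¹ * y) * a := by rw [hay]; group
        _ = (a⁻¹ * y) * (a * w * a⁻¹) * a := by rw [h]; group
        _ = y * w := by rw [hai]; group
  have hcop : (Nat.card A).Coprime (Nat.card N) := by
    obtain ⟨k, hk⟩ := IsPGroup.iff_card.1 hNp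
    rw [hk]
    exact (Nat.coprime_two_right.2 hA).pow_right k
  have hsolv : Group.IsSolvable N := by
    haveI := hNp.isNilpotent
    exact inferInstance
  obtain ⟨m, hm, hmq⟩ := CfsgLib.Solvable.exists_mul_mem_centralizer A N hAN hcop (.inr hsolv) q₀ (by
    intro a ha
    have h1 : a * q₀ * a⁻¹ ∈ Q := (mem_normalizer_iff.1 (hAQ ha) q₀).1 hq₀
    rw [commutatorElement_def]
    refine mem_inf.2 ⟨mul_mem h1 (inv_mem hq₀), mem_centralizer_singleton_iff.2
      (mul_inv_eq_iff_eq_mul.1 ?_)⟩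
    have hai : a⁻¹ * y * a = y := by rw [mul_assoc, ← hAy a ha, inv_mul_cancel_left]
    have hcy : c * y = y * c := (hc y hy).symm
    have e2 : a * (c * y) * a⁻¹ = c * y := by
      rw [show a * (c * y) = c * y * a by rw [← mul_assoc, hAc a ha, mul_assoc, hAy a ha, ← mul_assoc],
        mul_inv_cancel_right]
    have e3 : q₀⁻¹ * y * q₀ = c⁻¹ * y := by
      calc q₀⁻¹ * y * q₀ = q₀⁻¹ * (c⁻¹ * (c * y)) * q₀ := by rw [inv_mul_cancel_left]
        _ = q₀⁻¹ * (c⁻¹ * (q₀ * y * q₀⁻¹)) * q₀ := by rw [hq₀']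
        _ = c⁻¹ * y := by
          have : c⁻¹ * q₀ = q₀ * c⁻¹ := (Commute.inv_right (hc q₀ hq₀)).eq.symm
          calc q₀⁻¹ * (c⁻¹ * (q₀ * y * q₀⁻¹)) * q₀ = q₀⁻¹ * (c⁻¹ * q₀) * y := by group
            _ = c⁻¹ * y := by rw [this, inv_mul_cancel_left]
    calc a * q₀ * a⁻¹ * q₀⁻¹ * y * (a * q₀ * a⁻¹ * q₀⁻¹)⁻¹
        = a * q₀ * (a⁻¹ * (q₀⁻¹ * y * q₀) * a) * q₀⁻¹ * a⁻¹ := by group
      _ = a * q₀ * (c⁻¹ * (a⁻¹ * y * a)) * q₀⁻¹ * a⁻¹ := by
        rw [e3, show a⁻¹ * (c⁻¹ * y) * a = c⁻¹ * (a⁻¹ * y * a) by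
          have : a⁻¹ * c⁻¹ = c⁻¹ * a⁻¹ := by rw [← mul_inv_rev, ← mul_inv_rev, hAc a ha]
          calc a⁻¹ * (c⁻¹ * y) * a = (a⁻¹ * c⁻¹) * y * a := by group
            _ = _ := by rw [this]; group]
      _ = a * ((q₀ * c⁻¹) * y * q₀⁻¹) * a⁻¹ := by rw [hai]; group
      _ = a * (c⁻¹ * (q₀ * y * q₀⁻¹)) * a⁻¹ := by rw [(Commute.inv_right (hc q₀ hq₀)).eq]; group
      _ = y := by
        rw [hq₀', inv_mul_cancel_left, hAy a ha, mul_inv_cancel_right])
  refine ⟨m * q₀, mem_inf.2 ⟨mul_mem (mem_inf.1 hm).1 hq₀, hmq⟩, ?_⟩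
  have hmy := mem_centralizer_singleton_iff.1 (mem_inf.1 hm).2
  have hmc := hc m (mem_inf.1 hm).1
  calc m * q₀ * y * (m * q₀)⁻¹ = m * (q₀ * y * q₀⁻¹) * m⁻¹ := by group
    _ = c * y := by rw [hq₀', show m * (c * y) = c * y * m by
        rw [← mul_assoc, hmc, mul_assoc, hmy, ← mul_assoc], mul_inv_cancel_right]

namespace FData

variable {Q : Subgroup G} {z : G} (h : FData Q z)

include h

theorem z_mem : z ∈ Q := by
  have : z ∈ (center Q).map Q.subtype := h.centre ▸ mem_zpowers z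
  exact map_subtype_le _ this

theorem z_comm {y : G} (hy : y ∈ Q) : y * z = z * y := mem_centralizer_singleton_iff.1 (h.le hy)

theorem comm_cases {a b : G} (ha : a ∈ Q) (hb : b ∈ Q) :
    a * b * a⁻¹ * b⁻¹ = 1 ∨ a * b * a⁻¹ * b⁻¹ = z :=
  zpowers_two_cases h.ord _ (h.centre ▸ ⟨_, comm_mem_center h.extra ⟨a, ha⟩ ⟨b, hb⟩, rfl⟩)

theorem sq_cases {a : G} (ha : a ∈ Q) : a * a = 1 ∨ a * a = z :=
  zpowers_two_cases h.ord _ (h.centre ▸ ⟨_, sq_mem_center h.extra ⟨a, ha⟩, rfl⟩)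

theorem exists_noncomm {y : G} (hy : y ∈ Q) (hyZ : y ≠ 1 ∧ y ≠ z) : ∃ q ∈ Q, q * y ≠ y * q := by
  by_contra! hall
  have : y ∈ (center Q).map Q.subtype :=
    ⟨⟨y, hy⟩, mem_center_iff.2 fun q => Subtype.ext (hall q q.2), rfl⟩
  rw [h.centre] at this
  rcases zpowers_two_cases h.ord y this with e | e
  exacts [hyZ.1 e, hyZ.2 e]

theorem x_comm {g : G} {y : G} (hy : y ∈ Q.map (MulAut.conj g).toMonoidHom) :
    y * (g * z * g⁻¹) = g * z * g⁻¹ * y := by
  obtain ⟨w, hw, rfl⟩ := hy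
  show g * w * g⁻¹ * (g * z * g⁻¹) = g * z * g⁻¹ * (g * w * g⁻¹)
  calc g * w * g⁻¹ * (g * z * g⁻¹) = g * (w * z) * g⁻¹ := by group
    _ = g * z * g⁻¹ * (g * w * g⁻¹) := by rw [h.z_comm hw]; group

theorem map_comm_cases {g a b : G} (ha : a ∈ Q.map (MulAut.conj g).toMonoidHom)
    (hb : b ∈ Q.map (MulAut.conj g).toMonoidHom) :
    a * b * a⁻¹ * b⁻¹ = 1 ∨ a * b * a⁻¹ * b⁻¹ = g * z * g⁻¹ := by
  obtain ⟨v, hv, rfl⟩ := ha
  obtain ⟨w, hw, rfl⟩ := hb
  have e : g * v * g⁻¹ * (g * w * g⁻¹) * (g * v * g⁻¹)⁻¹ * (g * w * g⁻¹)⁻¹ =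
      g * (v * w * v⁻¹ * w⁻¹) * g⁻¹ := by group
  rcases h.comm_cases hv hw with h1 | h1
  · left; exact e.trans (by rw [h1]; group)
  · right; exact e.trans (by rw [h1])

theorem map_exists_noncomm {g y : G} (hy : y ∈ Q.map (MulAut.conj g).toMonoidHom)
    (hyZ : y ≠ 1 ∧ y ≠ g * z * g⁻¹) : ∃ r ∈ Q.map (MulAut.conj g).toMonoidHom, r * y ≠ y * r := by
  obtain ⟨w, hw, rfl⟩ := hy
  obtain ⟨q, hq, hqw⟩ := h.exists_noncomm hw
    ⟨fun e => hyZ.1 (by rw [e, map_one]), fun e => hyZ.2 (by rw [e]; rfl)⟩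
  exact ⟨_, ⟨q, hq, rfl⟩, fun e => hqw ((MulAut.conj g).injective (by simpa [map_mul] using e))⟩

theorem conj_normalizer {g c : G} (hc : c * (g * z * g⁻¹) = g * z * g⁻¹ * c) :
    c ∈ normalizer ((Q.map (MulAut.conj g).toMonoidHom : Subgroup G) : Set G) := by
  have hc' : g⁻¹ * c * g ∈ normalizer (Q : Set G) := h.normal (by
    rw [mem_centralizer_singleton_iff]
    calc g⁻¹ * c * g * z = g⁻¹ * (c * (g * z * g⁻¹)) * g := by group
      _ = z * (g⁻¹ * c * g) := by rw [hc]; group)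
  rw [mem_normalizer_iff]
  intro w
  simp only [mem_map_equiv, MulAut.conj_symm_apply]
  have := mem_normalizer_iff.1 hc' (g⁻¹ * w * g)
  simpa [mul_assoc] using this

theorem odd_part {A R : Subgroup G} (hzC : ∀ w ∈ A ⊔ R, w * z = z * w) (hzA : z ∈ centralizer ((A ⊔ R : Subgroup G) : Set G))
    (hR : z ∈ R) (h4 : ¬ 4 ∣ Nat.card ↥(centralizer ((A ⊔ R : Subgroup G) : Set G)))
    (hO : (oddCore ↥(centralizer ((A ⊔ R : Subgroup G) : Set G))).map
      (centralizer ((A ⊔ R : Subgroup G) : Set G)).subtype ≤ A) :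
    centralizer ((A ⊔ R : Subgroup G) : Set G) ≤ A ⊔ zpowers z := by
  obtain ⟨D, hD⟩ : ∃ D, D = centralizer ((A ⊔ R : Subgroup G) : Set G) := ⟨_, rfl⟩
  rw [← hD] at h4 hO hzA ⊢
  let zD : D := ⟨z, hzA⟩
  have hzc : ∀ y : D, y * zD = zD * y := by
    intro y
    have hy : (y : G) ∈ centralizer ((A ⊔ R : Subgroup G) : Set G) := hD ▸ y.2
    exact Subtype.ext ((mem_centralizer_iff.1 hy) z (mem_sup_right hR)).symm
  let Z : Subgroup D := zpowers zD
  haveI : Z.Normal := ⟨fun a ha b => by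
    obtain ⟨k, rfl⟩ := mem_zpowers_iff.1 ha
    rw [((Commute.zpow_right (hzc b) k)).eq, mul_inv_cancel_right]
    exact zpow_mem (mem_zpowers zD) k⟩
  have hZc : Nat.card Z = 2 := by
    rw [Nat.card_zpowers, Subgroup.orderOf_mk, h.ord]
  have hidx : Odd Z.index := by
    rw [← Nat.not_even_iff_odd]
    rintro ⟨j, hj⟩
    refine h4 ⟨j, ?_⟩
    rw [← Z.card_mul_index, hZc, hj]; ring
  obtain ⟨N, hN⟩ := exists_right_complement'_of_coprime (N := Z) (by
    rw [hZc]; exact (Nat.coprime_two_left.2 hidx))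
  have hcZ : ∀ a ∈ Z, ∀ b : D, a * b = b * a := by
    intro a ha b
    obtain ⟨k, rfl⟩ := mem_zpowers_iff.1 ha
    exact ((Commute.zpow_right (hzc b) k)).eq.symm
  haveI : N.Normal := ⟨fun m hm b => by
    have hb : b ∈ Z ⊔ N := hN.sup_eq_top ▸ mem_top b
    obtain ⟨a, ha, k, hk, rfl⟩ := mem_sup_of_normal_left.1 hb
    have : k * m * k⁻¹ ∈ N := mul_mem (mul_mem hk hm) (inv_mem hk)
    rw [show a * k * m * (a * k)⁻¹ = a * (k * m * k⁻¹) * a⁻¹ by group, hcZ a ha, mul_inv_cancel_right]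
    exact this⟩
  have hNodd : Odd (Nat.card N) := by
    have := hN.card_mul
    rw [hN.symm.index_eq_card] at hidx
    exact hidx
  have hNA : ∀ m ∈ N, (m : G) ∈ A := fun m hm =>
    hO ⟨m, CfsgLib.Cores.le_oddCore_of_odd (N := N) hNodd hm, rfl⟩
  intro d hd
  have hd' : (⟨d, hd⟩ : D) ∈ Z ⊔ N := hN.sup_eq_top ▸ mem_top _
  obtain ⟨a, ha, k, hk, hak⟩ := mem_sup_of_normal_left.1 hd'
  obtain ⟨j, rfl⟩ := mem_zpowers_iff.1 ha
  have e : z ^ j * (k : G) = d := by simpa [zD] using congrArg Subtype.val hak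
  rw [← e]
  exact mul_mem (mem_sup_right (zpow_mem (mem_zpowers z) j)) (mem_sup_left (hNA k hk))

theorem fixed_section {A : Subgroup G} (hA : A ≤ centralizer ({z} : Set G)) (hAodd : Odd (Nat.card A))
    {R : Subgroup G} (hR : R = Q ⊓ centralizer (A : Set G)) (hR32 : 32 ≤ Nat.card R)
    (hO : (oddCore ↥(centralizer ((A ⊔ R : Subgroup G) : Set G))).map
      (centralizer ((A ⊔ R : Subgroup G) : Set G)).subtype ≤ A)
    (h4 : ¬ 4 ∣ Nat.card ↥(centralizer ((A ⊔ R : Subgroup G) : Set G)))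
    (g : G) (hgR : g * z * g⁻¹ ∈ R) (hgZ : g * z * g⁻¹ ∉ (center Q).map Q.subtype)
    (M : Subgroup G) (hM : M = centralizer (A : Set G) ⊔ A) [(A.subgroupOf M).Normal] :
    (M ⊓ centralizer ((R ⊔ A : Subgroup G) : Set G)) ⊔ A = A ⊔ (center Q).map Q.subtype ∧
    IsLargeExtraspecial ((R.subgroupOf M).map (QuotientGroup.mk' (A.subgroupOf M))) ∧
    ∃ x ∈ R ⊔ (Q.map (MulAut.conj g).toMonoidHom ⊓ centralizer (A : Set G)),
      x * (g * z * g⁻¹) * x⁻¹ = z := by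
  haveI : Fact (Nat.Prime 2) := ⟨Nat.prime_two⟩
  have hz1 : z ≠ 1 := fun e => by have := h.ord; rw [e, orderOf_one] at this; omega
  have hzz : z * z = 1 := by rw [← sq, ← h.ord, pow_orderOf_eq_one]
  have hAz : ∀ a ∈ A, a * z = z * a := fun a ha => mem_centralizer_singleton_iff.1 (hA ha)
  have hRQ : R ≤ Q := hR ▸ inf_le_left
  have hRA : ∀ r ∈ R, ∀ a ∈ A, a * r = r * a := fun r hr a ha => by
    rw [hR] at hr; exact (mem_centralizer_iff.1 hr.2) a ha
  have hzR : z ∈ R := hR ▸ mem_inf.2 ⟨h.z_mem, mem_centralizer_iff.2 hAz⟩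
  have hAN : A ≤ normalizer (Q : Set G) := hA.trans h.normal
  obtain ⟨x, hx⟩ : ∃ x, x = g * z * g⁻¹ := ⟨_, rfl⟩
  rw [← hx] at hgR hgZ
  have hxne : x ≠ 1 ∧ x ≠ z := ⟨fun e => hgZ (e ▸ one_mem _),
    fun e => hgZ (e ▸ h.centre ▸ mem_zpowers z)⟩
  have hfix : ∀ y ∈ R, y ≠ 1 ∧ y ≠ z → ∃ q ∈ R, q * y * q⁻¹ = z * y := by
    intro y hy hne
    obtain ⟨q, hq, hqy⟩ := exists_fixed_noncomm h.extra.1.1 hAodd hAN (hRQ hy) (fun w hw => h.z_comm hw)
      (fun a ha => h.comm_cases ha (hRQ hy)) (fun a ha => hRA y hy a ha) hAz (h.exists_noncomm (hRQ hy) hne)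
    exact ⟨q, hR ▸ hq, hqy⟩
  have hRcen : ∀ y ∈ R, (∀ r ∈ R, r * y = y * r) → y = 1 ∨ y = z := by
    intro y hy hcy
    by_contra! hne
    obtain ⟨q, hq, hqy⟩ := hfix y hy hne
    rw [hcy q hq, mul_inv_cancel_right] at hqy
    exact hz1 (right_eq_mul.1 hqy)
  -- the conjugation
  obtain ⟨q, hq, hqx⟩ := hfix x hgR hxne
  obtain ⟨⟨q', hq', hqx'⟩, -, hzg⟩ := four_group_automizer h.extra h.ord h.centre h.self h.normal
    (g := g) (hx ▸ hRQ hgR) (hx ▸ hxne.2)
  have hzx : z * x = x * z := (h.z_comm (hRQ hgR)).symm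
  obtain ⟨r, hr, hrz⟩ := exists_fixed_noncomm (Q := Q.map (MulAut.conj g).toMonoidHom) (A := A)
    (c := x) (y := z) (h.extra.1.1.map _) hAodd
    (fun a ha => h.conj_normalizer (by rw [← hx]; exact hRA x hgR a ha)) hzg
    (fun w hw => hx ▸ h.x_comm hw) (fun a ha => hx ▸ h.map_comm_cases ha hzg) hAz
    (fun a ha => hRA x hgR a ha) (h.map_exists_noncomm hzg ⟨hz1, hx ▸ hxne.2.symm⟩)
  have hconj : r⁻¹ * q * x * (r⁻¹ * q)⁻¹ = z := by
    calc r⁻¹ * q * x * (r⁻¹ * q)⁻¹ = r⁻¹ * (q * x * q⁻¹) * r := by group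
      _ = r⁻¹ * (r * z * r⁻¹) * r := by rw [hqx, hrz, hzx]
      _ = z := by group
  have hzmap : (center Q).map Q.subtype = zpowers z := h.centre
  have hCA : centralizer ((A ⊔ R : Subgroup G) : Set G) ≤ A ⊔ zpowers z := by
    refine h.odd_part ?_ (mem_centralizer_iff.2 ?_) hzR h4 hO
    · intro w hw
      have : A ⊔ R ≤ centralizer ({z} : Set G) := sup_le hA (hRQ.trans h.le)
      exact mem_centralizer_singleton_iff.1 (this hw)
    · intro w hw
      have : A ⊔ R ≤ centralizer ({z} : Set G) := sup_le hA (hRQ.trans h.le)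
      exact mem_centralizer_singleton_iff.1 (this hw)
  refine ⟨?_, ?_, r⁻¹ * q, mul_mem (inv_mem (mem_sup_right hr)) (mem_sup_left hq), hx ▸ hconj⟩
  · rw [hzmap]
    refine le_antisymm (sup_le ?_ le_sup_left) (sup_le le_sup_right (zpowers_le.2 (mem_sup_left (mem_inf.2
      ⟨hM ▸ mem_sup_left (mem_centralizer_iff.2 hAz), mem_centralizer_iff.2 fun w hw => ?_⟩))))
    · rw [sup_comm R A]
      exact inf_le_right.trans hCA
    · have : R ⊔ A ≤ centralizer ({z} : Set G) := sup_le (hRQ.trans h.le) hA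
      exact mem_centralizer_singleton_iff.1 (this hw)
  -- the section
  have hCM : centralizer (A : Set G) ≤ M := hM ▸ le_sup_left
  have hRM : R ≤ M := fun y hy => hCM (mem_centralizer_iff.2 (hRA y hy))
  let φ := QuotientGroup.mk' (A.subgroupOf M)
  have hφ1 : ∀ u : M, φ u = 1 ↔ (u : G) ∈ A := fun u =>
    (QuotientGroup.eq_one_iff u).trans mem_subgroupOf
  obtain ⟨P, hP⟩ : ∃ P, P = (R.subgroupOf M).map φ := ⟨_, rfl⟩
  rw [← hP]
  have hmemP : ∀ w ∈ P, ∃ y, ∃ hy : y ∈ R, φ ⟨y, hRM hy⟩ = w := by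
    rintro w hw
    rw [hP] at hw
    obtain ⟨⟨y, hyM⟩, hy, rfl⟩ := hw
    exact ⟨y, mem_subgroupOf.1 hy, rfl⟩
  have himg : ∀ y, ∀ hy : y ∈ R, φ ⟨y, hRM hy⟩ ∈ P := fun y hy =>
    hP ▸ mem_map_of_mem _ (mem_subgroupOf.2 hy)
  have hinj : ∀ y, ∀ hy : y ∈ R, φ ⟨y, hRM hy⟩ = 1 → y = 1 := fun y hy e =>
    eq_one_of_two_group_of_odd h.extra.1.1 hAodd (hRQ hy) ((hφ1 _).1 e)
  -- lifts to the centralizer of `A`
  have hlift : ∀ w : M ⧸ A.subgroupOf M, ∃ u, ∃ hu : u ∈ centralizer (A : Set G), φ ⟨u, hCM hu⟩ = w := by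
    intro w
    obtain ⟨⟨v, hv⟩, rfl⟩ := QuotientGroup.mk'_surjective _ w
    have hv' : v ∈ centralizer (A : Set G) ⊔ A := hM ▸ hv
    rw [← SetLike.mem_coe, coe_mul_of_left_le_normalizer_right _ _ (Subgroup.centralizer_le_normalizer _)] at hv'
    obtain ⟨u, hu, a, ha, rfl⟩ := hv'
    refine ⟨u, hu, QuotientGroup.eq.2 (mem_subgroupOf.2 ?_)⟩
    simpa using ha
  -- commuting modulo `A` means commuting
  have hexact : ∀ u ∈ centralizer (A : Set G), ∀ y ∈ R, u * y * u⁻¹ * y⁻¹ ∈ A → u * y = y * u := by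
    intro u hu y hy ha
    obtain ⟨a, hadef⟩ : ∃ a, a = u * y * u⁻¹ * y⁻¹ := ⟨_, rfl⟩
    rw [← hadef] at ha
    have hconj : u * y * u⁻¹ = a * y := by rw [hadef]; group
    obtain ⟨k, hk⟩ := h.extra.1.1 ⟨y, hRQ hy⟩
    have hk' : y ^ 2 ^ k = 1 := by simpa using congrArg Subtype.val hk
    have h1 : (a * y) ^ 2 ^ k = 1 := by rw [← hconj, conj_pow, hk', mul_one, mul_inv_cancel]
    have h2 : Commute a y := hRA y hy a ha
    rw [h2.mul_pow, hk', mul_one] at h1
    have h3 : orderOf a ∣ 2 ^ k := orderOf_dvd_of_pow_eq_one h1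
    have h4' : orderOf a ∣ Nat.card A := Subgroup.orderOf_dvd_natCard _ ha
    have : a = 1 := by
      rw [← orderOf_eq_one_iff, ← Nat.dvd_one]
      have : Nat.gcd (2 ^ k) (Nat.card A) = 1 := (Nat.coprime_two_left.2 hAodd).pow_left k
      exact this ▸ Nat.dvd_gcd h3 h4'
    rw [this, one_mul] at hconj
    exact mul_inv_eq_iff_eq_mul.1 hconj
  obtain ⟨zb, hzb⟩ : ∃ zb, zb = φ ⟨z, hRM hzR⟩ := ⟨_, rfl⟩
  have hzbP : zb ∈ P := hzb ▸ himg z hzR
  have hzb1 : zb ≠ 1 := fun e => hz1 (hinj z hzR (hzb ▸ e))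
  have hval : ∀ y, ∀ hy : y ∈ R, y = 1 ∨ y = z → φ ⟨y, hRM hy⟩ = 1 ∨ φ ⟨y, hRM hy⟩ = zb := by
    rintro y hy (rfl | rfl)
    · exact .inl (map_one φ)
    · exact .inr hzb.symm
  have hcenP : ∀ w, w ∈ P → ((∀ v ∈ P, v * w = w * v) ↔ w = 1 ∨ w = zb) := by
    intro w hw
    constructor
    · intro hcw
      obtain ⟨y, hy, rfl⟩ := hmemP w hw
      refine hval y hy (hRcen y hy fun r' hr' => ?_)
      have e := hcw _ (himg r' hr')
      rw [← map_mul, ← map_mul, ← mul_inv_eq_one, ← map_inv, ← map_mul, hφ1] at e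
      refine hexact r' (mem_centralizer_iff.2 (hRA r' hr')) y hy ?_
      simpa [mul_assoc] using e
    · intro hw' v hv
      obtain ⟨y, hy, rfl⟩ := hmemP v hv
      rcases hw' with e | e <;> rw [e]
      · simp
      · rw [hzb, ← map_mul, ← map_mul]
        exact congrArg φ (Subtype.ext (h.z_comm (hRQ hy)))
  have hPp : IsPGroup 2 P := hP ▸ ((h.extra.1.1.to_le hRQ).comap_subtype).map φ
  have hext : IsExtraspecial 2 P := by
    refine CfsgLib.MonsterType.isExtraspecial_of_center hPp ⟨zb, hzbP⟩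
      (fun e => hzb1 (congrArg Subtype.val e)) (fun w => ?_) (fun v w => ?_) (fun v => ?_) ?_
    · rw [mem_center_iff]
      simp only [Subtype.ext_iff, OneMemClass.coe_one, coe_mul]
      exact ⟨fun e => (hcenP w w.2).1 fun v hv => e ⟨v, hv⟩, fun e v => (hcenP w w.2).2 e v v.2⟩
    · simp only [Subtype.ext_iff, OneMemClass.coe_one, coe_mul, coe_inv]
      obtain ⟨a, ha, hva⟩ := hmemP v v.2
      obtain ⟨b, hb, hwb⟩ := hmemP w w.2
      rw [← hva, ← hwb]
      have := hval _ (mul_mem (mul_mem (mul_mem ha hb) (inv_mem ha)) (inv_mem hb))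
        (h.comm_cases (hRQ ha) (hRQ hb))
      exact this
    · simp only [Subtype.ext_iff, OneMemClass.coe_one, coe_mul]
      obtain ⟨a, ha, hva⟩ := hmemP v v.2
      rw [← hva]
      exact hval _ (mul_mem ha ha) (h.sq_cases (hRQ ha))
    · refine ⟨⟨_, himg x hgR⟩, ⟨_, himg q hq⟩, fun e => ?_⟩
      have e' := congrArg Subtype.val e
      simp only [coe_mul] at e'
      rw [← map_mul, ← map_mul, ← mul_inv_eq_one, ← map_inv, ← map_mul, hφ1] at e'
      have hxq := hexact x (mem_centralizer_iff.2 (hRA x hgR)) q hq (by simpa [mul_assoc] using e')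
      rw [← hxq, mul_inv_cancel_right] at hqx
      exact hz1 (right_eq_mul.1 hqx)
  have hcP : (center P).map P.subtype = zpowers zb := by
    refine le_antisymm ?_ (zpowers_le.2 ⟨⟨zb, hzbP⟩, mem_center_iff.2 fun v =>
      Subtype.ext ((hcenP zb hzbP).2 (.inr rfl) v v.2), rfl⟩)
    rintro _ ⟨⟨w, hw⟩, hwc, rfl⟩
    rcases (hcenP w hw).1 (fun v hv => congrArg Subtype.val (mem_center_iff.1 hwc ⟨v, hv⟩)) with e | e
    · simp [e]
    · simp [e]
  have hzbo : orderOf zb = 2 := by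
    refine orderOf_eq_prime ?_ hzb1
    rw [hzb, ← map_pow]
    exact (congrArg φ (Subtype.ext (by simp [sq, hzz]))).trans (map_one φ)
  have hself : centralizer (P : Set (M ⧸ A.subgroupOf M)) = (center P).map P.subtype := by
    refine le_antisymm (fun w hw => ?_) ?_
    · obtain ⟨u, hu, rfl⟩ := hlift w
      rw [hcP]
      have huR : u ∈ centralizer ((A ⊔ R : Subgroup G) : Set G) := by
        rw [mem_centralizer_iff]
        intro w' hw'
        have : A ⊔ R ≤ centralizer ({u} : Set G) := sup_le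
          (fun a ha => mem_centralizer_singleton_iff.2 ((mem_centralizer_iff.1 hu) a ha))
          (fun y hy => mem_centralizer_singleton_iff.2 (by
            have e := (mem_centralizer_iff.1 hw) _ (himg y hy)
            rw [eq_comm, ← map_mul, ← map_mul, ← mul_inv_eq_one, ← map_inv, ← map_mul, hφ1] at e
            exact (hexact u hu y hy (by simpa [mul_assoc] using e)).symm))
        exact mem_centralizer_singleton_iff.1 (this hw')
      have h2 : u ∈ zpowers z ⊔ A := sup_comm A (zpowers z) ▸ hCA huR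
      rw [← SetLike.mem_coe, coe_mul_of_left_le_normalizer_right _ _
        (zpowers_le.2 (Subgroup.centralizer_le_normalizer _ (mem_centralizer_iff.2 hAz)))] at h2
      obtain ⟨zk, hzk, a, ha, hua⟩ := h2
      obtain ⟨k, rfl⟩ := mem_zpowers_iff.1 hzk
      rw [show φ ⟨u, hCM hu⟩ = zb ^ k by
        rw [hzb, ← map_zpow]
        refine QuotientGroup.eq.2 (mem_subgroupOf.2 ?_)
        have hua' : z ^ k * a = u := hua
        simpa [← hua', mul_assoc] using inv_mem ha]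
      exact zpow_mem (mem_zpowers zb) k
    · rintro _ ⟨w, hw, rfl⟩
      exact mem_centralizer_iff.2 fun v hv => congrArg Subtype.val (mem_center_iff.1 hw ⟨v, hv⟩)
  have hnorm : centralizer ({zb} : Set (M ⧸ A.subgroupOf M)) ≤ normalizer (P : Set (M ⧸ A.subgroupOf M)) := by
    intro w hw
    obtain ⟨u, hu, rfl⟩ := hlift w
    have e := mem_centralizer_singleton_iff.1 hw
    rw [hzb, ← map_mul, ← map_mul, ← mul_inv_eq_one, ← map_inv, ← map_mul, hφ1] at e
    have huz := hexact u hu z hzR (by simpa [mul_assoc] using e)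
    have huQ := h.normal (mem_centralizer_singleton_iff.2 huz)
    have huR : ∀ v ∈ normalizer (Q : Set G) ⊓ centralizer (A : Set G), ∀ y ∈ R, v * y * v⁻¹ ∈ R := by
      intro v hv y hy
      rw [hR] at hy ⊢
      exact mem_inf.2 ⟨(mem_normalizer_iff.1 hv.1 y).1 hy.1, mul_mem (mul_mem hv.2 hy.2) (inv_mem hv.2)⟩
    rw [mem_normalizer_iff]
    intro v
    constructor
    · intro hv
      obtain ⟨y, hy, rfl⟩ := hmemP v hv
      rw [← map_inv, ← map_mul, ← map_mul]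
      exact himg _ (huR u ⟨huQ, hu⟩ y hy)
    · intro hv
      obtain ⟨y, hy, hy'⟩ := hmemP _ hv
      have e : v = (φ ⟨u, hCM hu⟩)⁻¹ * φ ⟨y, hRM hy⟩ * (φ ⟨u, hCM hu⟩) := by rw [hy']; group
      rw [e, ← map_inv, ← map_mul, ← map_mul]
      have := himg _ (huR u⁻¹ (mem_inf.2 ⟨inv_mem huQ, inv_mem hu⟩) y hy)
      refine (congrArg (fun m => φ m ∈ P) (Subtype.ext ?_)).mp this
      simp
  have hgen : R ⊔ (Q.map (MulAut.conj g).toMonoidHom ⊓ centralizer (A : Set G)) ≤ M :=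
    sup_le hRM (inf_le_right.trans hCM)
  let u : M := ⟨r⁻¹ * q, hgen (mul_mem (inv_mem (mem_sup_right hr)) (mem_sup_left hq))⟩
  have hbar : (φ u)⁻¹ * zb * φ u = φ ⟨x, hRM hgR⟩ := by
    rw [hzb, ← map_inv, ← map_mul, ← map_mul]
    refine congrArg φ (Subtype.ext ?_)
    show (r⁻¹ * q)⁻¹ * z * (r⁻¹ * q) = x
    rw [← hconj]; group
  refine isLargeExtraspecial_of_conj (g := (φ u)⁻¹) hext hzbo hcP hself hnorm ?_ ?_
  · rw [inv_inv, hbar]; exact himg x hgR
  · rw [inv_inv, hbar]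
    intro e
    rw [hzb, ← mul_inv_eq_one, ← map_inv, ← map_mul] at e
    have := hinj _ (mul_mem hgR (inv_mem hzR)) e
    exact hxne.2 (mul_inv_eq_one.1 this)

theorem involution_section (w : ℕ) (hw : 3 ≤ w) (hcard : Nat.card Q = 2 ^ (2 * w + 1))
    (g : G) (hgQ : g * z * g⁻¹ ∈ Q) (hgZ : g * z * g⁻¹ ∉ (center Q).map Q.subtype)
    (t : G) (ht : orderOf t = 2) (htQ : t ∈ Q ⊓ Q.map (MulAut.conj g).toMonoidHom)
    (htz : ¬ IsConj z t) (P : Subgroup G) (hP : P = Q ⊓ centralizer ({t} : Set G))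
    (hCP : ∀ c ∈ centralizer ({z} : Set G),
      (∀ x ∈ P, ∃ y ∈ closure ({t, z} : Set G), c * x * c⁻¹ = x * y) ↔ c ∈ Q)
    [((zpowers t).subgroupOf (centralizer ({t} : Set G))).Normal] :
    IsLargeExtraspecial ((P.subgroupOf (centralizer ({t} : Set G))).map
        (QuotientGroup.mk' ((zpowers t).subgroupOf (centralizer ({t} : Set G))))) ∧
      ∃ x ∈ P ⊔ (Q.map (MulAut.conj g).toMonoidHom ⊓ centralizer ({t} : Set G)),
        x * (g * z * g⁻¹) * x⁻¹ = z := by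
  haveI : Fact (Nat.Prime 2) := ⟨Nat.prime_two⟩
  have hz1 : z ≠ 1 := fun e => by have := h.ord; rw [e, orderOf_one] at this; omega
  have hzz : z * z = 1 := by rw [← sq, ← h.ord, pow_orderOf_eq_one]
  have htt : t * t = 1 := by rw [← sq, ← ht, pow_orderOf_eq_one]
  have ht1 : t ≠ 1 := fun e => by rw [e, orderOf_one] at ht; omega
  have htzne : t ≠ z := fun e => htz (e ▸ IsConj.refl _)
  obtain ⟨htQ', htg⟩ := mem_inf.1 htQ
  obtain ⟨x, hx⟩ : ∃ x, x = g * z * g⁻¹ := ⟨_, rfl⟩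
  rw [← hx] at hgQ hgZ
  have hxconj : IsConj z x := hx ▸ isConj_iff.2 ⟨g, rfl⟩
  have hxne : x ≠ 1 ∧ x ≠ z := ⟨fun e => hgZ (e ▸ one_mem _),
    fun e => hgZ (e ▸ h.centre ▸ mem_zpowers z)⟩
  have hmemP : ∀ {y : G}, y ∈ P ↔ y ∈ Q ∧ y * t = t * y := by
    intro y; rw [hP, mem_inf, mem_centralizer_singleton_iff]
  have htzc : t * z = z * t := h.z_comm htQ'
  obtain ⟨q₀, hq₀, hq₀t⟩ : ∃ q ∈ Q, q * t * q⁻¹ = z * t := by
    obtain ⟨q, hq, hqt⟩ := h.exists_noncomm htQ' ⟨ht1, htzne⟩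
    exact ⟨q, hq, eq_mul_of_mul_inv_eq ((h.comm_cases hq htQ').resolve_left fun e =>
      hqt (by rwa [mul_inv_eq_one, mul_inv_eq_iff_eq_mul] at e))⟩
  have hztconj : ¬ IsConj z (z * t) := fun e => htz (e.trans (isConj_iff.2 ⟨q₀⁻¹, by
    rw [← hq₀t]; group⟩))
  have hztt : z * t ≠ t := fun e => hz1 (mul_eq_right.1 e)
  have hzeq := fun y (hy : ∀ r ∈ Q, r * t = t * r → r * y = y * r) =>
    centralizer_perp_eq h.extra h.z_mem (fun w hw => h.z_comm hw) h.centre (zpowers_two_cases h.ord)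
      h.self h.normal htQ' htt hq₀ hq₀t hztt (c := y) hy
  -- conjugating inside the centralizer of `t`
  obtain ⟨q, hq, hqx⟩ : ∃ q ∈ P, q * x * q⁻¹ = z * x := by
    by_contra! hno
    rcases hzeq x (fun r hr hrt => by
      rcases h.comm_cases hr hgQ with e | e
      · rwa [mul_inv_eq_one, mul_inv_eq_iff_eq_mul] at e
      · exact absurd (eq_mul_of_mul_inv_eq e) (hno r (hmemP.2 ⟨hr, hrt⟩))) with e | e | e | e
    exacts [hxne.1 e, hxne.2 e, htz (e ▸ hxconj), hztconj (e ▸ hxconj)]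
  obtain ⟨⟨q', hq', hqx'⟩, -, hzg⟩ := four_group_automizer h.extra h.ord h.centre h.self h.normal
    (g := g) (hx ▸ hgQ) (hx ▸ hxne.2)
  have hzx : z * x = x * z := (h.z_comm hgQ).symm
  have hxt : x * t = t * x := (hx ▸ h.x_comm htg).symm
  have hxP : x ∈ P := hmemP.2 ⟨hgQ, hxt⟩
  obtain ⟨r, hr, hrt, hrz⟩ : ∃ r ∈ Q.map (MulAut.conj g).toMonoidHom,
      r * t = t * r ∧ r * z * r⁻¹ = x * z := by
    obtain ⟨t', ht'Q, ht'⟩ := htg
    obtain ⟨z', hz'Q, hz'⟩ := hzg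
    have hti : t' = g⁻¹ * t * g := by
      rw [← ht']; show t' = g⁻¹ * (g * t' * g⁻¹) * g; group
    have hzi : z' = g⁻¹ * z * g := by
      rw [← hz']; show z' = g⁻¹ * (g * z' * g⁻¹) * g; group
    have ht'1 : t' ≠ 1 := fun e => ht1 (by rw [← ht', e, map_one])
    have ht'z : t' ≠ z := fun e => by
      refine htz (hxconj.trans ?_)
      rw [← ht', e, hx]; exact IsConj.refl _
    obtain ⟨a, ha, hat⟩ := h.exists_noncomm ht'Q ⟨ht'1, ht'z⟩
    have hat' : a * t' * a⁻¹ = z * t' := eq_mul_of_mul_inv_eq ((h.comm_cases ha ht'Q).resolve_left fun e =>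
      hat (by rwa [mul_inv_eq_one, mul_inv_eq_iff_eq_mul] at e))
    obtain ⟨r', hr', hr't, hr'z⟩ : ∃ r' ∈ Q, r' * t' = t' * r' ∧ r' * z' * r'⁻¹ = z * z' := by
      by_contra! hno
      rcases centralizer_perp_eq h.extra h.z_mem (fun w hw => h.z_comm hw) h.centre (zpowers_two_cases h.ord)
        h.self h.normal ht'Q (by rw [hti]; simp [mul_assoc]; rw [← mul_assoc t, htt, one_mul, inv_mul_cancel])
        ha hat' (fun e => hz1 (mul_eq_right.1 e)) (c := z') (fun r' hr' hr't => by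
          rcases h.comm_cases hr' hz'Q with e | e
          · rwa [mul_inv_eq_one, mul_inv_eq_iff_eq_mul] at e
          · exact absurd (eq_mul_of_mul_inv_eq e) (hno r' hr' hr't)) with e | e | e | e
      · exact hz1 (by rw [← hz', e, map_one])
      · exact hxne.2 (by rw [← hz', e]; exact hx)
      · exact htzne (by rw [← ht', ← hz', e])
      · refine htz ?_
        have hz'e : z = x * t := by rw [← hz', e, map_mul, ht', hx]; rfl
        have hrel : IsConj (x * t) t := by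
          refine isConj_iff.2 ⟨g * a⁻¹ * g⁻¹, ?_⟩
          rw [← ht', hx]
          show g * a⁻¹ * g⁻¹ * (g * z * g⁻¹ * (g * t' * g⁻¹)) * (g * a⁻¹ * g⁻¹)⁻¹ = g * t' * g⁻¹
          calc g * a⁻¹ * g⁻¹ * (g * z * g⁻¹ * (g * t' * g⁻¹)) * (g * a⁻¹ * g⁻¹)⁻¹
              = g * (a⁻¹ * (z * t') * a) * g⁻¹ := by group
            _ = g * t' * g⁻¹ := by rw [← hat']; group
        rwa [← hz'e] at hrel
    refine ⟨_, ⟨r', hr', rfl⟩, ?_, ?_⟩
    · rw [← ht', ← map_mul, ← map_mul, hr't]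
    · rw [← hz', ← map_inv, ← map_mul, ← map_mul, hr'z, map_mul, hx]; rfl
  have hconj : r⁻¹ * q * x * (r⁻¹ * q)⁻¹ = z := by
    calc r⁻¹ * q * x * (r⁻¹ * q)⁻¹ = r⁻¹ * (q * x * q⁻¹) * r := by group
      _ = r⁻¹ * (r * z * r⁻¹) * r := by rw [hqx, hrz, hzx]
      _ = z := by group
  have hrC : r ∈ Q.map (MulAut.conj g).toMonoidHom ⊓ centralizer ({t} : Set G) :=
    mem_inf.2 ⟨hr, mem_centralizer_singleton_iff.2 hrt⟩
  refine ⟨?_, r⁻¹ * q, mul_mem (inv_mem (mem_sup_right hrC)) (mem_sup_left hq), hx ▸ hconj⟩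
  -- the quotient
  have hPC : P ≤ centralizer ({t} : Set G) := hP ▸ inf_le_right
  let φ := QuotientGroup.mk' ((zpowers t).subgroupOf (centralizer ({t} : Set G)))
  have hφ1 : ∀ u : centralizer ({t} : Set G), φ u = 1 ↔ ((u : G) = 1 ∨ (u : G) = t) := fun u => by
    refine ((QuotientGroup.eq_one_iff u).trans mem_subgroupOf).trans ⟨zpowers_two_cases ht _, ?_⟩
    rintro (e | e) <;> rw [e]
    exacts [one_mem _, mem_zpowers t]
  obtain ⟨B, hB⟩ : ∃ B, B = (P.subgroupOf (centralizer ({t} : Set G))).map φ := ⟨_, rfl⟩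
  rw [← hB]
  have himg : ∀ y, ∀ hy : y ∈ P, φ ⟨y, hPC hy⟩ ∈ B := fun y hy =>
    hB ▸ mem_map_of_mem _ (mem_subgroupOf.2 hy)
  have hmemB : ∀ w ∈ B, ∃ y, ∃ hy : y ∈ P, φ ⟨y, hPC hy⟩ = w := by
    rintro w hw
    rw [hB] at hw
    obtain ⟨⟨y, hyM⟩, hy, rfl⟩ := hw
    exact ⟨y, mem_subgroupOf.1 hy, rfl⟩
  have hzP : z ∈ P := hmemP.2 ⟨h.z_mem, htzc.symm⟩
  have htP : t ∈ P := hmemP.2 ⟨htQ', rfl⟩
  obtain ⟨zb, hzb⟩ : ∃ zb, zb = φ ⟨z, hPC hzP⟩ := ⟨_, rfl⟩
  have hzbB : zb ∈ B := hzb ▸ himg z hzP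
  have hzb1 : zb ≠ 1 := fun e => by
    rcases (hφ1 _).1 (hzb ▸ e) with e' | e'
    exacts [hz1 e', htzne e'.symm]
  have hval : ∀ y, ∀ hy : y ∈ P, y = 1 ∨ y = z ∨ y = t ∨ y = z * t →
      φ ⟨y, hPC hy⟩ = 1 ∨ φ ⟨y, hPC hy⟩ = zb := by
    rintro y hy (e | e | e | e)
    · exact .inl ((hφ1 _).2 (.inl e))
    · exact .inr (hzb ▸ congrArg φ (Subtype.ext e))
    · exact .inl ((hφ1 _).2 (.inr e))
    · refine .inr ?_
      have hmul : φ ⟨y, hPC hy⟩ = φ ⟨z, hPC hzP⟩ * φ ⟨t, hPC htP⟩ := by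
        rw [← map_mul]; exact congrArg φ (Subtype.ext e)
      rw [hmul, (hφ1 ⟨t, hPC htP⟩).2 (.inr rfl), mul_one, hzb]
  have hPQ : P ≤ Q := hP ▸ inf_le_left
  have hexact : ∀ a, ∀ ha : a ∈ P, ∀ b, ∀ hb : b ∈ P, φ (⟨a, hPC ha⟩ * ⟨b, hPC hb⟩) =
      φ (⟨b, hPC hb⟩ * ⟨a, hPC ha⟩) → a * b = b * a := by
    intro a ha b hb e
    rw [← mul_inv_eq_one, ← map_inv, ← map_mul, hφ1] at e
    have e' : a * b * a⁻¹ * b⁻¹ = 1 ∨ a * b * a⁻¹ * b⁻¹ = t := by simpa [mul_assoc] using e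
    rcases e' with e1 | e1
    · rwa [mul_inv_eq_one, mul_inv_eq_iff_eq_mul] at e1
    · rcases h.comm_cases (hPQ ha) (hPQ hb) with e2 | e2
      · exact absurd (e1.symm.trans e2) ht1
      · exact absurd (e1.symm.trans e2) htzne
  have hcenB : ∀ w, w ∈ B → ((∀ v ∈ B, v * w = w * v) ↔ w = 1 ∨ w = zb) := by
    intro w hw
    constructor
    · intro hcw
      obtain ⟨y, hy, rfl⟩ := hmemB w hw
      refine hval y hy (hzeq y fun s hs hst => ?_)
      have hsP : s ∈ P := hmemP.2 ⟨hs, hst⟩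
      have e := hcw _ (himg s hsP)
      rw [← map_mul, ← map_mul] at e
      exact hexact s hsP y hy e
    · intro hw' v hv
      obtain ⟨y, hy, rfl⟩ := hmemB v hv
      rcases hw' with e | e <;> rw [e]
      · simp
      · rw [hzb, ← map_mul, ← map_mul]
        exact congrArg φ (Subtype.ext (h.z_comm (hPQ hy)))
  have hBp : IsPGroup 2 B := hB ▸ ((h.extra.1.1.to_le hPQ).comap_subtype).map φ
  have hext : IsExtraspecial 2 B := by
    refine CfsgLib.MonsterType.isExtraspecial_of_center hBp ⟨zb, hzbB⟩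
      (fun e => hzb1 (congrArg Subtype.val e)) (fun w => ?_) (fun v w => ?_) (fun v => ?_) ?_
    · rw [mem_center_iff]
      simp only [Subtype.ext_iff, OneMemClass.coe_one, coe_mul]
      exact ⟨fun e => (hcenB w w.2).1 fun v hv => e ⟨v, hv⟩, fun e v => (hcenB w w.2).2 e v v.2⟩
    · simp only [Subtype.ext_iff, OneMemClass.coe_one, coe_mul, coe_inv]
      obtain ⟨a, ha, hva⟩ := hmemB v v.2
      obtain ⟨b, hb, hwb⟩ := hmemB w w.2
      rw [← hva, ← hwb]
      have := hval _ (mul_mem (mul_mem (mul_mem ha hb) (inv_mem ha)) (inv_mem hb))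
        ((h.comm_cases (hPQ ha) (hPQ hb)).imp id .inl)
      exact this
    · simp only [Subtype.ext_iff, OneMemClass.coe_one, coe_mul]
      obtain ⟨a, ha, hva⟩ := hmemB v v.2
      rw [← hva]
      exact hval _ (mul_mem ha ha) ((h.sq_cases (hPQ ha)).imp id .inl)
    · refine ⟨⟨_, himg x hxP⟩, ⟨_, himg q hq⟩, fun e => ?_⟩
      have e' := congrArg Subtype.val e
      simp only [coe_mul] at e'
      rw [← map_mul, ← map_mul] at e'
      have hxq := hexact x hxP q hq e'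
      rw [← hxq, mul_inv_cancel_right] at hqx
      exact hz1 (right_eq_mul.1 hqx)
  have hcB : (center B).map B.subtype = zpowers zb := by
    refine le_antisymm ?_ (zpowers_le.2 ⟨⟨zb, hzbB⟩, mem_center_iff.2 fun v =>
      Subtype.ext ((hcenB zb hzbB).2 (.inr rfl) v v.2), rfl⟩)
    rintro _ ⟨⟨w, hw⟩, hwc, rfl⟩
    rcases (hcenB w hw).1 (fun v hv => congrArg Subtype.val (mem_center_iff.1 hwc ⟨v, hv⟩)) with e | e
    · simp [e]
    · simp [e]
  have hzbo : orderOf zb = 2 := by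
    refine orderOf_eq_prime ?_ hzb1
    rw [hzb, ← map_pow]
    exact (congrArg φ (Subtype.ext (by simp [sq, hzz]))).trans (map_one φ)
  have hfixz : ∀ u : centralizer ({t} : Set G), φ u * zb = zb * φ u → (u : G) * z = z * u := by
    intro u e
    rw [hzb, ← map_mul, ← map_mul, ← mul_inv_eq_one, ← map_inv, ← map_mul, hφ1] at e
    have e' : (u : G) * z * (u : G)⁻¹ * z⁻¹ = 1 ∨ (u : G) * z * (u : G)⁻¹ * z⁻¹ = t := by
      simpa [mul_assoc] using e
    rcases e' with e1 | e1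
    · rwa [mul_inv_eq_one, mul_inv_eq_iff_eq_mul] at e1
    · refine absurd (isConj_iff.2 ⟨(u : G), ?_⟩) hztconj
      rw [eq_mul_of_mul_inv_eq e1, htzc]
  have hself : centralizer (B : Set (centralizer ({t} : Set G) ⧸
      (zpowers t).subgroupOf (centralizer ({t} : Set G)))) = (center B).map B.subtype := by
    refine le_antisymm (fun v hv => ?_) ?_
    · obtain ⟨u, rfl⟩ := QuotientGroup.mk'_surjective _ v
      rw [mem_centralizer_iff] at hv
      have huz := hfixz u (hv zb hzbB).symm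
      have hut : (u : G) * t = t * u := mem_centralizer_singleton_iff.1 u.2
      have hmod : ∀ y, ∀ hy : y ∈ P, (u : G) * y * (u : G)⁻¹ = y ∨ (u : G) * y * (u : G)⁻¹ = t * y := by
        intro y hy
        have e := (hv _ (himg y hy)).symm
        rw [← map_mul, ← map_mul, ← mul_inv_eq_one, ← map_inv, ← map_mul, hφ1] at e
        have e' : (u : G) * y * (u : G)⁻¹ * y⁻¹ = 1 ∨ (u : G) * y * (u : G)⁻¹ * y⁻¹ = t := by
          simpa [mul_assoc] using e
        exact e'.imp mul_inv_eq_one.1 eq_mul_of_mul_inv_eq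
      have huQ : (u : G) ∈ Q := by
        refine (hCP u (mem_centralizer_singleton_iff.2 huz)).1 fun y hy => ?_
        rcases hmod y hy with e | e
        · exact ⟨1, one_mem _, by rw [e, mul_one]⟩
        · exact ⟨t, subset_closure (Set.mem_insert _ _), by rw [e, (hmemP.1 hy).2]⟩
      have huP : (u : G) ∈ P := hmemP.2 ⟨huQ, hut⟩
      have hBin := himg u huP
      exact ⟨⟨φ u, hBin⟩, mem_center_iff.2 fun w => Subtype.ext (hv w w.2), rfl⟩
    · rintro _ ⟨w, hw, rfl⟩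
      exact mem_centralizer_iff.2 fun v hv => congrArg Subtype.val (mem_center_iff.1 hw ⟨v, hv⟩)
  have hnorm : centralizer ({zb} : Set (centralizer ({t} : Set G) ⧸
      (zpowers t).subgroupOf (centralizer ({t} : Set G)))) ≤ normalizer (B : Set _) := by
    intro v hv
    obtain ⟨u, rfl⟩ := QuotientGroup.mk'_surjective _ v
    have huz := hfixz u (mem_centralizer_singleton_iff.1 hv)
    have huQ := h.normal (mem_centralizer_singleton_iff.2 huz)
    have huP : ∀ s ∈ normalizer (Q : Set G) ⊓ centralizer ({t} : Set G), ∀ y ∈ P, s * y * s⁻¹ ∈ P := by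
      intro s hs y hy
      rw [hP] at hy ⊢
      exact mem_inf.2 ⟨(mem_normalizer_iff.1 hs.1 y).1 hy.1, mul_mem (mul_mem hs.2 hy.2) (inv_mem hs.2)⟩
    rw [mem_normalizer_iff]
    intro s
    constructor
    · intro hs
      obtain ⟨y, hy, rfl⟩ := hmemB s hs
      rw [← map_inv, ← map_mul, ← map_mul]
      exact himg _ (huP u ⟨huQ, u.2⟩ y hy)
    · intro hs
      obtain ⟨y, hy, hy'⟩ := hmemB _ hs
      have hy'' : φ ⟨y, hPC hy⟩ = φ u * s * (φ u)⁻¹ := hy'
      have e : s = (φ u)⁻¹ * φ ⟨y, hPC hy⟩ * φ u := by rw [hy'']; group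
      rw [e, ← map_inv, ← map_mul, ← map_mul]
      have := himg _ (huP (u : G)⁻¹ (mem_inf.2 ⟨inv_mem huQ, inv_mem u.2⟩) y hy)
      refine (congrArg (fun m => φ m ∈ B) (Subtype.ext ?_)).mp this
      simp
  let u : centralizer ({t} : Set G) := ⟨r⁻¹ * q, mul_mem (inv_mem hrC.2) (hPC hq)⟩
  have hbar : (φ u)⁻¹ * zb * φ u = φ ⟨x, hPC hxP⟩ := by
    rw [hzb, ← map_inv, ← map_mul, ← map_mul]
    refine congrArg φ (Subtype.ext ?_)
    show (r⁻¹ * q)⁻¹ * z * (r⁻¹ * q) = x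
    rw [← hconj]; group
  refine isLargeExtraspecial_of_conj (g := (φ u)⁻¹) hext hzbo hcB hself hnorm ?_ ?_
  · rw [inv_inv, hbar]; exact himg x hxP
  · rw [inv_inv, hbar]
    intro e
    rw [hzb, ← mul_inv_eq_one, ← map_inv, ← map_mul, hφ1] at e
    have e' : x * z⁻¹ = 1 ∨ x * z⁻¹ = t := by simpa using e
    rcases e' with e1 | e1
    · exact hxne.2 (mul_inv_eq_one.1 e1)
    · exact hztconj (by rw [← htzc, ← eq_mul_of_mul_inv_eq e1]; exact hxconj)

end FData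

end CfsgLib.LargeExtra
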