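import Mathlib
import Cfsg.Agent.Lib.LargeExtra.Symm

/-!
The subgroups `O₂(C(u))` for the conjugates `u` of an involution with large extraspecial `O₂(C(z))`,
and singular subgroups.
-/

namespace CfsgLib.LargeExtra

open Subgroup Cfsg

variable {G : Type*} [Group G] [Finite G]

/-- `O₂(C_G(u))` as a subgroup of `G`. -/
def coreC (u : G) : Subgroup G :=
  (pCore 2 ↥(centralizer ({u} : Set G))).map (centralizer ({u} : Set G)).subtype

/-- The hypotheses at one involution. -/
def GoodAt (u : G) : Prop :=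
  orderOf u = 2 ∧ IsExtraspecial 2 ↥(coreC u) ∧ centralizer (coreC u : Set G) ≤ coreC u

omit [Finite G] in
theorem coreC_le_centralizer (u : G) : coreC u ≤ centralizer ({u} : Set G) := map_subtype_le _

theorem isPGroup_coreC (u : G) : IsPGroup 2 (coreC u) := (CfsgLib.Cores.isPGroup_pCore 2).map _

omit [Finite G] in
theorem centralizer_le_normalizer_coreC (u : G) :
    centralizer ({u} : Set G) ≤ normalizer (coreC u : Set G) := by
  have hn : (pCore 2 ↥(centralizer ({u} : Set G))).Normal := by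
    have := CfsgLib.Cores.pCore_characteristic (G := centralizer ({u} : Set G)) 2
    infer_instance
  intro c hc
  rw [mem_normalizer_iff]
  intro y
  constructor
  · rintro ⟨y, hy, rfl⟩
    exact ⟨⟨c, hc⟩ * y * ⟨c, hc⟩⁻¹, hn.conj_mem y hy _, rfl⟩
  · rintro ⟨w, hw, hwy⟩
    refine ⟨⟨c, hc⟩⁻¹ * w * ⟨c, hc⟩, ?_, ?_⟩
    · simpa using hn.conj_mem w hw ⟨c, hc⟩⁻¹
    · simp only [Subgroup.coe_subtype] at hwy
      simp only [Subgroup.coe_subtype, coe_mul, InvMemClass.coe_inv, hwy]
      group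

theorem map_conj_coreC_le (g u : G) :
    (coreC u).map (MulAut.conj g).toMonoidHom ≤ coreC (g * u * g⁻¹) := by
  have hle : (coreC u).map (MulAut.conj g).toMonoidHom ≤ centralizer ({g * u * g⁻¹} : Set G) := by
    rintro _ ⟨y, hy, rfl⟩
    have := mem_centralizer_singleton_iff.1 (coreC_le_centralizer u hy)
    rw [mem_centralizer_singleton_iff]
    simp only [MulEquiv.coe_toMonoidHom, MulAut.conj_apply]
    calc g * y * g⁻¹ * (g * u * g⁻¹) = g * (y * u) * g⁻¹ := by group
      _ = g * u * g⁻¹ * (g * y * g⁻¹) := by rw [this]; group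
  intro y hy
  let W := ((coreC u).map (MulAut.conj g).toMonoidHom).subgroupOf (centralizer ({g * u * g⁻¹} : Set G))
  have : W.Normal := by
    refine normal_subgroupOf_of_le_normalizer ?_
    intro c hc
    have hc' : g⁻¹ * c * g ∈ centralizer ({u} : Set G) := by
      rw [mem_centralizer_singleton_iff] at hc ⊢
      calc g⁻¹ * c * g * u = g⁻¹ * (c * (g * u * g⁻¹)) * g := by group
        _ = u * (g⁻¹ * c * g) := by rw [hc]; group
    rw [mem_normalizer_iff]
    intro w
    simp only [mem_map_equiv, MulAut.conj_symm_apply]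
    have := mem_normalizer_iff.1 (centralizer_le_normalizer_coreC u hc') (g⁻¹ * w * g)
    simpa [mul_assoc] using this
  have hW : IsPGroup 2 W := ((isPGroup_coreC u).map _).comap_subtype
  exact ⟨⟨y, hle hy⟩, CfsgLib.Cores.le_pCore hW hy, rfl⟩

theorem coreC_conj (g u : G) :
    coreC (g * u * g⁻¹) = (coreC u).map (MulAut.conj g).toMonoidHom := by
  refine le_antisymm ?_ (map_conj_coreC_le g u)
  intro y hy
  have h := map_conj_coreC_le g⁻¹ (g * u * g⁻¹) ⟨y, hy, rfl⟩
  rw [show g⁻¹ * (g * u * g⁻¹) * g⁻¹⁻¹ = u from by group] at h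
  exact ⟨_, h, by simp [mul_assoc]⟩

theorem GoodAt.conj {u : G} (h : GoodAt u) (g : G) : GoodAt (g * u * g⁻¹) := by
  obtain ⟨h1, h2, h3⟩ := h
  refine ⟨?_, ?_, ?_⟩
  · rw [← MulAut.conj_apply, MulEquiv.orderOf_eq, h1]
  · rw [coreC_conj]
    obtain ⟨⟨hp, hf, hc⟩, hcard⟩ := h2
    let e := (coreC u).equivMapOfInjective (MulAut.conj g).toMonoidHom (MulAut.conj g).injective
    have hcen : (center ↥(coreC u)).map e.toMonoidHom = center _ := by
      ext y
      constructor
      · rintro ⟨w, hw, rfl⟩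
        rw [mem_center_iff]
        intro a
        obtain ⟨a, rfl⟩ := e.surjective a
        exact (map_mul e a w).symm.trans
          ((congrArg e (mem_center_iff.1 hw a)).trans (map_mul e w a))
      · intro hy
        obtain ⟨w, rfl⟩ := e.surjective y
        refine ⟨w, mem_center_iff.2 fun a => e.injective ?_, rfl⟩
        rw [map_mul, map_mul]
        exact mem_center_iff.1 hy (e a)
    refine ⟨⟨hp.of_equiv e, ?_, ?_⟩, ?_⟩
    · rw [← hcen, ← hf, frattini, Order.radical, frattini, Order.radical]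
      ext y
      simp only [mem_map_equiv, mem_iInf]
      constructor
      · intro h M hM
        have := h (M.map e.toMonoidHom) ((OrderIso.isCoatom_iff (MulEquiv.mapSubgroup e) M).2 hM)
        rw [mem_map_equiv] at this
        exact this
      · intro h M hM
        have hM' : IsCoatom (M.map e.symm.toMonoidHom) :=
          (OrderIso.isCoatom_iff (MulEquiv.mapSubgroup e.symm) M).2 hM
        have := h _ hM'
        rw [mem_map_equiv, MulEquiv.symm_symm, MulEquiv.apply_symm_apply] at this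
        exact this
    · rw [← hcen, ← hc, _root_.commutator_def, _root_.commutator_def, map_commutator,
        map_top_of_surjective _ e.surjective]
    · rw [← hcen, card_map_of_injective e.injective, hcard]
  · intro c hc
    rw [coreC_conj]
    refine ⟨g⁻¹ * c * g, h3 (mem_centralizer_iff.2 fun y hy => ?_), by simp [mul_assoc]⟩
    have := mem_centralizer_iff.1 hc _ (map_conj_coreC_le g u ⟨y, hy, rfl⟩)
    simp only [MulEquiv.coe_toMonoidHom, MulAut.conj_apply] at this
    calc y * (g⁻¹ * c * g) = g⁻¹ * (g * y * g⁻¹ * c) * g := by group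
      _ = g⁻¹ * c * g * y := by rw [this]; group

theorem GoodAt.mem_self {u : G} (h : GoodAt u) : u ∈ coreC u := by
  have hu : u ∈ centralizer ({u} : Set G) := mem_centralizer_singleton_iff.2 rfl
  have : (zpowers (⟨u, hu⟩ : centralizer ({u} : Set G))).Normal := by
    refine ⟨fun n hn c => ?_⟩
    obtain ⟨i, rfl⟩ := mem_zpowers_iff.1 hn
    refine ⟨i, ?_⟩
    have hcu : Commute c (⟨u, hu⟩ : centralizer ({u} : Set G)) :=
      Subtype.ext (mem_centralizer_singleton_iff.1 c.2)
    show _ = c * _ * c⁻¹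
    rw [(hcu.zpow_right i).eq, mul_inv_cancel_right]
  refine ⟨⟨u, hu⟩, CfsgLib.Cores.le_pCore (IsPGroup.of_card (n := 1) ?_) (mem_zpowers _), rfl⟩
  rw [Nat.card_zpowers, Subgroup.orderOf_mk, h.1, pow_one]

theorem GoodAt.centre_eq {u : G} (h : GoodAt u) :
    (center ↥(coreC u)).map (coreC u).subtype = zpowers u := by
  refine (eq_of_le_of_card_ge ?_ ?_).symm
  · rw [zpowers_le]
    exact ⟨⟨u, h.mem_self⟩, mem_center_iff.2 fun y =>
      Subtype.ext (mem_centralizer_singleton_iff.1 (coreC_le_centralizer u y.2)), rfl⟩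
  · rw [card_map_of_injective (subtype_injective _), h.2.1.2, Nat.card_zpowers, h.1]

theorem GoodAt.centralizer_eq {u : G} (h : GoodAt u) :
    centralizer (coreC u : Set G) = (center ↥(coreC u)).map (coreC u).subtype := by
  refine le_antisymm (fun c hc => ?_) ?_
  · exact ⟨⟨c, h.2.2 hc⟩, mem_center_iff.2 fun y => Subtype.ext (mem_centralizer_iff.1 hc y y.2), rfl⟩
  · rintro _ ⟨c, hc, rfl⟩
    exact mem_centralizer_iff.2 fun y hy => congrArg Subtype.val (mem_center_iff.1 hc ⟨y, hy⟩)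

theorem GoodAt.comm_eq {u : G} (h : GoodAt u) {a b : G} (ha : a ∈ coreC u) (hb : b ∈ coreC u) :
    a * b * a⁻¹ * b⁻¹ = 1 ∨ a * b * a⁻¹ * b⁻¹ = u := by
  have hm : a * b * a⁻¹ * b⁻¹ ∈ zpowers u :=
    h.centre_eq ▸ ⟨_, comm_mem_center h.2.1 ⟨a, ha⟩ ⟨b, hb⟩, rfl⟩
  obtain ⟨i, hi⟩ := mem_zpowers_iff.1 hm
  have h2 : u ^ (2 : ℤ) = 1 := by rw [zpow_two, ← sq, ← h.1, pow_orderOf_eq_one]
  rw [← hi]
  rcases Int.even_or_odd i with ⟨j, rfl⟩ | ⟨j, rfl⟩
  · left; rw [← two_mul, zpow_mul, h2, one_zpow]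
  · right; rw [zpow_add, zpow_mul, h2, one_zpow, one_mul, zpow_one]

theorem GoodAt.conj_eq {u : G} (h : GoodAt u) {a b : G} (ha : a ∈ coreC u) (hb : b ∈ coreC u) :
    a * b * a⁻¹ = b ∨ a * b * a⁻¹ = u * b :=
  (h.comm_eq ha hb).imp (fun e => mul_inv_eq_one.1 e) (fun e => eq_mul_of_mul_inv_eq e)

/-- An element of `O₂(C(u))` centralizing `M` and moving `w`. -/
theorem GoodAt.exists_move {u : G} (h : GoodAt u) (M : Subgroup G) (hu : u ∈ M)
    (hM : M ≤ coreC u) {w : G} (hw : w ∈ coreC u) (hwM : w ∉ M) :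
    ∃ g ∈ coreC u, (∀ m ∈ M, g * m = m * g) ∧ g * w * g⁻¹ = u * w := by
  have hZ : center ↥(coreC u) ≤ M.subgroupOf (coreC u) := by
    intro c hc
    have hc' : (c : G) ∈ zpowers u := h.centre_eq ▸ ⟨c, hc, rfl⟩
    exact (zpowers_le.2 hu) hc'
  obtain ⟨g, hg, hgw⟩ := exists_mem_centralizer_comm h.2.1 hZ (x := ⟨w, hw⟩) hwM
  refine ⟨g, g.2, fun m hm => ?_, ?_⟩
  · exact (congrArg Subtype.val (mem_centralizer_iff.1 hg ⟨m, hM hm⟩ hm)).symm
  · refine (h.conj_eq g.2 hw).resolve_left fun e => hgw ?_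
    exact Subtype.ext (by simp [e])

/-- Orthogonality of conjugate involutions is symmetric. -/
theorem GoodAt.symm_mem {z : G} (h : GoodAt z) {g : G} (hx : g * z * g⁻¹ ∈ coreC z) :
    z ∈ coreC (g * z * g⁻¹) := by
  by_cases hxz : g * z * g⁻¹ = z
  · rw [hxz]; exact h.mem_self
  · rw [coreC_conj]
    exact (four_group_automizer h.2.1 h.1 h.centre_eq h.centralizer_eq
      (centralizer_le_normalizer_coreC z) hx hxz).2.2

end CfsgLib.LargeExtra
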