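import Mathlib
import Cfsg.Agent.Lib.LargeExtra.LargeOfConj
import Cfsg.Agent.Lib.LargeExtra.SubExtra
import Cfsg.Agent.Lib.MonsterType.Perp

/-!
The centralizer of a transvection in `SL_{n+2}(2)`: its 2-core is a large extraspecial group of plus
type with complement `GL_n(2)`; transfer along an embedding whose image contains the centralizer.
-/

namespace CfsgLib.LargeExtra.TransCore

open Matrix Subgroup Cfsg

variable {n : ℕ}

theorem one_eq : (1 : Fin (n + 2)) = Fin.succ 0 := rfl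

/-- The block matrix of the centralizer. -/
def blk (B : Matrix (Fin n) (Fin n) (ZMod 2)) (a b : Fin n → ZMod 2) (c : ZMod 2) :
    Matrix (Fin (n + 2)) (Fin (n + 2)) (ZMod 2) :=
  Matrix.of (Fin.cons (Fin.cons 1 (Fin.cons c a))
    (Fin.cons (Fin.cons 0 (Fin.cons 1 0)) fun k => Fin.cons 0 (Fin.cons (b k) (B k))))

theorem blk_mul (B B' : Matrix (Fin n) (Fin n) (ZMod 2)) (a b a' b' : Fin n → ZMod 2) (c c' : ZMod 2) :
    blk B a b c * blk B' a' b' c' =
      blk (B * B') (a' + a ᵥ* B') (b + B *ᵥ b') (c + c' + a ⬝ᵥ b') := by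
  ext i j
  refine Fin.cases ?_ (fun i => Fin.cases ?_ (fun i => ?_) i) i <;>
    refine Fin.cases ?_ (fun j => Fin.cases ?_ (fun j => ?_) j) j <;>
    simp [blk, Matrix.mul_apply, Fin.sum_univ_succ, dotProduct, Matrix.vecMul, Matrix.mulVec] <;>
    ring

theorem blk_one : blk (1 : Matrix (Fin n) (Fin n) (ZMod 2)) 0 0 0 = 1 := by
  ext i j
  refine Fin.cases ?_ (fun i => Fin.cases ?_ (fun i => ?_) i) i <;>
    refine Fin.cases ?_ (fun j => Fin.cases ?_ (fun j => ?_) j) j <;>
    simp [blk, Matrix.one_apply, Fin.succ_inj, one_eq, -Fin.succ_zero_eq_one, -Fin.succ_zero_eq_one', (Fin.succ_ne_zero _).symm]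

theorem blk_inj {B B' : Matrix (Fin n) (Fin n) (ZMod 2)} {a b a' b' : Fin n → ZMod 2} {c c' : ZMod 2}
    (h : blk B a b c = blk B' a' b' c') : B = B' ∧ a = a' ∧ b = b' ∧ c = c' := by
  refine ⟨?_, ?_, ?_, ?_⟩
  · ext i j; simpa [blk] using congrFun (congrFun h i.succ.succ) j.succ.succ
  · ext j; simpa [blk] using congrFun (congrFun h 0) j.succ.succ
  · ext i; simpa [blk] using congrFun (congrFun h i.succ.succ) (Fin.succ 0)
  · simpa [blk] using congrFun (congrFun h 0) (Fin.succ 0)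

abbrev SLn (n : ℕ) := Matrix.SpecialLinearGroup (Fin (n + 2)) (ZMod 2)

theorem two_one : ∀ d : ZMod 2, d ≠ 0 → d = 1 := by decide

theorem val_mul (g h : SLn n) : ((g * h : SLn n) : Matrix (Fin (n + 2)) (Fin (n + 2)) (ZMod 2)) =
    (g : Matrix (Fin (n + 2)) (Fin (n + 2)) (ZMod 2)) * (h : Matrix (Fin (n + 2)) (Fin (n + 2)) (ZMod 2)) := rfl

/-- Elements of the centralizer. -/
def el (B : GL (Fin n) (ZMod 2)) (a b : Fin n → ZMod 2) (c : ZMod 2) : SLn n :=
  ⟨blk B a b c, two_one _ fun h => by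
    have e : blk (B : Matrix (Fin n) (Fin n) (ZMod 2)) a b c *
        blk ((B⁻¹ : GL (Fin n) (ZMod 2)) : Matrix (Fin n) (Fin n) (ZMod 2))
          (-(a ᵥ* ((B⁻¹ : GL (Fin n) (ZMod 2)) : Matrix (Fin n) (Fin n) (ZMod 2))))
          (-(((B⁻¹ : GL (Fin n) (ZMod 2)) : Matrix (Fin n) (Fin n) (ZMod 2)) *ᵥ b))
          (-c + a ⬝ᵥ (((B⁻¹ : GL (Fin n) (ZMod 2)) : Matrix (Fin n) (Fin n) (ZMod 2)) *ᵥ b)) = 1 := by
      rw [blk_mul, ← blk_one]
      congr 1
      · rw [← Units.val_mul, mul_inv_cancel]; rfl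
      · simp
      · rw [Matrix.mulVec_neg, Matrix.mulVec_mulVec, ← Units.val_mul, mul_inv_cancel, Units.val_one,
          Matrix.one_mulVec, add_neg_cancel]
      · rw [dotProduct_neg]; ring
    simpa [h] using congrArg Matrix.det e⟩

theorem el_coe (B : GL (Fin n) (ZMod 2)) (a b : Fin n → ZMod 2) (c : ZMod 2) :
    ((el B a b c : SLn n) : Matrix (Fin (n + 2)) (Fin (n + 2)) (ZMod 2)) = blk B a b c := rfl

theorem el_mul (B B' : GL (Fin n) (ZMod 2)) (a b a' b' : Fin n → ZMod 2) (c c' : ZMod 2) :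
    el B a b c * el B' a' b' c' = el (B * B') (a' + a ᵥ* (B' : Matrix (Fin n) (Fin n) (ZMod 2)))
      (b + (B : Matrix (Fin n) (Fin n) (ZMod 2)) *ᵥ b') (c + c' + a ⬝ᵥ b') :=
  Subtype.ext (by show blk _ _ _ _ * blk _ _ _ _ = blk _ _ _ _; rw [blk_mul, Units.val_mul])

theorem el_one : el (1 : GL (Fin n) (ZMod 2)) 0 0 0 = 1 := Subtype.ext blk_one

theorem el_inj {B B' : GL (Fin n) (ZMod 2)} {a b a' b' : Fin n → ZMod 2} {c c' : ZMod 2}
    (h : el B a b c = el B' a' b' c') : B = B' ∧ a = a' ∧ b = b' ∧ c = c' := by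
  obtain ⟨h1, h2⟩ := blk_inj (congrArg Subtype.val h)
  exact ⟨Units.ext h1, h2⟩

/-- The transvection. -/
def tr (n : ℕ) : SLn n := el 1 0 0 1

theorem tr_coe : ((tr n : SLn n) : Matrix (Fin (n + 2)) (Fin (n + 2)) (ZMod 2)) =
    Matrix.transvection 0 1 1 := by
  ext i j
  refine Fin.cases ?_ (fun i => Fin.cases ?_ (fun i => ?_) i) i <;>
    refine Fin.cases ?_ (fun j => Fin.cases ?_ (fun j => ?_) j) j <;>
    simp [tr, el_coe, blk, Matrix.transvection, Matrix.single, Matrix.one_apply, Fin.succ_inj,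
      one_eq, -Fin.succ_zero_eq_one, -Fin.succ_zero_eq_one', (Fin.succ_ne_zero _).symm]

theorem tr_comm (B : GL (Fin n) (ZMod 2)) (a b : Fin n → ZMod 2) (c : ZMod 2) :
    el B a b c * tr n = tr n * el B a b c := by
  rw [tr, el_mul, el_mul]
  simp [add_comm]

theorem centralizer_iff {g : SLn n} : g ∈ centralizer ({tr n} : Set (SLn n)) ↔
    ∃ B a b c, g = el B a b c := by
  constructor
  · intro hg
    rw [mem_centralizer_singleton_iff] at hg
    have h : (g : Matrix (Fin (n + 2)) (Fin (n + 2)) (ZMod 2)) * Matrix.transvection 0 1 1 =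
        Matrix.transvection 0 1 1 * (g : Matrix (Fin (n + 2)) (Fin (n + 2)) (ZMod 2)) := by
      rw [← tr_coe]
      exact congrArg Subtype.val hg
    have h01 : (0 : Fin (n + 2)) ≠ 1 := zero_ne_one
    have hcol : ∀ i, i ≠ 0 → g i 0 = 0 := by
      intro i hi
      simpa [hi] using congrFun (congrFun h i) 1
    have hrow : ∀ j, j ≠ 1 → g 1 j = 0 := by
      intro j hj
      simpa [hj] using (congrFun (congrFun h 0) j).symm
    have hdiag : g 0 0 = g 1 1 := by
      have := congrFun (congrFun h 0) 1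
      simp at this
      linear_combination this
    have h00 : g 0 0 = 1 := two_one _ fun h0 => by
      have hd := g.2
      rw [Matrix.det_eq_zero_of_column_eq_zero 0 (fun i => if hi : i = 0 then hi ▸ h0 else hcol i hi)] at hd
      exact zero_ne_one hd
    let Bm : Matrix (Fin n) (Fin n) (ZMod 2) := fun i j => g i.succ.succ j.succ.succ
    let a : Fin n → ZMod 2 := fun j => g 0 j.succ.succ
    let b : Fin n → ZMod 2 := fun i => g i.succ.succ 1
    have hg' : (g : Matrix (Fin (n + 2)) (Fin (n + 2)) (ZMod 2)) = blk Bm a b (g 0 1) := by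
      ext i j
      refine Fin.cases ?_ (fun i => Fin.cases ?_ (fun i => ?_) i) i <;>
        refine Fin.cases ?_ (fun j => Fin.cases ?_ (fun j => ?_) j) j <;>
        simp only [blk, Matrix.of_apply, Fin.cons_zero, Fin.cons_succ, Fin.succ_zero_eq_one, Pi.zero_apply]
      all_goals first
        | rfl | exact h00 | exact hdiag.symm.trans h00
        | exact hcol _ (Fin.succ_ne_zero _)
        | exact hrow _ (by first | exact zero_ne_one | simp [one_eq, -Fin.succ_zero_eq_one, -Fin.succ_zero_eq_one', Fin.succ_inj])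
        | exact hcol _ one_ne_zero
    have hBu : IsUnit Bm := by
      rw [Matrix.isUnit_iff_isUnit_det, isUnit_iff_ne_zero]
      intro h0
      obtain ⟨v, hv, hv0⟩ := Matrix.exists_vecMul_eq_zero_iff.2 h0
      -- a row combination killing the matrix
      let w : Fin (n + 2) → ZMod 2 := Fin.cons 0 (Fin.cons (v ⬝ᵥ b) v)
      refine absurd g.2 ?_
      rw [Matrix.exists_vecMul_eq_zero_iff.1 ⟨w, ?_, ?_⟩]
      · exact zero_ne_one
      · intro hw
        exact hv (funext fun i => by simpa [w] using congrFun hw i.succ.succ)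
      · ext j
        rw [hg']
        refine Fin.cases ?_ (fun j => Fin.cases ?_ (fun j => ?_) j) j
        · simp [w, blk, Matrix.vecMul, dotProduct, Fin.sum_univ_succ]
        · simp [w, blk, Matrix.vecMul, dotProduct, Fin.sum_univ_succ, CharTwo.add_self_eq_zero]
        · have := congrFun hv0 j
          simpa [w, blk, Matrix.vecMul, dotProduct, Fin.sum_univ_succ] using this
    exact ⟨hBu.unit, a, b, g 0 1, Subtype.ext hg'⟩
  · rintro ⟨B, a, b, c, rfl⟩
    exact mem_centralizer_singleton_iff.2 (tr_comm B a b c)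

theorem el_mem (B : GL (Fin n) (ZMod 2)) (a b : Fin n → ZMod 2) (c : ZMod 2) :
    el B a b c ∈ centralizer ({tr n} : Set (SLn n)) := centralizer_iff.2 ⟨B, a, b, c, rfl⟩

/-- The Levi part. -/
noncomputable def levi (n : ℕ) : GL (Fin n) (ZMod 2) →* centralizer ({tr n} : Set (SLn n)) where
  toFun B := ⟨el B 0 0 0, el_mem B 0 0 0⟩
  map_one' := Subtype.ext el_one
  map_mul' B B' := Subtype.ext (by
    show el (B * B') 0 0 0 = el B 0 0 0 * el B' 0 0 0
    rw [el_mul]; simp)

/-- The projection onto the Levi part. -/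
noncomputable def proj (n : ℕ) : centralizer ({tr n} : Set (SLn n)) →* GL (Fin n) (ZMod 2) where
  toFun g := (centralizer_iff.1 g.2).choose
  map_one' := by
    obtain ⟨a, b, c, h⟩ := (centralizer_iff.1 (one_mem (centralizer ({tr n} : Set (SLn n))))).choose_spec
    exact (el_inj (h.symm.trans el_one.symm)).1
  map_mul' g g' := by
    obtain ⟨a, b, c, h⟩ := (centralizer_iff.1 g.2).choose_spec
    obtain ⟨a', b', c', h'⟩ := (centralizer_iff.1 g'.2).choose_spec
    obtain ⟨a'', b'', c'', h''⟩ := (centralizer_iff.1 (g * g').2).choose_spec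
    exact (el_inj (h''.symm.trans ((congrArg₂ (· * ·) h h').trans (el_mul _ _ _ _ _ _ _ _)))).1

theorem proj_el (B : GL (Fin n) (ZMod 2)) (a b : Fin n → ZMod 2) (c : ZMod 2) :
    proj n ⟨el B a b c, el_mem B a b c⟩ = B := by
  obtain ⟨a', b', c', h⟩ := (centralizer_iff.1 (el_mem B a b c)).choose_spec
  exact (el_inj h).1.symm

theorem proj_levi (B : GL (Fin n) (ZMod 2)) : proj n (levi n B) = B := proj_el B 0 0 0

theorem mem_ker_iff {g : centralizer ({tr n} : Set (SLn n))} :
    g ∈ (proj n).ker ↔ ∃ a b c, (g : SLn n) = el 1 a b c := by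
  constructor
  · intro hg
    obtain ⟨B, a, b, c, h⟩ := centralizer_iff.1 g.2
    have : proj n g = B := by
      rw [show g = ⟨el B a b c, el_mem B a b c⟩ from Subtype.ext h, proj_el]
    rw [MonoidHom.mem_ker, this] at hg
    exact ⟨a, b, c, hg ▸ h⟩
  · rintro ⟨a, b, c, h⟩
    rw [MonoidHom.mem_ker, show g = ⟨el 1 a b c, el_mem 1 a b c⟩ from Subtype.ext h, proj_el]

theorem ker_card : Nat.card (proj n).ker = 2 ^ (2 * n + 1) := by
  let f : (Fin n → ZMod 2) × (Fin n → ZMod 2) × ZMod 2 → (proj n).ker := fun p =>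
    ⟨⟨el 1 p.1 p.2.1 p.2.2, el_mem _ _ _ _⟩, mem_ker_iff.2 ⟨_, _, _, rfl⟩⟩
  have hf : Function.Bijective f := by
    refine ⟨fun p p' h => ?_, fun g => ?_⟩
    · have h' : el 1 p.1 p.2.1 p.2.2 = el 1 p'.1 p'.2.1 p'.2.2 :=
        congrArg (fun x : (proj n).ker => ((x : centralizer ({tr n} : Set (SLn n))) : SLn n)) h
      obtain ⟨-, h1, h2, h3⟩ := el_inj h'
      exact Prod.ext h1 (Prod.ext h2 h3)
    · obtain ⟨a, b, c, h⟩ := mem_ker_iff.1 g.2
      exact ⟨(a, b, c), Subtype.ext (Subtype.ext h.symm)⟩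
  rw [← Nat.card_eq_of_bijective f hf]
  simp [Nat.card_prod, Nat.card_pi, Nat.card_zmod]
  ring

theorem exists_gl_map {v w : Fin n → ZMod 2} (hv : v ≠ 0) (hw : w ≠ 0) :
    ∃ T : GL (Fin n) (ZMod 2), (T : Matrix (Fin n) (Fin n) (ZMod 2)) *ᵥ w = v := by
  by_cases hvw : v = w
  · exact ⟨1, by simp [hvw]⟩
  obtain ⟨f, hfv, hfw⟩ : ∃ f : Fin n → ZMod 2, f ⬝ᵥ v = 1 ∧ f ⬝ᵥ w = 1 := by
    obtain ⟨i, hi⟩ := Function.ne_iff.1 hv
    obtain ⟨j, hj⟩ := Function.ne_iff.1 hw
    by_cases h1 : w i = 0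
    · by_cases h2 : v j = 0
      · exact ⟨Pi.single i 1 + Pi.single j 1, by simp [two_one _ hi, h2], by simp [two_one _ hj, h1]⟩
      · exact ⟨Pi.single j 1, by simp [two_one _ h2], by simp [two_one _ hj]⟩
    · exact ⟨Pi.single i 1, by simp [two_one _ hi], by simp [two_one _ h1]⟩
  have hd : f ⬝ᵥ (v + w) = 0 := by rw [dotProduct_add, hfv, hfw]; decide
  have hsq : (1 + vecMulVec (v + w) f) * (1 + vecMulVec (v + w) f) = 1 := by
    rw [add_mul, mul_add, mul_add, one_mul, one_mul, mul_one, vecMulVec_mul_vecMulVec, hd]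
    simp only [zero_smul, Matrix.vecMulVec_zero, MulOpposite.op_zero, smul_zero, add_zero, add_assoc]
    ext i j
    simp [CharTwo.add_self_eq_zero]
  refine ⟨⟨_, _, hsq, hsq⟩, ?_⟩
  simp only [add_mulVec, one_mulVec, vecMulVec_mulVec, hfw, MulOpposite.op_one, one_smul]
  funext i
  simp [add_comm (v i), ← add_assoc, CharTwo.add_self_eq_zero]

theorem gl_cancel {m : ℕ} (T : GL (Fin m) (ZMod 2)) (v : Fin m → ZMod 2) :
    ((T⁻¹ : GL (Fin m) (ZMod 2)) : Matrix (Fin m) (Fin m) (ZMod 2)) *ᵥ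
      ((T : Matrix (Fin m) (Fin m) (ZMod 2)) *ᵥ v) = v := by
  rw [mulVec_mulVec, ← Units.val_mul, inv_mul_cancel, Units.val_one, one_mulVec]

theorem gl_pcore_bot {P : Subgroup (GL (Fin n) (ZMod 2))} (hn : P.Normal) (hP : IsPGroup 2 P) : P = ⊥ := by
  haveI : Fact (Nat.Prime 2) := ⟨Nat.prime_two⟩
  rw [eq_bot_iff]
  intro g hg
  rw [mem_bot]
  by_cases hn0 : n = 0
  · subst hn0
    exact Units.ext (Subsingleton.elim _ _)
  letI : MulAction P (Fin n → ZMod 2) :=
    { smul := fun p v => ((p : GL (Fin n) (ZMod 2)) : Matrix (Fin n) (Fin n) (ZMod 2)) *ᵥ v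
      one_smul := fun v => one_mulVec v
      mul_smul := fun p q v => (mulVec_mulVec v _ _).symm }
  have hsmul : ∀ (p : P) (v : Fin n → ZMod 2),
      p • v = ((p : GL (Fin n) (ZMod 2)) : Matrix (Fin n) (Fin n) (ZMod 2)) *ᵥ v := fun _ _ => rfl
  obtain ⟨w, hw, hw0⟩ := hP.exists_fixed_point_of_prime_dvd_card_of_fixed_point (Fin n → ZMod 2)
    (by rw [Nat.card_pi, Finset.prod_const, Nat.card_zmod]; exact dvd_pow_self 2 (by simpa using hn0))
    (a := 0) (fun p => by rw [hsmul, mulVec_zero])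
  refine Units.ext (Matrix.ext_of_mulVec_single fun i => ?_)
  have key : ∀ v : Fin n → ZMod 2, v ≠ 0 → (g : Matrix (Fin n) (Fin n) (ZMod 2)) *ᵥ v = v := by
    intro v hv
    obtain ⟨T, hT⟩ := exists_gl_map hv (Ne.symm hw0)
    have h1 := hw ⟨T⁻¹ * g * T, by simpa using hn.conj_mem g hg T⁻¹⟩
    rw [hsmul] at h1
    have h2 := congrArg (fun u => (T : Matrix (Fin n) (Fin n) (ZMod 2)) *ᵥ u) h1
    simp only [Units.val_mul, mulVec_mulVec, ← mul_assoc, Units.mul_inv, one_mul] at h2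
    rw [← mulVec_mulVec, hT] at h2
    exact h2
  rw [key _ (by simp), Units.val_one, one_mulVec]

theorem pCore_eq : pCore 2 (centralizer ({tr n} : Set (SLn n))) = (proj n).ker := by
  refine le_antisymm ?_ (CfsgLib.Cores.le_pCore (IsPGroup.of_card ker_card))
  have hsurj : Function.Surjective (proj n) := fun B => ⟨levi n B, proj_levi B⟩
  have hn : (pCore 2 (centralizer ({tr n} : Set (SLn n)))).Normal := by
    haveI := CfsgLib.Cores.pCore_characteristic (G := centralizer ({tr n} : Set (SLn n))) 2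
    infer_instance
  have := gl_pcore_bot (hn.map (proj n) hsurj) ((CfsgLib.Cores.isPGroup_pCore 2).map (proj n))
  intro x hx
  rw [MonoidHom.mem_ker, ← Subgroup.mem_bot, ← this]
  exact mem_map_of_mem _ hx

/-- The 2-core in the ambient group. -/
def core (n : ℕ) : Subgroup (SLn n) :=
  (pCore 2 (centralizer ({tr n} : Set (SLn n)))).map (centralizer ({tr n} : Set (SLn n))).subtype

theorem mem_core {g : SLn n} : g ∈ core n ↔ ∃ a b c, g = el 1 a b c := by
  rw [core, pCore_eq]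
  constructor
  · rintro ⟨x, hx, rfl⟩; exact mem_ker_iff.1 hx
  · rintro ⟨a, b, c, rfl⟩; exact ⟨⟨_, el_mem 1 a b c⟩, mem_ker_iff.2 ⟨a, b, c, rfl⟩, rfl⟩

theorem core_card : Nat.card (core n) = 2 ^ (2 * n + 1) := by
  rw [core, pCore_eq, card_map_of_injective (Subgroup.subtype_injective _), ker_card]

theorem el1_mul (a b a' b' : Fin n → ZMod 2) (c c' : ZMod 2) :
    el 1 a b c * el 1 a' b' c' = el 1 (a' + a) (b + b') (c + c' + a ⬝ᵥ b') := by
  rw [el_mul]; simp

theorem vec_add_self (v : Fin n → ZMod 2) : v + v = 0 := funext fun _ => CharTwo.add_self_eq_zero _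

theorem centre_cases (g : SLn n) (hg : g ∈ centralizer ((core n : Subgroup (SLn n)) : Set (SLn n))) :
    g = 1 ∨ g = tr n := by
  rw [mem_centralizer_iff] at hg
  have hgc : g ∈ centralizer ({tr n} : Set (SLn n)) :=
    mem_centralizer_singleton_iff.2 (hg _ (mem_core.2 ⟨0, 0, 1, rfl⟩)).symm
  obtain ⟨B, a, b, c, rfl⟩ := centralizer_iff.1 hgc
  have hcol : ∀ a' b', a + a' ᵥ* (B : Matrix (Fin n) (Fin n) (ZMod 2)) = a' + a ∧
      b + (B : Matrix (Fin n) (Fin n) (ZMod 2)) *ᵥ b' = b' + b ∧ a' ⬝ᵥ b = a ⬝ᵥ b' := by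
    intro a' b'
    have h := hg _ (mem_core.2 ⟨a', b', 0, rfl⟩)
    rw [el_mul, el_mul] at h
    obtain ⟨-, h1, h2, h3⟩ := el_inj h
    simp only [one_mulVec, vecMul_one, Units.val_one] at h1 h2
    exact ⟨h1, h2.symm, by linear_combination h3⟩
  have hB : B = 1 := Units.ext (Matrix.ext_of_mulVec_single fun i => by
    have h := (hcol 0 (Pi.single i 1)).2.1
    rw [add_comm (Pi.single i 1) b] at h
    rw [Units.val_one, one_mulVec]
    exact add_left_cancel h)
  have ha : a = 0 := funext fun i => by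
    have h := (hcol 0 (Pi.single i 1)).2.2
    simpa using h.symm
  have hb : b = 0 := funext fun i => by
    have h := (hcol (Pi.single i 1) 0).2.2
    simpa using h
  subst hB ha hb
  rcases (show ∀ c : ZMod 2, c = 0 ∨ c = 1 by decide) c with rfl | rfl
  · exact .inl el_one
  · exact .inr rfl

theorem tr_mem : tr n ∈ core n := mem_core.2 ⟨0, 0, 1, rfl⟩

theorem tr_ne_one : tr n ≠ 1 := fun h => one_ne_zero (el_inj (h.trans el_one.symm)).2.2.2

theorem tr_order : orderOf (tr n) = 2 :=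
  orderOf_eq_prime (by rw [sq, tr, el1_mul, ← el_one]; simp [CharTwo.add_self_eq_zero]) tr_ne_one

theorem core_centre_iff {x : core n} : x ∈ center (core n) ↔ (x : SLn n) = 1 ∨ (x : SLn n) = tr n := by
  constructor
  · intro hx
    refine centre_cases _ (mem_centralizer_iff.2 fun y hy => ?_)
    exact congrArg Subtype.val (mem_center_iff.1 hx ⟨y, hy⟩)
  · intro hx
    refine mem_center_iff.2 fun y => Subtype.ext ?_
    show (y : SLn n) * x = x * y
    obtain ⟨a, b, c, hy⟩ := mem_core.1 y.2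
    rcases hx with h | h <;> rw [h]
    · simp
    · rw [hy, tr_comm]

theorem extraspecial (hn : 1 ≤ n) : IsExtraspecial 2 (core n) := by
  have hz : ∀ (x : SLn n), (∃ c, x = el 1 0 0 c) → x = 1 ∨ x = tr n := by
    rintro x ⟨c, rfl⟩
    rcases (show ∀ c : ZMod 2, c = 0 ∨ c = 1 by decide) c with rfl | rfl
    · exact .inl el_one
    · exact .inr rfl
  refine CfsgLib.MonsterType.isExtraspecial_of_center (IsPGroup.of_card core_card) ⟨tr n, tr_mem⟩
    (fun h => tr_ne_one (congrArg Subtype.val h)) (fun x => ?_) (fun x y => ?_) (fun x => ?_) ?_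
  · rw [core_centre_iff]
    simp only [Subtype.ext_iff, OneMemClass.coe_one]
  · simp only [Subtype.ext_iff, OneMemClass.coe_one, coe_mul, coe_inv]
    obtain ⟨a, b, c, hx⟩ := mem_core.1 x.2
    obtain ⟨a', b', c', hy⟩ := mem_core.1 y.2
    refine hz _ ⟨a ⬝ᵥ b' + a' ⬝ᵥ b, ?_⟩
    rw [hx, hy, mul_inv_eq_iff_eq_mul, mul_inv_eq_iff_eq_mul, el1_mul, el1_mul, el1_mul]
    congr 1
    · simp [add_comm]
    · simp [add_comm]
    · simp only [zero_dotProduct, dotProduct_zero, add_zero]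
      linear_combination (-1 : ZMod 2) * CharTwo.add_self_eq_zero (a' ⬝ᵥ b)
  · simp only [Subtype.ext_iff, OneMemClass.coe_one, coe_mul]
    obtain ⟨a, b, c, hx⟩ := mem_core.1 x.2
    exact hz _ ⟨c + c + a ⬝ᵥ b, by rw [hx, el1_mul, vec_add_self, vec_add_self]⟩
  · refine ⟨⟨_, mem_core.2 ⟨Pi.single ⟨0, hn⟩ 1, 0, 0, rfl⟩⟩,
      ⟨_, mem_core.2 ⟨0, Pi.single ⟨0, hn⟩ 1, 0, rfl⟩⟩, fun h => ?_⟩
    have h1 := congrArg Subtype.val h
    rw [coe_mul, coe_mul, el1_mul, el1_mul] at h1
    simpa using (el_inj h1).2.2.2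

theorem centre_map : (center (core n)).map (core n).subtype = zpowers (tr n) := by
  refine le_antisymm ?_ (zpowers_le.2 ⟨⟨_, tr_mem⟩, core_centre_iff.2 (.inr rfl), rfl⟩)
  rintro _ ⟨x, hx, rfl⟩
  rcases core_centre_iff.1 hx with h | h <;> rw [coe_subtype, h]
  exacts [one_mem _, mem_zpowers _]

theorem centralizer_core : centralizer ((core n : Subgroup (SLn n)) : Set (SLn n)) =
    (center (core n)).map (core n).subtype := by
  refine le_antisymm (fun g hg => ?_) ?_
  · rw [centre_map]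
    rcases centre_cases g hg with h | h <;> rw [h]
    exacts [one_mem _, mem_zpowers _]
  · rintro _ ⟨x, hx, rfl⟩
    exact mem_centralizer_iff.2 fun y hy => congrArg Subtype.val (mem_center_iff.1 hx ⟨y, hy⟩)

theorem centralizer_le_normalizer_core :
    centralizer ({tr n} : Set (SLn n)) ≤ normalizer ((core n : Subgroup (SLn n)) : Set (SLn n)) := by
  haveI := CfsgLib.Cores.pCore_characteristic (G := centralizer ({tr n} : Set (SLn n))) 2
  haveI : ((core n).subgroupOf (centralizer ({tr n} : Set (SLn n)))).Normal := by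
    rw [core, subgroupOf, comap_map_eq_self_of_injective (Subgroup.subtype_injective _)]
    infer_instance
  exact (normal_subgroupOf_iff_le_normalizer (show core n ≤ _ from map_subtype_le _)).1 inferInstance

theorem exists_conj (hn : 1 ≤ n) : ∃ g : SLn n, (∀ j, g 1 j = if j = 1 then 1 else 0) ∧
    g * tr n * g⁻¹ ∈ core n ∧ g * tr n * g⁻¹ ≠ tr n := by
  obtain ⟨k⟩ : Nonempty (Fin n) := ⟨⟨0, hn⟩⟩
  let i₂ : Fin (n + 2) := Fin.succ (Fin.succ k)
  have h1 : (1 : Fin (n + 2)) ≠ i₂ := by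
    simp [i₂, one_eq, -Fin.succ_zero_eq_one, -Fin.succ_zero_eq_one', (Fin.succ_ne_zero _).symm]
  have h0 : (1 : Fin (n + 2)) ≠ 0 := one_ne_zero
  let P : Matrix (Fin (n + 2)) (Fin (n + 2)) (ZMod 2) := (Equiv.swap 0 i₂).permMatrix (ZMod 2)
  have hdet : P.det = 1 := two_one _ (by
    rw [Matrix.det_permutation]
    rcases Int.units_eq_one_or (Equiv.Perm.sign (Equiv.swap (0 : Fin (n + 2)) i₂)) with h | h <;>
      rw [h] <;> decide)
  let g : SLn n := ⟨P, hdet⟩
  have hrow : ∀ j, g 1 j = if j = 1 then 1 else 0 := by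
    intro j
    show P 1 j = _
    simp [P, PEquiv.toMatrix_apply, Equiv.swap_apply_of_ne_of_ne h0 h1, eq_comm]
  refine ⟨g, hrow, ?_⟩
  have hcol : ∀ i, P i 0 = if i = i₂ then 1 else 0 := by
    intro i
    simp only [P, PEquiv.toMatrix_apply, Equiv.toPEquiv_apply, Option.mem_some_iff, Equiv.swap_apply_def]
    split_ifs <;> simp_all
  have hx : g * tr n = el 1 0 (Pi.single k 1) 0 * g := by
    refine Subtype.ext ?_
    rw [val_mul, val_mul, tr_coe, el_coe]
    have e : blk (1 : Matrix (Fin n) (Fin n) (ZMod 2)) 0 (Pi.single k 1) 0 =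
        Matrix.transvection i₂ 1 1 := by
      ext i j
      refine Fin.cases ?_ (fun i => Fin.cases ?_ (fun i => ?_) i) i <;>
        refine Fin.cases ?_ (fun j => Fin.cases ?_ (fun j => ?_) j) j <;>
        simp [blk, i₂, Matrix.transvection, Matrix.single, Matrix.one_apply, Fin.succ_inj, Pi.single_apply,
          one_eq, -Fin.succ_zero_eq_one, -Fin.succ_zero_eq_one', (Fin.succ_ne_zero _).symm, eq_comm]
    rw [Units.val_one, e]
    ext i j
    show (P * Matrix.transvection (0 : Fin (n + 2)) 1 (1 : ZMod 2) : Matrix (Fin (n + 2)) (Fin (n + 2)) (ZMod 2)) i j = (Matrix.transvection i₂ 1 (1 : ZMod 2) * P : Matrix (Fin (n + 2)) (Fin (n + 2)) (ZMod 2)) i j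
    by_cases hj : j = 1
    · subst hj
      rw [Matrix.mul_transvection_apply_same, hcol]
      by_cases hi : i = i₂
      · subst hi
        rw [Matrix.transvection_mul_apply_same, if_pos rfl, show P 1 1 = 1 from (hrow 1).trans (if_pos rfl)]
      · rw [Matrix.transvection_mul_apply_of_ne (ha := hi), if_neg hi, mul_zero, add_zero]
    · rw [Matrix.mul_transvection_apply_of_ne (hb := hj)]
      by_cases hi : i = i₂
      · subst hi
        rw [Matrix.transvection_mul_apply_same, show P 1 j = 0 from (hrow j).trans (if_neg hj), mul_zero, add_zero]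
      · rw [Matrix.transvection_mul_apply_of_ne (ha := hi)]
  have hgt : g * tr n * g⁻¹ = el 1 0 (Pi.single k 1) 0 := by rw [hx, mul_inv_cancel_right]
  rw [hgt]
  refine ⟨mem_core.2 ⟨_, _, _, rfl⟩, fun h => ?_⟩
  simpa using (el_inj (h.trans rfl : el 1 0 (Pi.single k 1) 0 = el 1 0 0 1)).2.2.1

theorem large (hn : 1 ≤ n) : IsLargeExtraspecial (core n) := by
  obtain ⟨g, -, h1, h2⟩ := exists_conj hn
  exact isLargeExtraspecial_of_conj (extraspecial hn) tr_order centre_map centralizer_core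
    centralizer_le_normalizer_core h1 h2

theorem exists_elementary : ∃ E : Subgroup (SLn n), E ≤ core n ∧ IsElementaryAbelian 2 E ∧
    Nat.card E = 2 ^ (n + 1) := by
  let E : Subgroup (SLn n) :=
    { carrier := {g | ∃ b c, g = el 1 0 b c}
      one_mem' := ⟨0, 0, el_one.symm⟩
      mul_mem' := by
        rintro _ _ ⟨b, c, rfl⟩ ⟨b', c', rfl⟩
        exact ⟨b + b', c + c', by rw [el1_mul]; simp⟩
      inv_mem' := by
        rintro _ ⟨b, c, rfl⟩
        exact ⟨b, c, inv_eq_of_mul_eq_one_left (by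
          rw [el1_mul, ← el_one, vec_add_self b]; simp [CharTwo.add_self_eq_zero])⟩ }
  refine ⟨E, fun g ⟨b, c, h⟩ => mem_core.2 ⟨0, b, c, h⟩,
    ⟨⟨⟨?_⟩⟩, ?_⟩, ?_⟩
  · rintro ⟨_, b, c, rfl⟩ ⟨_, b', c', rfl⟩
    refine Subtype.ext ?_
    show el 1 0 b c * el 1 0 b' c' = el 1 0 b' c' * el 1 0 b c
    rw [el1_mul, el1_mul]
    simp [add_comm]
  · rintro _ ⟨b, c, rfl⟩
    rw [sq, el1_mul, ← el_one, vec_add_self b]
    simp [CharTwo.add_self_eq_zero]
  · let f : (Fin n → ZMod 2) × ZMod 2 → E := fun p => ⟨el 1 0 p.1 p.2, p.1, p.2, rfl⟩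
    have hf : Function.Bijective f := by
      refine ⟨fun p p' h => ?_, fun ⟨_, b, c, h⟩ => ⟨(b, c), Subtype.ext h.symm⟩⟩
      obtain ⟨-, -, h2, h3⟩ := el_inj (congrArg Subtype.val h)
      exact Prod.ext h2 h3
    rw [← Nat.card_eq_of_bijective f hf]
    simp [Nat.card_prod, Nat.card_pi, Nat.card_zmod, pow_succ]

theorem exists_complement : ∃ K : Subgroup (SLn n), K ≤ centralizer ({tr n} : Set (SLn n)) ∧
    core n ⊓ K = ⊥ ∧ core n ⊔ K = centralizer ({tr n} : Set (SLn n)) ∧
    Nonempty (K ≃* GL (Fin n) (ZMod 2)) := by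
  let f := (centralizer ({tr n} : Set (SLn n))).subtype.comp (levi n)
  have hf : Function.Injective f := fun B B' h => (el_inj h).1
  refine ⟨f.range, ?_, ?_, ?_, ⟨(MonoidHom.ofInjective hf).symm⟩⟩
  · rintro _ ⟨B, rfl⟩; exact el_mem B 0 0 0
  · rw [eq_bot_iff_forall]
    rintro x ⟨h1, B, rfl⟩
    obtain ⟨a, b, c, h⟩ := mem_core.1 h1
    obtain ⟨hB, -⟩ := el_inj (show el B 0 0 0 = el 1 a b c from h)
    rw [hB, map_one]
  · refine le_antisymm (sup_le (map_subtype_le _) ?_) fun g hg => ?_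
    · rintro _ ⟨B, rfl⟩; exact el_mem B 0 0 0
    · obtain ⟨B, a, b, c, rfl⟩ := centralizer_iff.1 hg
      rw [show el B a b c = el 1 (a ᵥ* ((B⁻¹ : GL (Fin n) (ZMod 2)) : Matrix (Fin n) (Fin n) (ZMod 2))) b c *
          f B by
        show _ = el 1 _ b c * el B 0 0 0
        rw [el_mul]
        simp [Matrix.vecMul_vecMul]]
      exact mul_mem (mem_sup_left (mem_core.2 ⟨_, _, _, rfl⟩)) (mem_sup_right ⟨B, rfl⟩)

/-- `GL_n(2) = SL_n(2)`. -/
noncomputable def glEquivSL (n : ℕ) :
    GL (Fin n) (ZMod 2) ≃* Matrix.SpecialLinearGroup (Fin n) (ZMod 2) where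
  toFun B := ⟨B, two_one _ (Matrix.GeneralLinearGroup.det B).ne_zero⟩
  invFun A := Matrix.SpecialLinearGroup.toGL A
  left_inv B := Units.ext rfl
  right_inv A := Subtype.ext rfl
  map_mul' _ _ := rfl

/-- Transfer along an embedding whose image contains the centralizer. -/
theorem transfer {G : Type*} [Group G] [Finite G] (hn : 1 ≤ n) (ψ : G →* SLn n)
    (hψ : Function.Injective ψ) (hrange : centralizer ({tr n} : Set (SLn n)) ≤ ψ.range) {z : G}
    (hz : ψ z = tr n) {Q : Subgroup G}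
    (hQ : Q = (pCore 2 (centralizer ({z} : Set G))).map (centralizer ({z} : Set G)).subtype) :
    IsExtraspecial 2 Q ∧ Nat.card Q = 2 ^ (2 * n + 1) ∧
      (∃ E : Subgroup G, E ≤ Q ∧ IsElementaryAbelian 2 E ∧ Nat.card E = 2 ^ (n + 1)) ∧
      IsLargeExtraspecial Q ∧
      ∃ K : Subgroup G, K ≤ centralizer ({z} : Set G) ∧ Q ⊓ K = ⊥ ∧
        Q ⊔ K = centralizer ({z} : Set G) ∧ Nonempty (K ≃* GL (Fin n) (ZMod 2)) := by
  have hC : centralizer ({z} : Set G) = (centralizer ({tr n} : Set (SLn n))).comap ψ := by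
    ext g
    rw [mem_comap, mem_centralizer_singleton_iff, mem_centralizer_singleton_iff, ← hz, ← map_mul,
      ← map_mul, hψ.eq_iff]
  have hCm : (centralizer ({z} : Set G)).map ψ = centralizer ({tr n} : Set (SLn n)) := by
    rw [hC, map_comap_eq_self hrange]
  let e : centralizer ({z} : Set G) ≃* centralizer ({tr n} : Set (SLn n)) :=
    (equivMapOfInjective _ ψ hψ).trans (MulEquiv.subgroupCongr hCm)
  have hQm : Q.map ψ = core n := by
    rw [hQ, core, ← CfsgLib.Cores.map_pCore_equiv e, Subgroup.map_map, Subgroup.map_map]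
    congr 1
  have hcr : core n ≤ ψ.range := (map_subtype_le _).trans hrange
  let eQ : Q ≃* core n := (equivMapOfInjective Q ψ hψ).trans (MulEquiv.subgroupCongr hQm)
  have hext : IsExtraspecial 2 Q := isExtraspecial_of_mulEquiv eQ.symm (extraspecial hn)
  have hzQ : (center Q).map Q.subtype = zpowers z := by
    have h1 : ((center Q).map Q.subtype).map ψ = (zpowers z).map ψ := by
      rw [MonoidHom.map_zpowers, hz, ← centre_map]
      ext x
      constructor
      · rintro ⟨_, ⟨w, hw, rfl⟩, rfl⟩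
        refine ⟨eQ w, mem_center_iff.2 fun y => ?_, rfl⟩
        obtain ⟨y, rfl⟩ := eQ.surjective y
        rw [← map_mul, ← map_mul, mem_center_iff.1 hw y]
      · rintro ⟨w, hw, rfl⟩
        obtain ⟨w, rfl⟩ := eQ.surjective w
        refine ⟨w, ⟨w, mem_center_iff.2 fun y => eQ.injective ?_, rfl⟩, rfl⟩
        rw [map_mul, map_mul, mem_center_iff.1 hw (eQ y)]
    exact map_injective hψ h1
  refine ⟨hext, by rw [Nat.card_congr eQ.toEquiv, core_card], ?_, ?_, ?_⟩
  · obtain ⟨E, hE, hEe, hEc⟩ := exists_elementary (n := n)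
    refine ⟨E.comap ψ, fun x hx => ?_, ⟨⟨⟨fun a b => ?_⟩⟩, fun a ha => ?_⟩, ?_⟩
    · have : ψ x ∈ Q.map ψ := hQm ▸ hE hx
      exact (mem_map_iff_mem hψ).1 this
    · have := hEe.1.1.comm ⟨ψ a.1, a.2⟩ ⟨ψ b.1, b.2⟩
      refine Subtype.ext (hψ ?_)
      simpa [Subtype.ext_iff] using this
    · exact hψ (by rw [map_pow, map_one]; exact hEe.2 _ ha)
    · rw [← card_map_of_injective hψ, map_comap_eq_self (hE.trans hcr), hEc]
  · obtain ⟨g, -, hg1, hg2⟩ := exists_conj (n := n) hn
    have hcen : centralizer (Q : Set G) = (center Q).map Q.subtype := by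
      refine le_antisymm (fun x hx => ?_) ?_
      · have hx' : ψ x ∈ centralizer ((core n : Subgroup (SLn n)) : Set (SLn n)) := by
          rw [← hQm, mem_centralizer_iff]
          rintro _ ⟨y, hy, rfl⟩
          rw [← map_mul, ← map_mul, (mem_centralizer_iff.1 hx) y hy]
        rw [hzQ]
        rcases centre_cases _ hx' with h | h
        · rw [show x = 1 from hψ (h.trans (map_one ψ).symm)]; exact one_mem _
        · rw [show x = z from hψ (h.trans hz.symm)]; exact mem_zpowers _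
      · rintro _ ⟨x, hx, rfl⟩
        exact mem_centralizer_iff.2 fun y hy => congrArg Subtype.val (mem_center_iff.1 hx ⟨y, hy⟩)
    refine ⟨hext, hcen, ?_, fun K hK hQK => ?_⟩
    · rw [hzQ, centralizer_zpowers, hQ]
      haveI := CfsgLib.Cores.pCore_characteristic (G := centralizer ({z} : Set G)) 2
      haveI : (((pCore 2 (centralizer ({z} : Set G))).map (centralizer ({z} : Set G)).subtype).subgroupOf
          (centralizer ({z} : Set G))).Normal := by
        rw [subgroupOf, comap_map_eq_self_of_injective (Subgroup.subtype_injective _)]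
        infer_instance
      exact (normal_subgroupOf_iff_le_normalizer (map_subtype_le _)).1 inferInstance
    · have h := (large (n := n) hn).2.2.2 (K.map ψ) (by rwa [card_map_of_injective hψ]) (by
        rw [← hQm]
        exact (map_mono hQK).trans (le_normalizer_map ψ))
      exact map_injective hψ (h.trans (Subgroup.map_bot ψ).symm)
  · obtain ⟨K, hK, hKi, hKs, ⟨eK⟩⟩ := exists_complement (n := n)
    have hKr : K ≤ ψ.range := hK.trans hrange
    refine ⟨K.comap ψ, hC ▸ comap_mono hK, ?_, ?_, ⟨?_⟩⟩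
    · refine map_injective hψ ?_
      rw [map_inf _ _ ψ hψ, hQm, map_comap_eq_self hKr, hKi, Subgroup.map_bot]
    · refine map_injective hψ ?_
      rw [Subgroup.map_sup, hQm, map_comap_eq_self hKr, hKs, hCm]
    · exact ((equivMapOfInjective _ ψ hψ).trans (MulEquiv.subgroupCongr (map_comap_eq_self hKr))).trans eK

end CfsgLib.LargeExtra.TransCore
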