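import Mathlib
import Cfsg.Agent.Lib.LargeExtra.TransvectionCore

/-!
The holomorph of an elementary abelian 2-group as affine matrices inside `SL_{n+2}(2)`.
-/

namespace CfsgLib.LargeExtra.TransCore

open Matrix Subgroup Cfsg

variable {n : ℕ}

/-- The affine matrix. -/
def aff (A : Matrix (Fin (n + 1)) (Fin (n + 1)) (ZMod 2)) (t : Fin (n + 1) → ZMod 2) :
    Matrix (Fin (n + 2)) (Fin (n + 2)) (ZMod 2) :=
  Matrix.of (Fin.cons (Fin.cons (A 0 0) (Fin.cons (t 0) fun l => A 0 l.succ))
    (Fin.cons (Fin.cons 0 (Fin.cons 1 0))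
      fun k => Fin.cons (A k.succ 0) (Fin.cons (t k.succ) fun l => A k.succ l.succ)))

theorem aff_mul (A A' : Matrix (Fin (n + 1)) (Fin (n + 1)) (ZMod 2)) (t t' : Fin (n + 1) → ZMod 2) :
    aff A t * aff A' t' = aff (A * A') (t + A *ᵥ t') := by
  ext i j
  refine Fin.cases ?_ (fun i => Fin.cases ?_ (fun i => ?_) i) i <;>
    refine Fin.cases ?_ (fun j => Fin.cases ?_ (fun j => ?_) j) j <;>
    simp [aff, Matrix.mul_apply, Fin.sum_univ_succ, dotProduct, Matrix.mulVec] <;>
    ring

theorem aff_one : aff (1 : Matrix (Fin (n + 1)) (Fin (n + 1)) (ZMod 2)) 0 = 1 := by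
  ext i j
  refine Fin.cases ?_ (fun i => Fin.cases ?_ (fun i => ?_) i) i <;>
    refine Fin.cases ?_ (fun j => Fin.cases ?_ (fun j => ?_) j) j <;>
    simp [aff, Matrix.one_apply, Fin.succ_inj, one_eq, -Fin.succ_zero_eq_one, -Fin.succ_zero_eq_one',
      (Fin.succ_ne_zero _).symm]

theorem aff_inj {A A' : Matrix (Fin (n + 1)) (Fin (n + 1)) (ZMod 2)} {t t' : Fin (n + 1) → ZMod 2}
    (h : aff A t = aff A' t') : A = A' ∧ t = t' := by
  refine ⟨?_, ?_⟩
  · ext i j
    refine Fin.cases (Fin.cases ?_ (fun j => ?_) j) (fun i => Fin.cases ?_ (fun j => ?_) j) i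
    · simpa [aff] using congrFun (congrFun h 0) 0
    · simpa [aff] using congrFun (congrFun h 0) j.succ.succ
    · simpa [aff] using congrFun (congrFun h i.succ.succ) 0
    · simpa [aff] using congrFun (congrFun h i.succ.succ) j.succ.succ
  · ext i
    refine Fin.cases ?_ (fun i => ?_) i
    · simpa [aff] using congrFun (congrFun h 0) (Fin.succ 0)
    · simpa [aff] using congrFun (congrFun h i.succ.succ) (Fin.succ 0)

theorem el_eq_aff (B : GL (Fin n) (ZMod 2)) (a b : Fin n → ZMod 2) (c : ZMod 2) :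
    ∃ A t, ((el B a b c : SLn n) : Matrix (Fin (n + 2)) (Fin (n + 2)) (ZMod 2)) = aff A t := by
  refine ⟨Matrix.of (Fin.cons (Fin.cons 1 a) fun k => Fin.cons 0
    ((B : Matrix (Fin n) (Fin n) (ZMod 2)) k)), Fin.cons c b, ?_⟩
  ext i j
  refine Fin.cases ?_ (fun i => Fin.cases ?_ (fun i => ?_) i) i <;>
    refine Fin.cases ?_ (fun j => Fin.cases ?_ (fun j => ?_) j) j <;>
    simp [el_coe, blk, aff]

theorem exists_linear_coord {G : Type*} [Group G] [Finite G] {U : Subgroup G}
    (hU : IsElementaryAbelian 2 U) (hUcard : Nat.card U = 2 ^ (n + 1)) {z : U} (hz : z ≠ 1) :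
    ∃ e : U ≃ (Fin (n + 1) → ZMod 2), (∀ u v, e (u * v) = e u + e v) ∧ e z = Pi.single 0 1 := by
  haveI := hU.1
  letI : CommGroup U := { (inferInstance : Group U) with mul_comm := fun a b => hU.1.1.comm a b }
  letI : Module (ZMod 2) (Additive U) := AddCommGroup.zmodModule (fun x => by
    apply Additive.toMul.injective
    show (Additive.toMul x) ^ 2 = 1
    exact Subtype.ext (hU.2 _ (Additive.toMul x).2))
  haveI : Module.Finite (ZMod 2) (Additive U) := Module.Finite.of_finite
  have hrank : Module.finrank (ZMod 2) (Additive U) = n + 1 := by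
    have h := Module.natCard_eq_pow_finrank (K := ZMod 2) (V := Additive U)
    rw [Nat.card_zmod, show Nat.card (Additive U) = Nat.card U from Nat.card_congr Additive.toMul, hUcard] at h
    exact (Nat.pow_right_injective le_rfl h).symm
  let e₀ : Additive U ≃ₗ[ZMod 2] (Fin (n + 1) → ZMod 2) := (Module.finBasisOfFinrankEq _ _ hrank).equivFun
  have hez : e₀ (Additive.ofMul z) ≠ 0 := fun h => hz (by
    simpa using e₀.map_eq_zero_iff.1 h)
  obtain ⟨T, hT⟩ := exists_gl_map (show (Pi.single 0 1 : Fin (n + 1) → ZMod 2) ≠ 0 by simp) hez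
  refine ⟨(Additive.ofMul.trans e₀.toEquiv).trans
    { toFun := fun v => (T : Matrix (Fin (n + 1)) (Fin (n + 1)) (ZMod 2)) *ᵥ v
      invFun := fun v => ((T⁻¹ : GL (Fin (n + 1)) (ZMod 2)) : Matrix (Fin (n + 1)) (Fin (n + 1)) (ZMod 2)) *ᵥ v
      left_inv := fun v => CfsgLib.LargeExtra.TransCore.gl_cancel T v
      right_inv := fun v => by
        simpa using CfsgLib.LargeExtra.TransCore.gl_cancel T⁻¹ v }, fun u v => ?_, hT⟩
  show (T : Matrix (Fin (n + 1)) (Fin (n + 1)) (ZMod 2)) *ᵥ e₀ (Additive.ofMul u + Additive.ofMul v) = _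
  rw [map_add, mulVec_add]
  rfl

theorem exists_embedding {G : Type*} [Group G] [Finite G] (U M : Subgroup G) [U.Normal]
    (hU : IsElementaryAbelian 2 U) (hUcard : Nat.card U = 2 ^ (n + 1)) (hUM : U ⊓ M = ⊥)
    (hUM' : U ⊔ M = ⊤) (hfaith : ∀ m ∈ M, (∀ u ∈ U, m * u * m⁻¹ = u) → m = 1)
    (hfull : ∀ φ : U ≃* U, ∃ m ∈ M, ∀ u : U, ((φ u : U) : G) = m * u * m⁻¹)
    {z : G} (hzU : z ∈ U) (hz1 : z ≠ 1) :
    ∃ ψ : G →* SLn n, Function.Injective ψ ∧ centralizer ({tr n} : Set (SLn n)) ≤ ψ.range ∧ ψ z = tr n := by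
  classical
  obtain ⟨e, he, hez⟩ := exists_linear_coord hU hUcard (z := ⟨z, hzU⟩)
    (fun h => hz1 (congrArg Subtype.val h))
  have he1 : e 1 = 0 := by simpa using he 1 1
  let ce : G → U → U := fun g u => ⟨g * u * g⁻¹, Normal.conj_mem inferInstance _ u.2 g⟩
  let lin : G → ((Fin (n + 1) → ZMod 2) →ₗ[ZMod 2] (Fin (n + 1) → ZMod 2)) := fun g =>
    (AddMonoidHom.toZModLinearMap 2
      { toFun := fun v => e (ce g (e.symm v))
        map_zero' := by
          rw [show e.symm 0 = 1 by rw [← he1, e.symm_apply_apply],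
            show ce g 1 = 1 from Subtype.ext (by simp [ce]), he1]
        map_add' := fun v w => by
          rw [← he]
          congr 1
          rw [show e.symm (v + w) = e.symm v * e.symm w from e.injective (by simp [he])]
          exact Subtype.ext (by simp [ce, mul_assoc]) })
  let A : G → Matrix (Fin (n + 1)) (Fin (n + 1)) (ZMod 2) := fun g => LinearMap.toMatrix' (lin g)
  have hA : ∀ g v, A g *ᵥ v = e (ce g (e.symm v)) := fun g v => by
    simp only [A, LinearMap.toMatrix'_mulVec]
    rfl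
  have hdec : ∀ g : G, ∃ u : U, (u : G)⁻¹ * g ∈ M := by
    intro g
    have hg : g ∈ U ⊔ M := hUM' ▸ mem_top g
    obtain ⟨u, hu, m, hm, rfl⟩ := mem_sup_of_normal_left.1 hg
    exact ⟨⟨u, hu⟩, by simpa using hm⟩
  choose up hup using hdec
  have hun : ∀ g (u : U), (u : G)⁻¹ * g ∈ M → up g = u := by
    intro g u hu
    have h1 : ((up g : G))⁻¹ * u ∈ U ⊓ M := by
      refine mem_inf.2 ⟨mul_mem (inv_mem (up g).2) u.2, ?_⟩
      have := mul_mem (hup g) (inv_mem hu)
      simpa [mul_assoc] using this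
    rw [hUM, mem_bot, inv_mul_eq_one] at h1
    exact Subtype.ext h1
  have hup_mul : ∀ g h, up (g * h) = up g * ce g (up h) := by
    intro g h
    refine hun _ _ ?_
    obtain ⟨m, hm, hgm⟩ : ∃ m ∈ M, g = (up g : G) * m := ⟨_, hup g, by group⟩
    -- conjugation by `g` agrees with conjugation by its `M`-part on `U`
    have hc : (ce g (up h) : G) = m * (up h : G) * m⁻¹ := by
      show g * (up h : G) * g⁻¹ = _
      have hw : (up g : G) * (m * (up h : G) * m⁻¹) = m * (up h : G) * m⁻¹ * (up g : G) :=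
        congrArg Subtype.val (hU.1.1.comm (up g) ⟨_, Normal.conj_mem inferInstance _ (up h).2 m⟩)
      conv_lhs => rw [hgm]
      calc (up g : G) * m * (up h : G) * ((up g : G) * m)⁻¹
          = (up g : G) * (m * (up h : G) * m⁻¹) * (up g : G)⁻¹ := by group
        _ = m * (up h : G) * m⁻¹ := by rw [hw, mul_inv_cancel_right]
    rw [Subgroup.coe_mul, hc]
    have : ((up g : G) * (m * (up h : G) * m⁻¹))⁻¹ * (g * h) = m * ((up h : G)⁻¹ * h) := by
      conv_lhs => arg 2; rw [hgm]
      group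
    rw [this]
    exact mul_mem hm (hup h)
  have hAmul : ∀ g h, A (g * h) = A g * A h := by
    intro g h
    refine Matrix.ext_of_mulVec_single fun i => ?_
    rw [← mulVec_mulVec, hA, hA, hA, e.symm_apply_apply]
    congr 1
    exact Subtype.ext (by simp [ce, mul_assoc])
  have hA1 : A 1 = 1 := by
    refine Matrix.ext_of_mulVec_single fun i => ?_
    rw [hA, one_mulVec, show ce 1 (e.symm (Pi.single i 1)) = e.symm (Pi.single i 1) from
      Subtype.ext (by simp [ce]), e.apply_symm_apply]
  let f : G → Matrix (Fin (n + 2)) (Fin (n + 2)) (ZMod 2) := fun g => aff (A g) (e (up g))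
  have hfmul : ∀ g h, f (g * h) = f g * f h := by
    intro g h
    simp only [f, aff_mul, hAmul, hup_mul, he, hA, e.symm_apply_apply]
  have hf1 : f 1 = 1 := by
    simp only [f, hA1, hun 1 1 (by simpa using one_mem M), he1, aff_one]
  have hdet : ∀ g, (f g).det = 1 := fun g => two_one _ fun h => by
    have := congrArg Matrix.det (hfmul g g⁻¹)
    rw [mul_inv_cancel, hf1, det_one, det_mul, h, zero_mul] at this
    exact one_ne_zero this
  let ψ : G →* SLn n :=
    { toFun := fun g => ⟨f g, hdet g⟩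
      map_one' := Subtype.ext hf1
      map_mul' := fun g h => Subtype.ext (hfmul g h) }
  refine ⟨ψ, ?_, ?_, ?_⟩
  · rw [injective_iff_map_eq_one]
    intro g hg
    have h : f g = f 1 := (congrArg Subtype.val hg).trans hf1.symm
    obtain ⟨h1, h2⟩ := aff_inj h
    rw [hA1] at h1
    rw [hun 1 1 (by simpa using one_mem M)] at h2
    have hgM : g ∈ M := by simpa [e.injective h2] using hup g
    refine hfaith g hgM fun u hu => ?_
    have := hA g (e ⟨u, hu⟩)
    rw [h1, one_mulVec, e.symm_apply_apply] at this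
    exact congrArg Subtype.val (e.injective this).symm
  · intro h hh
    obtain ⟨B, a, b, c, rfl⟩ := centralizer_iff.1 hh
    obtain ⟨B', a', b', c', hinv⟩ := centralizer_iff.1 (inv_mem hh)
    obtain ⟨A₀, t, hA₀⟩ := el_eq_aff B a b c
    obtain ⟨A₁, t₁, hA₁⟩ := el_eq_aff B' a' b' c'
    have h01 : A₀ * A₁ = 1 ∧ A₁ * A₀ = 1 := by
      have e1 : aff A₀ t * aff A₁ t₁ = 1 := by
        rw [← hA₀, ← hA₁, ← hinv]
        exact congrArg Subtype.val (mul_inv_cancel (el B a b c))
      have e2 : aff A₁ t₁ * aff A₀ t = 1 := by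
        rw [← hA₀, ← hA₁, ← hinv]
        exact congrArg Subtype.val (inv_mul_cancel (el B a b c))
      rw [aff_mul, ← aff_one] at e1 e2
      exact ⟨(aff_inj e1).1, (aff_inj e2).1⟩
    let φ : U ≃* U :=
      { toFun := fun u => e.symm (A₀ *ᵥ e u)
        invFun := fun u => e.symm (A₁ *ᵥ e u)
        left_inv := fun u => by simp [mulVec_mulVec, h01.2]
        right_inv := fun u => by simp [mulVec_mulVec, h01.1]
        map_mul' := fun u v => e.injective (by simp [he, mulVec_add]) }
    obtain ⟨m, hm, hφ⟩ := hfull φ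
    have hmA : A m = A₀ := by
      refine Matrix.ext_of_mulVec_single fun i => ?_
      rw [hA, show ce m (e.symm (Pi.single i 1)) = φ (e.symm (Pi.single i 1)) from
        Subtype.ext (hφ _).symm]
      simp [φ]
    have hum : up ((e.symm t : G) * m) = e.symm t := hun _ _ (by simpa using hm)
    have huA : A (e.symm t : G) = 1 := by
      refine Matrix.ext_of_mulVec_single fun i => ?_
      rw [hA, one_mulVec]
      have : ce (e.symm t : G) (e.symm (Pi.single i 1)) = e.symm (Pi.single i 1) := Subtype.ext (by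
        show (e.symm t : G) * (e.symm (Pi.single i 1) : G) * (e.symm t : G)⁻¹ = _
        rw [show (e.symm t : G) * (e.symm (Pi.single i 1) : G) = (e.symm (Pi.single i 1) : G) * (e.symm t : G)
          from congrArg Subtype.val (hU.1.1.comm (e.symm t) (e.symm (Pi.single i 1))), mul_inv_cancel_right])
      rw [this, e.apply_symm_apply]
    refine ⟨(e.symm t : G) * m, Subtype.ext ?_⟩
    show f _ = _
    rw [hA₀]
    simp only [f, hAmul, huA, one_mul, hmA, hum, e.apply_symm_apply]
  · refine Subtype.ext ?_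
    show f z = _
    have hzA : A z = 1 := by
      refine Matrix.ext_of_mulVec_single fun i => ?_
      rw [hA, one_mulVec]
      have : ce z (e.symm (Pi.single i 1)) = e.symm (Pi.single i 1) := Subtype.ext (by
        show z * (e.symm (Pi.single i 1) : G) * z⁻¹ = _
        rw [show z * (e.symm (Pi.single i 1) : G) = (e.symm (Pi.single i 1) : G) * z
          from congrArg Subtype.val (hU.1.1.comm ⟨z, hzU⟩ (e.symm (Pi.single i 1))), mul_inv_cancel_right])
      rw [this, e.apply_symm_apply]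
    simp only [f, hzA, hun z ⟨z, hzU⟩ (by simpa using one_mem M), hez]
    ext i j
    refine Fin.cases ?_ (fun i => Fin.cases ?_ (fun i => ?_) i) i <;>
      refine Fin.cases ?_ (fun j => Fin.cases ?_ (fun j => ?_) j) j <;>
      simp [tr, el_coe, blk, aff, Matrix.one_apply, Fin.succ_inj, Pi.single_apply, Fin.succ_ne_zero,
        (Fin.succ_ne_zero _).symm]

end CfsgLib.LargeExtra.TransCore
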