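import Mathlib
import Cfsg.Prelude.Def_Local
import Cfsg.Prelude.Def_Transfer
import Cfsg.Agent.Lib.Cores.Components

/-!
A simplicity criterion for groups with an extraspecial `F*` of an involution centralizer.
-/

namespace CfsgLib.LargeExtra

open Subgroup Cfsg

variable {G : Type*} [Group G] [Finite G]

omit [Finite G] in
theorem inverts_of_no_fixed {z : G} (hzz : z * z = 1) {M : Subgroup G} [M.Normal] [Finite M]
    (hfix : ∀ m ∈ M, m * z = z * m → m = 1) : ∀ a ∈ M, z * a * z⁻¹ = a⁻¹ := by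
  let f : M → M := fun m => ⟨(m : G)⁻¹ * (z * m * z⁻¹),
    mul_mem (inv_mem m.2) (Normal.conj_mem inferInstance _ m.2 z)⟩
  have hinj : Function.Injective f := by
    intro m n h
    have h' : (m : G)⁻¹ * (z * m * z⁻¹) = (n : G)⁻¹ * (z * n * z⁻¹) := congrArg Subtype.val h
    have h2 : (n : G) * (m : G)⁻¹ * z = z * ((n : G) * (m : G)⁻¹) := by
      calc (n : G) * (m : G)⁻¹ * z = n * ((m : G)⁻¹ * (z * m * z⁻¹)) * (z * (m : G)⁻¹) * 1 := by group
        _ = n * ((n : G)⁻¹ * (z * n * z⁻¹)) * (z * (m : G)⁻¹) * 1 := by rw [h']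
        _ = z * ((n : G) * (m : G)⁻¹) := by group
    have := hfix _ (mul_mem n.2 (inv_mem m.2)) h2
    exact Subtype.ext (mul_inv_eq_one.1 this).symm
  intro a ha
  obtain ⟨m, hm⟩ := (Finite.injective_iff_surjective.1 hinj) ⟨a, ha⟩
  have hm' : (m : G)⁻¹ * (z * m * z⁻¹) = a := congrArg Subtype.val hm
  have hzi : z⁻¹ = z := inv_eq_of_mul_eq_one_left hzz
  rw [← hm', hzi]
  calc z * ((m : G)⁻¹ * (z * m * z)) * z = z * (m : G)⁻¹ * z * m * (z * z) := by group
    _ = z⁻¹ * (m : G)⁻¹ * z⁻¹ * m := by rw [hzz, hzi, mul_one]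
    _ = ((m : G)⁻¹ * (z * m * z))⁻¹ := by group

theorem simple_of_setting {z : G} (hz : orderOf z = 2)
    (Q : Subgroup (centralizer ({z} : Set G))) [hQn : Q.Normal]
    (hF : generalizedFittingSubgroup ↥(centralizer ({z} : Set G)) = Q)
    (hQ : IsExtraspecial 2 ↥Q)
    (hnwc : ∃ g : G, (∃ hq : g * z * g⁻¹ ∈ centralizer ({z} : Set G),
      (⟨g * z * g⁻¹, hq⟩ : centralizer ({z} : Set G)) ∈ Q) ∧ g * z * g⁻¹ ≠ z)
    (hsimp : IsSimpleGroup (↥(centralizer ({z} : Set G)) ⧸ Q))
    (hirr : ∀ W : Subgroup (centralizer ({z} : Set G)), W.Normal → W ≤ Q →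
      (W = Q ∨ ∀ x ∈ W, (x : G) ∈ zpowers z))
    (hwcl : closure {x : centralizer ({z} : Set G) | IsConj z (x : G)} ≠ Q) :
    IsSimpleGroup G := by
  classical
  haveI : Fact (Nat.Prime 2) := ⟨Nat.prime_two⟩
  have hzz : z * z = 1 := by rw [← sq, ← hz, pow_orderOf_eq_one]
  have hz1 : z ≠ 1 := fun h => by rw [h, orderOf_one] at hz; omega
  obtain ⟨C, hC⟩ : ∃ C : Subgroup G, C = centralizer ({z} : Set G) := ⟨_, rfl⟩
  have memC : ∀ {x : G}, x ∈ centralizer ({z} : Set G) ↔ x * z = z * x :=
    fun {x} => mem_centralizer_singleton_iff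
  let zC : centralizer ({z} : Set G) := ⟨z, memC.2 rfl⟩
  have hzcen : zC ∈ center (centralizer ({z} : Set G)) :=
    mem_center_iff.2 fun y => Subtype.ext (memC.1 y.2)
  have hself : centralizer (Q : Set (centralizer ({z} : Set G))) ≤ Q := by
    have := CfsgLib.Cores.centralizer_generalizedFittingSubgroup_le (G := centralizer ({z} : Set G))
    rwa [hF] at this
  have hcQ : center (centralizer ({z} : Set G)) ≤ Q :=
    le_trans (fun c hc => mem_centralizer_iff.2 fun y _ => mem_center_iff.1 hc y) hself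
  have hzQ : zC ∈ Q := hcQ hzcen
  have hcentre : ∀ c : centralizer ({z} : Set G), c ∈ Q → (∀ y ∈ Q, y * c = c * y) → c = 1 ∨ c = zC := by
    intro c hc hcy
    have h1 : (⟨c, hc⟩ : Q) ∈ center Q := mem_center_iff.2 fun y => Subtype.ext (hcy y y.2)
    have h2 : (⟨zC, hzQ⟩ : Q) ∈ center Q :=
      mem_center_iff.2 fun y => Subtype.ext (mem_center_iff.1 hzcen y)
    obtain ⟨u, v, -, huniv⟩ := Nat.card_eq_two_iff.1 hQ.2
    have a1 := Set.eq_univ_iff_forall.1 huniv ⟨_, h1⟩
    have a2 := Set.eq_univ_iff_forall.1 huniv ⟨_, h2⟩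
    have a3 := Set.eq_univ_iff_forall.1 huniv 1
    have hne : (⟨_, h2⟩ : center Q) ≠ 1 := fun h => hz1 (by
      simpa [zC] using congrArg (fun t : center Q => ((t : Q) : centralizer ({z} : Set G))) h)
    simp only [Set.mem_insert_iff, Set.mem_singleton_iff] at a1 a2 a3
    have : (⟨_, h1⟩ : center Q) = 1 ∨ (⟨_, h1⟩ : center Q) = ⟨_, h2⟩ := by grind
    rcases this with h | h
    · exact .inl (by simpa using congrArg (fun t : center Q => ((t : Q) : centralizer ({z} : Set G))) h)
    · exact .inr (by simpa using congrArg (fun t : center Q => ((t : Q) : centralizer ({z} : Set G))) h)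
  obtain ⟨g, ⟨hq, hgQ⟩, hgne⟩ := hnwc
  -- a normal subgroup either contains `z` or meets the centralizer trivially
  have hdich : ∀ M : Subgroup G, M.Normal → z ∈ M ∨ ∀ m ∈ M, m * z = z * m → m = 1 := by
    intro M hM
    by_contra! hcon
    obtain ⟨hzM, m, hm, hmz, hm1⟩ := hcon
    haveI : (M.subgroupOf (centralizer ({z} : Set G))).Normal := Normal.subgroupOf hM _
    let W := Q ⊓ M.subgroupOf (centralizer ({z} : Set G))
    by_cases hW : W = ⊥
    · -- then `M ∩ C` centralizes `Q`
      have hmc : (⟨m, memC.2 hmz⟩ : centralizer ({z} : Set G)) ∈ centralizer (Q : Set _) := by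
        rw [mem_centralizer_iff]
        intro y hy
        exact (commute_of_normal_of_disjoint Q _ inferInstance inferInstance (disjoint_iff.2 hW) y _ hy
          (mem_subgroupOf.2 hm)).eq
      have hmQ := hself hmc
      have h1 := (eq_bot_iff_forall _).1 hW _ (mem_inf.2 ⟨hmQ, mem_subgroupOf.2 hm⟩)
      exact hm1 (congrArg Subtype.val h1)
    · haveI : W.Normal := by infer_instance
      rcases hirr W inferInstance inf_le_left with h | h
      · exact hzM (mem_subgroupOf.1 ((h ▸ hzQ : zC ∈ W)).2)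
      · obtain ⟨w, hw, hw1⟩ := W.bot_or_exists_ne_one.resolve_left hW
        obtain ⟨k, hk⟩ := mem_zpowers_iff.1 (h w hw)
        refine hzM ?_
        have h2 : z ^ (2 : ℤ) = 1 := by rw [zpow_two, hzz]
        rcases Int.even_or_odd k with ⟨j, hj⟩ | ⟨j, hj⟩
        · rw [hj, ← two_mul, zpow_mul, h2, one_zpow] at hk
          exact absurd (Subtype.ext hk.symm) hw1
        · rw [hj, zpow_add, zpow_mul, h2, one_zpow, one_mul, zpow_one] at hk
          rw [hk]; exact mem_subgroupOf.1 hw.2
  -- every nontrivial normal subgroup contains `z`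
  have hall : ∀ M : Subgroup G, M.Normal → M ≠ ⊥ → z ∈ M := by
    intro M hM hne
    by_contra hzM
    have hfix := (hdich M hM).resolve_left hzM
    have hi1 := inverts_of_no_fixed hzz hfix
    obtain ⟨x, hx⟩ : ∃ x, x = g * z * g⁻¹ := ⟨_, rfl⟩
    have hxx : x * x = 1 := by
      rw [hx, show g * z * g⁻¹ * (g * z * g⁻¹) = g * (z * z) * g⁻¹ by group, hzz]; group
    have hfx : ∀ m ∈ M, m * x = x * m → m = 1 := by
      intro m hm hmx
      have h1 : g⁻¹ * m * g * z = z * (g⁻¹ * m * g) := by
        calc g⁻¹ * m * g * z = g⁻¹ * (m * (g * z * g⁻¹)) * g := by group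
          _ = g⁻¹ * ((g * z * g⁻¹) * m) * g := by rw [← hx, hmx]
          _ = z * (g⁻¹ * m * g) := by group
      have := hfix _ (by simpa using hM.conj_mem m hm g⁻¹) h1
      calc m = g * (g⁻¹ * m * g) * g⁻¹ := by group
        _ = 1 := by rw [this]; group
    have hi2 := inverts_of_no_fixed hxx hfx
    have hzx : z * x ∈ centralizer (M : Set G) := by
      rw [mem_centralizer_iff]
      intro a ha
      refine (mul_inv_eq_iff_eq_mul.1 ?_).symm
      calc z * x * a * (z * x)⁻¹ = z * (x * a * x⁻¹) * z⁻¹ := by group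
        _ = a := by rw [hi2 a ha, hi1 _ (inv_mem ha), inv_inv]
    have hxc : x * z = z * x := hx ▸ memC.1 hq
    rcases hdich (centralizer (M : Set G)) inferInstance with h | h
    · obtain ⟨a, ha, ha1⟩ := M.bot_or_exists_ne_one.resolve_left hne
      exact ha1 (hfix a ha ((mem_centralizer_iff.1 h) a ha))
    · have h1 := h _ hzx (by rw [mul_assoc, hxc])
      refine hgne ?_
      rw [← hx]
      calc x = z * (z * x) := by rw [← mul_assoc, hzz, one_mul]
        _ = z := by rw [h1, mul_one]
  haveI : Nontrivial G := nontrivial_iff.2 ⟨z, 1, hz1⟩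
  refine ⟨fun M hM => ?_⟩
  by_cases hbot : M = ⊥
  · exact .inl hbot
  refine .inr ?_
  haveI := hM
  have hzM := hall M hM hbot
  -- `C ≤ M`
  have hconjM : ∀ y, IsConj z y → y ∈ M := by
    rintro y hy
    obtain ⟨c, rfl⟩ := isConj_iff.1 hy
    exact hM.conj_mem z hzM c
  haveI : (M.subgroupOf (centralizer ({z} : Set G))).Normal := Normal.subgroupOf hM _
  have hQM : Q ≤ M.subgroupOf (centralizer ({z} : Set G)) := by
    rcases hirr (Q ⊓ M.subgroupOf (centralizer ({z} : Set G))) inferInstance inf_le_left with h | h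
    · exact h ▸ inf_le_right
    · exfalso
      obtain ⟨k, hk⟩ := mem_zpowers_iff.1
        (h ⟨_, hq⟩ ⟨hgQ, mem_subgroupOf.2 (hconjM _ (isConj_iff.2 ⟨g, rfl⟩))⟩)
      have h2 : z ^ (2 : ℤ) = 1 := by rw [zpow_two, hzz]
      rcases Int.even_or_odd k with ⟨j, hj⟩ | ⟨j, hj⟩
      · rw [hj, ← two_mul, zpow_mul, h2, one_zpow] at hk
        exact hz1 (conj_eq_one_iff.1 hk.symm)
      · rw [hj, zpow_add, zpow_mul, h2, one_zpow, one_mul, zpow_one] at hk
        exact hgne hk.symm
  have hCM : centralizer ({z} : Set G) ≤ M := by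
    have hcl : closure {x : centralizer ({z} : Set G) | IsConj z (x : G)} ≤
        M.subgroupOf (centralizer ({z} : Set G)) :=
      (closure_le _).2 fun x hx => mem_subgroupOf.2 (hconjM _ hx)
    haveI := hsimp
    have hn2 : ((M.subgroupOf (centralizer ({z} : Set G))).map (QuotientGroup.mk' Q)).Normal :=
      Normal.map inferInstance _ (QuotientGroup.mk'_surjective Q)
    rcases hn2.eq_bot_or_eq_top with h | h
    · exfalso
      rw [Subgroup.map_eq_bot_iff, QuotientGroup.ker_mk'] at h
      have hle : closure {x : centralizer ({z} : Set G) | IsConj z (x : G)} ≤ Q := hcl.trans h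
      haveI : (closure {x : centralizer ({z} : Set G) | IsConj z (x : G)}).Normal := by
        refine ⟨fun n hn c => ?_⟩
        induction hn using closure_induction with
        | mem x hx =>
          refine subset_closure ?_
          exact hx.trans (isConj_iff.2 ⟨c, rfl⟩)
        | one => simp
        | mul a b _ _ ha hb =>
          rw [show c * (a * b) * c⁻¹ = (c * a * c⁻¹) * (c * b * c⁻¹) by group]
          exact mul_mem ha hb
        | inv a _ ha =>
          rw [show c * a⁻¹ * c⁻¹ = (c * a * c⁻¹)⁻¹ by group]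
          exact inv_mem ha
      rcases hirr _ inferInstance hle with h1 | h1
      · exact hwcl h1
      · obtain ⟨k, hk⟩ := mem_zpowers_iff.1
          (h1 ⟨_, hq⟩ (subset_closure (isConj_iff.2 ⟨g, rfl⟩)))
        have h2 : z ^ (2 : ℤ) = 1 := by rw [zpow_two, hzz]
        rcases Int.even_or_odd k with ⟨j, hj⟩ | ⟨j, hj⟩
        · rw [hj, ← two_mul, zpow_mul, h2, one_zpow] at hk
          exact hz1 (conj_eq_one_iff.1 hk.symm)
        · rw [hj, zpow_add, zpow_mul, h2, one_zpow, one_mul, zpow_one] at hk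
          exact hgne hk.symm
    · intro c hc
      obtain ⟨m, hm, hmc⟩ : (QuotientGroup.mk' Q ⟨c, hc⟩) ∈
          (M.subgroupOf (centralizer ({z} : Set G))).map (QuotientGroup.mk' Q) := h ▸ mem_top _
      have h1 : m⁻¹ * ⟨c, hc⟩ ∈ Q := QuotientGroup.eq.1 hmc
      have := mul_mem hm (hQM h1)
      rw [mul_inv_cancel_left] at this
      exact mem_subgroupOf.1 this
  -- a Sylow subgroup of the centralizer is one of the whole group
  obtain ⟨T⟩ : Nonempty (Sylow 2 (centralizer ({z} : Set G))) := inferInstance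
  have hQT : Q ≤ (T : Subgroup (centralizer ({z} : Set G))) :=
    (hQ.1.1).le_sylow_of_normal T
  have hzT : ∀ n : G, n ∈ normalizer (((T : Subgroup (centralizer ({z} : Set G))).map
      (centralizer ({z} : Set G)).subtype : Subgroup G) : Set G) → n ∈ centralizer ({z} : Set G) := by
    intro n hn
    obtain ⟨t, ht, htz⟩ : n * z * n⁻¹ ∈ (T : Subgroup (centralizer ({z} : Set G))).map
        (centralizer ({z} : Set G)).subtype :=
      (mem_normalizer_iff.1 hn z).1 ⟨zC, hQT hzQ, rfl⟩
    have htc : ∀ y ∈ (T : Subgroup (centralizer ({z} : Set G))), y * t = t * y := by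
      intro y hy
      have hy' : n⁻¹ * (y : G) * n ∈ (T : Subgroup (centralizer ({z} : Set G))).map
          (centralizer ({z} : Set G)).subtype := by
        simpa using (mem_normalizer_iff.1 (inv_mem hn) _).1 ⟨y, hy, rfl⟩
      obtain ⟨s, hs, hse⟩ := hy'
      refine Subtype.ext ?_
      show (y : G) * t = t * y
      rw [show ((t : G)) = n * z * n⁻¹ from htz]
      have hse' : (s : G) = n⁻¹ * (y : G) * n := hse
      calc (y : G) * (n * z * n⁻¹) = n * ((n⁻¹ * y * n) * z) * n⁻¹ := by group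
        _ = n * (z * (n⁻¹ * y * n)) * n⁻¹ := by rw [← hse', memC.1 s.2]
        _ = n * z * n⁻¹ * y := by group
    have htQ : t ∈ Q := hself (mem_centralizer_iff.2 fun y hy => htc y (hQT hy))
    rcases hcentre t htQ (fun y hy => htc y (hQT hy)) with h | h <;> rw [h] at htz
    · exact absurd (conj_eq_one_iff.1 htz.symm) hz1
    · exact memC.2 (mul_inv_eq_iff_eq_mul.1 htz.symm)
  obtain ⟨S, hS⟩ := (T.2.map (centralizer ({z} : Set G)).subtype).exists_le_sylow
  have hST : (S : Subgroup G) =
      (T : Subgroup (centralizer ({z} : Set G))).map (centralizer ({z} : Set G)).subtype := by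
    refine le_antisymm ?_ hS
    by_contra hlt
    haveI : Group.IsNilpotent ↥(S : Subgroup G) := S.isPGroup'.isNilpotent
    have hnc := Group.normalizerCondition_of_isNilpotent (G := ↥(S : Subgroup G))
    let H := ((T : Subgroup (centralizer ({z} : Set G))).map
      (centralizer ({z} : Set G)).subtype).subgroupOf (S : Subgroup G)
    have hHlt : H < ⊤ := lt_top_iff_ne_top.2 fun h => hlt (subgroupOf_eq_top.1 h)
    obtain ⟨s, hsn, hsH⟩ := SetLike.exists_of_lt (hnc H hHlt)
    have hsN : (s : G) ∈ normalizer (((T : Subgroup (centralizer ({z} : Set G))).map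
        (centralizer ({z} : Set G)).subtype : Subgroup G) : Set G) := by
      rw [mem_normalizer_iff]
      intro y
      constructor
      · intro hy
        have := (mem_normalizer_iff.1 hsn ⟨y, hS hy⟩).1 (mem_subgroupOf.2 hy)
        simpa using mem_subgroupOf.1 this
      · intro hy
        have hyS : y ∈ (S : Subgroup G) := by
          have := mul_mem (mul_mem (inv_mem s.2) (hS hy)) s.2
          simpa [mul_assoc] using this
        exact mem_subgroupOf.1 ((mem_normalizer_iff.1 hsn ⟨y, hyS⟩).2 (mem_subgroupOf.2 hy))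
    have hsC := hzT _ hsN
    have hTeq := T.3 (S.isPGroup'.comap_subtype (K := centralizer ({z} : Set G)))
      (fun t ht => mem_subgroupOf.2 (hS ⟨t, ht, rfl⟩))
    refine hsH (mem_subgroupOf.2 ⟨⟨s, hsC⟩, ?_, rfl⟩)
    rw [← hTeq]
    exact mem_subgroupOf.2 s.2
  have hSM : (S : Subgroup G) ≤ M := hST ▸ (map_subtype_le _).trans hCM
  have hfr := Sylow.normalizer_sup_eq_top' S hSM
  have hNS : normalizer ((S : Subgroup G) : Set G) ≤ M := fun n hn => hCM (hzT n (hST ▸ hn))
  exact le_antisymm le_top (hfr ▸ sup_le hNS le_rfl)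

end CfsgLib.LargeExtra
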