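import Mathlib
import Cfsg.Agent.Lib.LargeExtra.Sections
import Cfsg.Agent.Lib.LargeExtra.SimplicityCriterion

/-!
Simplicity from an abelian subgroup generated by conjugates of `z` whose conjugates generate `C(z)`.
-/

namespace CfsgLib.LargeExtra.FData

open Subgroup Cfsg

variable {G : Type*} [Group G] [Finite G] {Q : Subgroup G} {z : G} (h : FData Q z)

include h

/-- A normal subgroup containing the involution centralizer is everything. -/
theorem eq_top_of_centralizer_le {M : Subgroup G} [M.Normal] (hCM : centralizer ({z} : Set G) ≤ M) :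
    M = ⊤ := by
  haveI : Fact (Nat.Prime 2) := ⟨Nat.prime_two⟩
  have hz1 : z ≠ 1 := fun e => by have := h.ord; rw [e, orderOf_one] at this; omega
  obtain ⟨T⟩ : Nonempty (Sylow 2 (centralizer ({z} : Set G))) := inferInstance
  obtain ⟨U, hU⟩ : ∃ U : Subgroup G, U = (T : Subgroup (centralizer ({z} : Set G))).map
      (centralizer ({z} : Set G)).subtype := ⟨_, rfl⟩
  haveI : (Q.subgroupOf (centralizer ({z} : Set G))).Normal := normal_subgroupOf_of_le_normalizer h.normal
  have hQT : Q ≤ U := by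
    rw [hU, ← map_subgroupOf_eq_of_le h.le]
    exact map_mono (IsPGroup.le_sylow_of_normal (N := Q.subgroupOf (centralizer ({z} : Set G))) h.extra.1.1.comap_subtype T)
  have hUC : U ≤ centralizer ({z} : Set G) := hU ▸ map_subtype_le _
  have hzT : ∀ n : G, n ∈ normalizer (U : Set G) → n ∈ centralizer ({z} : Set G) := by
    intro n hn
    have h1 : n * z * n⁻¹ ∈ centralizer (Q : Set G) := by
      rw [mem_centralizer_iff]
      intro y hy
      have hy' : n⁻¹ * y * n ∈ U := by simpa using (mem_normalizer_iff.1 (inv_mem hn) y).1 (hQT hy)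
      calc y * (n * z * n⁻¹) = n * ((n⁻¹ * y * n) * z) * n⁻¹ := by group
        _ = n * z * n⁻¹ * y := by rw [mem_centralizer_singleton_iff.1 (hUC hy')]; group
    rw [h.self, h.centre] at h1
    rcases zpowers_two_cases h.ord _ h1 with e | e
    · exact absurd (conj_eq_one_iff.1 e) hz1
    · exact mem_centralizer_singleton_iff.2 (mul_inv_eq_iff_eq_mul.1 e)
  obtain ⟨S, hS⟩ := (T.2.map (centralizer ({z} : Set G)).subtype).exists_le_sylow
  rw [← hU] at hS
  have hST : (S : Subgroup G) = U := by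
    refine le_antisymm ?_ hS
    by_contra hlt
    haveI : Group.IsNilpotent ↥(S : Subgroup G) := S.isPGroup'.isNilpotent
    have hnc := Group.normalizerCondition_of_isNilpotent (G := ↥(S : Subgroup G))
    have hHlt : U.subgroupOf (S : Subgroup G) < ⊤ :=
      lt_top_iff_ne_top.2 fun h => hlt (subgroupOf_eq_top.1 h)
    obtain ⟨s, hsn, hsH⟩ := SetLike.exists_of_lt (hnc _ hHlt)
    have hsN : (s : G) ∈ normalizer (U : Set G) := by
      rw [mem_normalizer_iff]
      intro y
      constructor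
      · intro hy
        have := (mem_normalizer_iff.1 hsn ⟨y, hS hy⟩).1 (mem_subgroupOf.2 hy)
        simpa using mem_subgroupOf.1 this
      · intro hy
        have hyS : y ∈ (S : Subgroup G) := by
          have := mul_mem (mul_mem (inv_mem s.2) (hS hy)) s.2
          simpa [mul_assoc] using this
        exact mem_subgroupOf.1 ((mem_normalizer_iff.1 hsn ⟨y, hyS⟩).2 (mem_subgroupOf.2 hy))
    have hTeq := T.3 (S.isPGroup'.comap_subtype (K := centralizer ({z} : Set G)))
      (fun t ht => mem_subgroupOf.2 (hS (hU ▸ mem_map_of_mem _ ht)))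
    refine hsH (mem_subgroupOf.2 ?_)
    rw [hU]
    refine ⟨⟨s, hzT _ hsN⟩, ?_, rfl⟩
    rw [← hTeq]
    exact mem_subgroupOf.2 s.2
  have hSM : (S : Subgroup G) ≤ M := hST ▸ hUC.trans hCM
  have hfr := Sylow.normalizer_sup_eq_top' S hSM
  have hNS : normalizer ((S : Subgroup G) : Set G) ≤ M := fun n hn => hCM (hzT n (hST ▸ hn))
  exact le_antisymm le_top (hfr ▸ sup_le hNS le_rfl)

theorem simple_generated {K U : Subgroup G}
    (hU : U = closure {x : G | ∃ k ∈ K, x = k * z * k⁻¹}) (hUab : IsMulCommutative U)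
    (hgen : closure {x : G | ∃ c ∈ centralizer ({z} : Set G), ∃ u ∈ U, x = c * u * c⁻¹} =
      centralizer ({z} : Set G))
    (h3 : (∃ k ∈ K, k * z * k⁻¹ ∈ Q ∧ k * z * k⁻¹ ≠ z) ∨ ∃ u ∈ U ⊓ Q, u ∉ zpowers z ∧
      (∃ hz' : z ∈ centralizer ({u} : Set G),
        (⟨z, hz'⟩ : ↥(centralizer ({u} : Set G))) ∈ pCore 2 ↥(centralizer ({u} : Set G)))) :
    IsSimpleGroup G ∧ IsLargeExtraspecial Q := by
  have hz1 : z ≠ 1 := fun e => by have := h.ord; rw [e, orderOf_one] at this; omega
  have hzz : z * z = 1 := by rw [← sq, ← h.ord, pow_orderOf_eq_one]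
  have hL3 : centralizer (((center Q).map Q.subtype : Subgroup G) : Set G) ≤ normalizer (Q : Set G) := by
    rw [h.centre, centralizer_zpowers]; exact h.normal
  have hlarge : IsLargeExtraspecial Q := by
    rcases h3 with ⟨k, -, hkQ, hkz⟩ | ⟨u, hu, huz, hz', hzu⟩
    · exact isLargeExtraspecial_of_conj h.extra h.ord h.centre h.self h.normal hkQ hkz
    obtain ⟨huU, huQ⟩ := mem_inf.1 hu
    have huu : u * u = 1 := by
      suffices ∀ w ∈ U, w * w = 1 from this u huU
      intro w hw
      have hw' : w ∈ closure {x : G | ∃ k ∈ K, x = k * z * k⁻¹} := hU ▸ hw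
      induction hw' using closure_induction with
      | mem w hw' =>
        obtain ⟨k, -, rfl⟩ := hw'
        rw [show k * z * k⁻¹ * (k * z * k⁻¹) = k * (z * z) * k⁻¹ by group, hzz]; group
      | one => exact mul_one 1
      | mul a b ha hb iha ihb =>
        have e : a * b = b * a :=
          congrArg Subtype.val (hUab.1.comm (⟨a, hU ▸ ha⟩ : U) ⟨b, hU ▸ hb⟩)
        rw [mul_assoc, ← mul_assoc b, ← e, mul_assoc a b b, ihb (hU ▸ hb), mul_one, iha (hU ▸ ha)]
      | inv a ha iha => rw [← mul_inv_rev, iha (hU ▸ ha), inv_one]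
    have hune : u ≠ 1 ∧ u ≠ z := ⟨fun e => huz (e ▸ one_mem _), fun e => huz (e ▸ mem_zpowers z)⟩
    obtain ⟨q, hq, hqu⟩ := h.exists_noncomm huQ hune
    have hqu' : q * u * q⁻¹ = z * u := eq_mul_of_mul_inv_eq ((h.comm_cases hq huQ).resolve_left fun e =>
      hqu (by rwa [mul_inv_eq_one, mul_inv_eq_iff_eq_mul] at e))
    refine ⟨h.extra, h.self, hL3, fun L hL hQL => ?_⟩
    have hfz : ∀ k ∈ L, z * k = k * z → k = 1 := by
      refine centralizer_trivial_of_mem_two_core h.extra h.self hL3 hL hQL h.centre h.z_mem h.z_mem ?_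
      have := mem_two_core_of_map (g := 1) h.extra h.centre h.normal (y := z) ⟨z, h.z_mem, by simp⟩
      rw [show (1 : G) * z * 1⁻¹ = z by group] at this
      exact this
    have hfu : ∀ k ∈ L, u * k = k * u → k = 1 :=
      centralizer_trivial_of_mem_two_core h.extra h.self hL3 hL hQL h.centre h.z_mem huQ ⟨⟨z, hz'⟩, hzu, rfl⟩
    have hfzu : ∀ k ∈ L, z * u * k = k * (z * u) → k = 1 := by
      intro k hk e
      have hk' : q⁻¹ * k * q ∈ L := by simpa using (mem_normalizer_iff.1 (inv_mem (hQL hq)) k).1 hk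
      rw [← hqu'] at e
      have := hfu _ hk' (by
        calc u * (q⁻¹ * k * q) = q⁻¹ * ((q * u * q⁻¹) * k) * q := by group
          _ = q⁻¹ * k * q * u := by rw [e]; group)
      calc k = q * (q⁻¹ * k * q) * q⁻¹ := by group
        _ = 1 := by rw [this]; group
    have hinv : ∀ b ∈ Q, b * b = 1 → (∀ k ∈ L, b * k = k * b → k = 1) → ∀ a ∈ L, b * a * b⁻¹ = a⁻¹ := by
      intro b hb hbb hfix
      let f : L → L := fun m => ⟨(m : G)⁻¹ * (b * m * b⁻¹),
        mul_mem (inv_mem m.2) ((mem_normalizer_iff.1 (hQL hb) m).1 m.2)⟩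
      have hinj : Function.Injective f := by
        intro m n h
        have h' : (m : G)⁻¹ * (b * m * b⁻¹) = (n : G)⁻¹ * (b * n * b⁻¹) := congrArg Subtype.val h
        have h2 : b * ((n : G) * (m : G)⁻¹) = (n : G) * (m : G)⁻¹ * b := by
          calc b * ((n : G) * (m : G)⁻¹) = n * ((n : G)⁻¹ * (b * n * b⁻¹)) * (b * (m : G)⁻¹) := by group
            _ = n * ((m : G)⁻¹ * (b * m * b⁻¹)) * (b * (m : G)⁻¹) := by rw [h']
            _ = (n : G) * (m : G)⁻¹ * b := by group
        exact Subtype.ext (mul_inv_eq_one.1 (hfix _ (mul_mem n.2 (inv_mem m.2)) h2)).symm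
      intro a ha
      obtain ⟨m, hm⟩ := (Finite.injective_iff_surjective.1 hinj) ⟨a, ha⟩
      have hm' : (m : G)⁻¹ * (b * m * b⁻¹) = a := congrArg Subtype.val hm
      have hbi : b⁻¹ = b := inv_eq_of_mul_eq_one_left hbb
      rw [← hm']
      calc b * ((m : G)⁻¹ * (b * m * b⁻¹)) * b⁻¹ = b * (m : G)⁻¹ * b * m * (b * b)⁻¹ := by group
        _ = b * (m : G)⁻¹ * b⁻¹ * m := by rw [hbb, hbi, inv_one, mul_one]
        _ = ((m : G)⁻¹ * (b * m * b⁻¹))⁻¹ := by group
    refine (eq_bot_iff_forall _).2 fun k hk => hfzu k hk (mul_inv_eq_iff_eq_mul.1 ?_)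
    calc z * u * k * (z * u)⁻¹ = z * (u * k * u⁻¹) * z⁻¹ := by group
      _ = k := by rw [hinv u huQ huu hfu k hk, hinv z h.z_mem hzz hfz _ (inv_mem hk), inv_inv]
  refine ⟨?_, hlarge⟩
  haveI : Nontrivial G := nontrivial_iff.2 ⟨z, 1, hz1⟩
  refine ⟨fun M hM => ?_⟩
  by_cases hbot : M = ⊥
  · exact .inl hbot
  refine .inr ?_
  haveI := hM
  have hzM : z ∈ M := by
    by_contra hzM
    have hQM : ∀ y ∈ Q, y ∈ M → y = 1 := by
      intro y hy hyM
      by_contra hy1
      by_cases hyz : y = z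
      · exact hzM (hyz ▸ hyM)
      obtain ⟨q, hq, hqy⟩ := h.exists_noncomm hy ⟨hy1, hyz⟩
      have e := (h.comm_cases hq hy).resolve_left fun e =>
        hqy (by rwa [mul_inv_eq_one, mul_inv_eq_iff_eq_mul] at e)
      exact hzM (e ▸ mul_mem (hM.conj_mem y hyM q) (inv_mem hyM))
    have hfix : ∀ m ∈ M, m * z = z * m → m = 1 := by
      intro m hm hmz
      have hmN := h.normal (mem_centralizer_singleton_iff.2 hmz)
      have hmQ : m ∈ centralizer (Q : Set G) := by
        rw [mem_centralizer_iff]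
        intro y hy
        have h1 := hQM (y * m * y⁻¹ * m⁻¹)
          (by
            rw [show y * m * y⁻¹ * m⁻¹ = y * (m * y⁻¹ * m⁻¹) by group]
            exact mul_mem hy ((mem_normalizer_iff.1 hmN _).1 (inv_mem hy)))
          (mul_mem (hM.conj_mem m hm y) (inv_mem hm))
        rwa [mul_inv_eq_one, mul_inv_eq_iff_eq_mul] at h1
      rw [h.self, h.centre] at hmQ
      rcases zpowers_two_cases h.ord m hmQ with e | e
      exacts [e, absurd (e ▸ hm) hzM]
    have hinv := inverts_of_no_fixed hzz hfix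
    have hodd : Odd (Nat.card M) := by
      haveI : Fact (Nat.Prime 2) := ⟨Nat.prime_two⟩
      rw [← Nat.not_even_iff_odd]
      intro hev
      obtain ⟨m, hm⟩ := exists_prime_orderOf_dvd_card' 2 (even_iff_two_dvd.1 hev)
      have hmm : (m : G) * m = 1 := by
        have := pow_orderOf_eq_one m
        rw [hm, sq] at this
        exact congrArg Subtype.val this
      have := hinv m m.2
      rw [inv_eq_of_mul_eq_one_left hmm, mul_inv_eq_iff_eq_mul] at this
      have h1 : m = 1 := Subtype.ext (hfix m m.2 this.symm)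
      rw [h1, orderOf_one] at hm
      omega
    exact hbot (hlarge.2.2.2 M hodd (by rw [normalizer_eq_top]; exact le_top))
  refine h.eq_top_of_centralizer_le ?_
  rw [← hgen, closure_le]
  rintro _ ⟨c, -, u, hu, rfl⟩
  refine hM.conj_mem u ?_ c
  rw [hU] at hu
  exact (closure_le M).2 (by rintro _ ⟨k, -, rfl⟩; exact hM.conj_mem z hzM k) hu

end CfsgLib.LargeExtra.FData
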