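import Mathlib
import Cfsg.Agent.Lib.LargeExtra.Sections
import Cfsg.Agent.Lib.LargeExtra.SimplicityCriterion
import Cfsg.Agent.Lib.Cores.Layer
import Cfsg.Agent.Lib.Transfer.Critical

/-!
The structure of a finite group with a large extraspecial 2-subgroup.
-/

namespace CfsgLib.LargeExtra

set_option linter.style.haveILetI false
set_option linter.unusedSectionVars false

open Subgroup Cfsg

variable {G : Type*} [Group G] [Finite G]

omit [Finite G] in
theorem map_conj_conj (L : Subgroup G) (a b : G) :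
    (L.map (MulAut.conj a).toMonoidHom).map (MulAut.conj b).toMonoidHom =
      L.map (MulAut.conj (b * a)).toMonoidHom := by
  rw [map_map]; congr 1; ext x; simp [mul_assoc]

omit [Finite G] in
theorem map_conj_of_normalizer {L : Subgroup G} {g : G} (hg : g ∈ normalizer (L : Set G)) :
    L.map (MulAut.conj g).toMonoidHom = L := by
  ext x
  simp only [mem_map_equiv, MulAut.conj_symm_apply]
  have := mem_normalizer_iff.1 (inv_mem hg) x
  simpa using this.symm

/-- A nonabelian simple group has no Sylow 2-subgroup of order 2. -/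
theorem false_of_sylow_two {L : Type*} [Group L] [Finite L] [IsSimpleGroup L]
    (hna : ¬ IsMulCommutative L) (S : Sylow 2 L) (hS : Nat.card (S : Subgroup L) = 2) : False := by
  haveI : Fact (Nat.Prime 2) := ⟨Nat.prime_two⟩
  have hcases : ∀ a b : (S : Subgroup L), a ≠ 1 → b ≠ 1 → a = b := by
    intro a b ha hb
    obtain ⟨u, v, -, huniv⟩ := Nat.card_eq_two_iff.1 hS
    have h1 := Set.eq_univ_iff_forall.1 huniv a
    have h2 := Set.eq_univ_iff_forall.1 huniv b
    have h3 := Set.eq_univ_iff_forall.1 huniv 1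
    simp only [Set.mem_insert_iff, Set.mem_singleton_iff] at h1 h2 h3
    grind
  have hNC : normalizer (S : Set L) ≤ centralizer (S : Set L) := by
    intro g hg
    rw [mem_centralizer_iff]
    intro y hy
    by_cases hy1 : y = 1
    · simp [hy1]
    have hy' := (mem_normalizer_iff.1 hg y).1 hy
    have e := congrArg Subtype.val (hcases ⟨g * y * g⁻¹, hy'⟩ ⟨y, hy⟩
      (fun e => hy1 (conj_eq_one_iff.1 (congrArg Subtype.val e)))
      (fun e => hy1 (congrArg Subtype.val e)))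
    exact (mul_inv_eq_iff_eq_mul.1 e).symm
  have hC := MonoidHom.ker_transferSylow_isComplement' S hNC
  rcases (IsSimpleGroup.eq_bot_or_eq_top_of_normal _ (inferInstance :
      (MonoidHom.transferSylow S hNC).ker.Normal)) with e | e <;> rw [e] at hC
  · rw [isComplement'_bot_left] at hC
    refine hna ⟨⟨fun a b => ?_⟩⟩
    have hab : ∀ x : L, x ∈ (S : Subgroup L) := fun x => hC ▸ mem_top x
    by_cases ha : a = 1
    · simp [ha]
    by_cases hb : b = 1
    · simp [hb]
    obtain rfl : a = b := congrArg Subtype.val (hcases ⟨a, hab a⟩ ⟨b, hab b⟩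
      (fun e => ha (congrArg Subtype.val e)) (fun e => hb (congrArg Subtype.val e)))
    rfl
  · rw [isComplement'_top_left] at hC
    rw [hC, card_bot] at hS
    omega

/-- A nonabelian simple group has no self-centralizing involution. -/
theorem false_of_selfcentralizing_involution {L : Type*} [Group L] [Finite L] [IsSimpleGroup L]
    (hna : ¬ IsMulCommutative L) {c : L} (hc1 : c ≠ 1) (hcc : c * c = 1)
    (hC : ∀ d, d * c = c * d → d = 1 ∨ d = c) : False := by
  haveI : Fact (Nat.Prime 2) := ⟨Nat.prime_two⟩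
  have hp : IsPGroup 2 (zpowers c) := IsPGroup.of_card (n := 1) (by
    rw [Nat.card_zpowers, pow_one]; exact orderOf_eq_prime (by rw [sq, hcc]) hc1)
  obtain ⟨S, hS⟩ := hp.exists_le_sylow
  have hcS : c ∈ (S : Subgroup L) := hS (mem_zpowers c)
  haveI : Nontrivial (S : Subgroup L) := ⟨⟨⟨c, hcS⟩, 1, fun e => hc1 (congrArg Subtype.val e)⟩⟩
  haveI := S.2.center_nontrivial
  obtain ⟨w, hw⟩ := exists_ne (1 : center (S : Subgroup L))
  have hwc := mem_center_iff.1 w.2
  have e : ((w : (S : Subgroup L)) : L) = c := (hC _ (congrArg Subtype.val (hwc ⟨c, hcS⟩)).symm).resolve_left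
    fun e => hw (Subtype.ext (Subtype.ext e))
  refine false_of_sylow_two hna S ?_
  have heq : (S : Subgroup L) = zpowers c := by
    refine le_antisymm (fun y hy => ?_) hS
    have h1 := congrArg Subtype.val (hwc ⟨y, hy⟩)
    simp only [coe_mul, e] at h1
    rcases hC y h1 with e | e <;> rw [e]
    exacts [one_mem _, mem_zpowers c]
  rw [heq, Nat.card_zpowers]
  exact orderOf_eq_prime (by rw [sq, hcc]) hc1

/-- An involution normalizing a nonabelian subgroup centralizes a nontrivial element of it. -/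
theorem exists_ne_one_fixed {L : Subgroup G} (hna : ¬ IsMulCommutative L) {z : G} (hzz : z * z = 1)
    (hzn : z ∈ normalizer (L : Set G)) : ∃ a ∈ L, a ≠ 1 ∧ a * z = z * a := by
  by_contra! hall
  obtain ⟨N, hN⟩ : ∃ N, N = normalizer (L : Set G) := ⟨_, rfl⟩
  haveI : (L.subgroupOf N).Normal := by
    rw [hN]; exact normal_subgroupOf_of_le_normalizer le_rfl
  have hLN : L ≤ N := hN ▸ le_normalizer
  have hinv := inverts_of_no_fixed (z := (⟨z, hN ▸ hzn⟩ : N)) (Subtype.ext hzz)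
    (M := L.subgroupOf N) (fun m hm e => by
      by_contra hm1
      exact hall m hm (fun e => hm1 (Subtype.ext e)) (congrArg Subtype.val e))
  have hinv' : ∀ a ∈ L, z * a * z⁻¹ = a⁻¹ := fun a ha =>
    congrArg Subtype.val (hinv ⟨a, hLN ha⟩ ha)
  refine hna ⟨⟨fun a b => Subtype.ext (inv_injective ?_)⟩⟩
  show ((a : G) * b)⁻¹ = ((b : G) * a)⁻¹
  rw [← hinv' _ (mul_mem a.2 b.2), mul_inv_rev, ← hinv' a a.2, ← hinv' b b.2]
  group

/-- The data of a large extraspecial subgroup. -/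
theorem fData_of_large {Q : Subgroup G} (hQ : IsLargeExtraspecial Q) {z : G}
    (hz : (center Q).map Q.subtype = zpowers z) : FData Q z := by
  obtain ⟨hE, hself, hN, -⟩ := hQ
  refine ⟨hE, ?_, hz, hself, ?_, ?_⟩
  · have := hE.2
    rwa [← card_map_of_injective Q.subtype_injective, hz, Nat.card_zpowers] at this
  · rw [hz, centralizer_zpowers] at hN; exact hN
  · intro q hq
    obtain ⟨⟨w, hwQ⟩, hw, e⟩ : z ∈ (center Q).map Q.subtype := hz ▸ mem_zpowers z
    exact mem_centralizer_singleton_iff.2 (e ▸ congrArg Subtype.val (mem_center_iff.1 hw ⟨q, hq⟩))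

namespace FData

variable {Q : Subgroup G} {z : G} (h : FData Q z)

include h

theorem z_ne_one : z ≠ 1 := fun e => by have := h.ord; rw [e, orderOf_one] at this; omega

theorem eq_z_of_centralizes {c : G} (hc : ∀ q ∈ Q, q * c = c * q) (hc1 : c ≠ 1) : c = z := by
  have : c ∈ centralizer (Q : Set G) := mem_centralizer_iff.2 hc
  rw [h.self, h.centre] at this
  exact (zpowers_two_cases h.ord c this).resolve_left hc1

/-- A nontrivial subgroup normalized by a large extraspecial subgroup contains its centre. -/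
theorem mem_of_normalized (hodd : ∀ K : Subgroup G, Odd (Nat.card K) → Q ≤ normalizer (K : Set G) → K = ⊥)
    {N : Subgroup G} (hN : N ≠ ⊥) (hQN : Q ≤ normalizer (N : Set G)) : z ∈ N := by
  haveI : Fact (Nat.Prime 2) := ⟨Nat.prime_two⟩
  have hev : 2 ∣ Nat.card N := by
    rw [← even_iff_two_dvd, ← Nat.not_odd_iff_even]
    exact fun ho => hN (hodd N ho hQN)
  letI : MulAction Q N :=
    MulAction.compHom N ((normalizerMonoidHom N).comp (inclusion hQN))
  have key : ∀ (q : Q) (m : N), ((q • m : N) : G) = q * m * (q : G)⁻¹ := fun _ _ => rfl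
  have h1 : (1 : N) ∈ MulAction.fixedPoints Q N := fun q => Subtype.ext (by rw [key]; simp)
  obtain ⟨b, hb, hb1⟩ := h.extra.1.1.exists_fixed_point_of_prime_dvd_card_of_fixed_point N hev h1
  have hbz : (b : G) = z := h.eq_z_of_centralizes (fun q hq => by
    have e := congrArg Subtype.val (hb ⟨q, hq⟩)
    rw [key] at e
    exact mul_inv_eq_iff_eq_mul.1 e) (fun e => hb1 (Subtype.ext e.symm))
  exact hbz ▸ b.2

/-- The case of a nontrivial Fitting subgroup. -/
theorem fitting_case (hodd : ∀ K : Subgroup G, Odd (Nat.card K) → Q ≤ normalizer (K : Set G) → K = ⊥)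
    (hF : fittingSubgroup G ≠ ⊥) :
    IsMulCommutative ↥(normalClosure ({z} : Set G)) ∧ generalizedFittingSubgroup G = pCore 2 G := by
  haveI : Fact (Nat.Prime 2) := ⟨Nat.prime_two⟩
  have hnormal : ∀ p, (pCore p G).Normal := fun p => by
    haveI := CfsgLib.Cores.pCore_characteristic (G := G) p; infer_instance
  have hoddcore : ∀ p : ℕ, p.Prime → p ≠ 2 → pCore p G = ⊥ := by
    intro p hp hp2
    haveI : Fact p.Prime := ⟨hp⟩
    obtain ⟨n, hn⟩ := CfsgLib.Cores.card_pCore_eq_pow (G := G) p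
    haveI := hnormal p
    exact hodd _ (hn ▸ (hp.odd_of_ne_two hp2).pow) (by rw [normalizer_eq_top]; exact le_top)
  have hFP : fittingSubgroup G = pCore 2 G := by
    refine le_antisymm ?_ (CfsgLib.Cores.pCore_le_fittingSubgroup 2)
    rw [CfsgLib.Cores.fittingSubgroup_eq_iSup_pCore, iSup_le_iff]
    intro p
    by_cases hp2 : (p : ℕ) = 2
    · rw [hp2]
    · rw [hoddcore p (Nat.prime_of_mem_primeFactors p.2) hp2]; exact bot_le
  obtain ⟨P, hP⟩ : ∃ P, P = pCore 2 G := ⟨_, rfl⟩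
  haveI : P.Normal := hP ▸ hnormal 2
  have hPp : IsPGroup 2 P := hP ▸ CfsgLib.Cores.isPGroup_pCore 2
  have hPne : P ≠ ⊥ := hP ▸ hFP ▸ hF
  have hzP : z ∈ P := h.mem_of_normalized hodd hPne (by rw [normalizer_eq_top]; exact le_top)
  have hU : IsPGroup 2 ↥(P ⊔ Q) := hPp.to_sup_of_normal_left h.extra.1.1
  haveI : Nontrivial ↥(P ⊔ Q) :=
    ⟨⟨⟨z, mem_sup_left hzP⟩, 1, fun e => h.z_ne_one (congrArg Subtype.val e)⟩⟩
  haveI := hU.center_nontrivial
  obtain ⟨w, hw⟩ := exists_ne (1 : center ↥(P ⊔ Q))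
  have hwc := mem_center_iff.1 w.2
  have hwz : ((w : ↥(P ⊔ Q)) : G) = z :=
    h.eq_z_of_centralizes (fun q hq => congrArg Subtype.val (hwc ⟨q, mem_sup_right hq⟩))
      (fun e => hw (Subtype.ext (Subtype.ext e)))
  have hzC : z ∈ centralizer (P : Set G) := mem_centralizer_iff.2 fun y hy => by
    have := congrArg Subtype.val (hwc ⟨y, mem_sup_left hy⟩)
    simp only [coe_mul, hwz] at this
    exact this
  have hMP : normalClosure ({z} : Set G) ≤ P := normalClosure_le_normal (by simpa using hzP)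
  have hMC : normalClosure ({z} : Set G) ≤ centralizer (P : Set G) :=
    normalClosure_le_normal (by simpa using hzC)
  refine ⟨⟨⟨fun a b => Subtype.ext (mem_centralizer_iff.1 (hMC b.2) a (hMP a.2))⟩⟩, ?_⟩
  have hlay : layer G = ⊥ := by
    refine eq_bot_iff.2 (CfsgLib.Cores.layer_le_iff.2 fun L hL => ?_)
    exfalso
    haveI : Group.IsNilpotent Q := h.extra.1.1.isNilpotent
    have hLF := commutator_eq_bot_iff_le_centralizer.1
      (CfsgLib.Cores.component_commutator_fittingSubgroup hL)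
    have hLz : L ≤ centralizer ({z} : Set G) := fun a ha => mem_centralizer_singleton_iff.2
      (mem_centralizer_iff.1 (hLF ha) z (by rw [hFP, ← hP]; exact hzP)).symm
    have hLQ := commutator_eq_bot_iff_le_centralizer.1
      (CfsgLib.Cores.component_commutator_solvable hL (inferInstance : Group.IsSolvable Q)
        (hLz.trans h.normal))
    rw [h.self] at hLQ
    exact CfsgLib.Cores.component_not_le_of_isSolvable hL (inferInstance : Group.IsSolvable Q)
      (hLQ.trans (map_subtype_le _))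
  rw [generalizedFittingSubgroup, hlay, bot_sup_eq, hFP]

/-- The case of a trivial Fitting subgroup. -/
theorem semisimple_case (hodd : ∀ K : Subgroup G, Odd (Nat.card K) → Q ≤ normalizer (K : Set G) → K = ⊥)
    (hF : fittingSubgroup G = ⊥) :
    normalClosure ({z} : Set G) = generalizedFittingSubgroup G ∧
    ∃ L : Subgroup G, IsSimpleGroup L ∧ ¬ IsMulCommutative L ∧
      (L = generalizedFittingSubgroup G ∨ ∃ u ∈ Q,
        L ⊓ L.map (MulAut.conj u).toMonoidHom = ⊥ ∧
        (∀ x ∈ L, ∀ y ∈ L.map (MulAut.conj u).toMonoidHom, x * y = y * x) ∧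
        L ⊔ L.map (MulAut.conj u).toMonoidHom = normalClosure ({z} : Set G) ∧
        ∃ z₁ ∈ L, z = z₁ * (u * z₁ * u⁻¹) ∧
          (∃ R : Sylow 2 ↥L, (R : Subgroup ↥L) = (centralizer ({z₁} : Set G)).subgroupOf L ∧
            (frattini ↥(R : Subgroup ↥L)).map ((L.subtype).comp (R : Subgroup ↥L).subtype) ≤
              zpowers z₁) ∧
          Q ≠ (pCore 2 ↥(centralizer ({z} : Set G))).map (centralizer ({z} : Set G)).subtype) := by
  haveI : Fact (Nat.Prime 2) := ⟨Nat.prime_two⟩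
  have hz1 := h.z_ne_one
  have hzz : z * z = 1 := by rw [← sq, ← h.ord, pow_orderOf_eq_one]
  haveI : Nontrivial G := ⟨⟨z, 1, hz1⟩⟩
  have hFstar : generalizedFittingSubgroup G = layer G := by
    rw [generalizedFittingSubgroup, hF, sup_bot_eq]
  haveI : (layer G).Normal := CfsgLib.Cores.layer_normal
  have hE : layer G ≠ ⊥ := hFstar ▸ CfsgLib.Cores.generalizedFittingSubgroup_ne_bot
  -- components are simple with trivial centre and the layer has trivial centralizer
  have hcenE : layer G ⊓ centralizer (layer G : Set G) = ⊥ := by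
    rw [← CfsgLib.Cores.map_center_eq_inf_centralizer, CfsgLib.Cores.center_layer_eq, hF, bot_inf_eq]
  have hCE : centralizer (layer G : Set G) = ⊥ := by
    refine eq_bot_iff.2 fun x hx => ?_
    rw [← hcenE]
    have := CfsgLib.Cores.centralizer_generalizedFittingSubgroup_le (G := G)
    rw [hFstar] at this
    exact ⟨this hx, hx⟩
  have hcen : ∀ {K : Subgroup G}, IsComponent K → ∀ x ∈ K, (∀ a ∈ K, a * x = x * a) → x = 1 := by
    intro K hK x hx hxa
    have := CfsgLib.Cores.componentCenters_le_center_layer hK ⟨hx, mem_centralizer_iff.2 hxa⟩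
    rwa [hcenE] at this
  have hsimple : ∀ {K : Subgroup G}, IsComponent K → IsSimpleGroup K ∧ ¬ IsMulCommutative K := by
    intro K hK
    have hc : center K = ⊥ := eq_bot_iff.2 fun x hx => Subtype.ext (hcen hK x x.2 fun a ha =>
      congrArg Subtype.val (mem_center_iff.1 hx ⟨a, ha⟩))
    refine ⟨?_, fun hab => CfsgLib.Cores.not_isSolvable_of_isQuasisimple hK.2
      (Group.isSolvable_of_comm fun a b => hab.1.comm a b)⟩
    haveI := hK.2.2
    haveI := CfsgLib.Cores.isQuasisimple_nontrivial hK.2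
    let e := ((QuotientGroup.quotientMulEquivOfEq hc).trans (QuotientGroup.quotientBot (G := K)))
    exact IsSimpleGroup.isSimpleGroup_of_surjective e.toMonoidHom e.surjective
  have hcomm : ∀ {K K' : Subgroup G}, IsComponent K → IsComponent K' → K ≠ K' →
      ∀ x ∈ K, ∀ y ∈ K', x * y = y * x := fun hK hK' hne x hx y hy =>
    (mem_centralizer_iff.1 (commutator_eq_bot_iff_le_centralizer.1
      (CfsgLib.Cores.commutator_components_eq_bot hK hK' hne) hx) y hy).symm
  have hconj : ∀ {K : Subgroup G}, IsComponent K → ∀ g : G, IsComponent (K.map (MulAut.conj g).toMonoidHom) :=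
    fun hK g => CfsgLib.Cores.isComponent_map_equiv (MulAut.conj g) hK
  have hmem : ∀ (K : Subgroup G) (g x : G), x ∈ K → g * x * g⁻¹ ∈ K.map (MulAut.conj g).toMonoidHom :=
    fun K g x hx => ⟨x, hx, rfl⟩
  have hinj : ∀ {K K' : Subgroup G} (g : G),
      K.map (MulAut.conj g).toMonoidHom = K'.map (MulAut.conj g).toMonoidHom → K = K' :=
    fun g e => map_injective (MulAut.conj g).injective e
  have hzE : z ∈ layer G := h.mem_of_normalized hodd hE (by rw [normalizer_eq_top]; exact le_top)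
  have hzN : ∀ {K : Subgroup G}, IsComponent K → z ∈ normalizer (K : Set G) := fun hK =>
    CfsgLib.Cores.layer_le_iff.2 (fun L hL => CfsgLib.Cores.component_le_normalizer_component hL hK) hzE
  -- one orbit of components
  have hone : ∀ K K' : Subgroup G, IsComponent K → IsComponent K' →
      (∀ q ∈ Q, K.map (MulAut.conj q).toMonoidHom ≠ K') → ∀ a ∈ K', a * z = z * a := by
    intro K K' hK hK' hne a ha
    obtain ⟨N, hN⟩ : ∃ N : Subgroup G, N = sSup {J | ∃ q ∈ Q, J = K.map (MulAut.conj q).toMonoidHom} :=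
      ⟨_, rfl⟩
    have hNK : N ≤ centralizer (K' : Set G) := by
      rw [hN, sSup_le_iff]
      rintro _ ⟨q, hq, rfl⟩ x hx
      exact mem_centralizer_iff.2 fun y hy => (hcomm (hconj hK q) hK' (hne q hq) x hx y hy).symm
    have hstab : ∀ r ∈ Q, N.map (MulAut.conj r).toMonoidHom ≤ N := by
      intro r hr
      rw [map_le_iff_le_comap, hN, sSup_le_iff]
      rintro _ ⟨q, hq, rfl⟩
      rw [← map_le_iff_le_comap, map_conj_conj]
      exact le_sSup ⟨r * q, mul_mem hr hq, rfl⟩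
    have hQN : Q ≤ normalizer (N : Set G) := fun r hr => mem_normalizer_iff.2 fun x =>
      ⟨fun hx => hstab r hr (hmem N r x hx), fun hx => by
        simpa [mul_assoc] using hstab r⁻¹ (inv_mem hr) (hmem N r⁻¹ _ hx)⟩
    have hKN : K ≤ N := by
      rw [hN]
      exact le_sSup ⟨1, one_mem _, (map_conj_of_normalizer (one_mem _)).symm⟩
    have hzN' := h.mem_of_normalized hodd
      (fun e => CfsgLib.Cores.component_ne_bot hK (le_bot_iff.1 (e ▸ hKN))) hQN
    exact mem_centralizer_iff.1 (hNK hzN') a ha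
  have hcentr : (∀ K : Subgroup G, IsComponent K → ∀ a ∈ K, a * z = z * a) → False := by
    intro hall
    have : z ∈ centralizer (layer G : Set G) := le_centralizer_iff.1
      (CfsgLib.Cores.layer_le_iff.2 fun K hK a ha => mem_centralizer_iff.2 fun y hy => by
        obtain ⟨k, rfl⟩ := mem_zpowers_iff.1 hy
        exact (Commute.zpow_right (hall K hK a ha) k).eq.symm) (mem_zpowers z)
    rw [hCE] at this
    exact hz1 this
  obtain ⟨L, hL⟩ : ∃ L : Subgroup G, IsComponent L := by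
    by_contra! hno
    exact hE (le_bot_iff.1 (CfsgLib.Cores.layer_le_iff.2 fun K hK => absurd hK (hno K)))
  have horbit : ∀ K, IsComponent K → ∃ q ∈ Q, L.map (MulAut.conj q).toMonoidHom = K := by
    intro K hK
    by_contra! hne
    refine hcentr fun J hJ => ?_
    by_cases hJL : ∃ q ∈ Q, L.map (MulAut.conj q).toMonoidHom = J
    · obtain ⟨r, hr, rfl⟩ := hJL
      refine hone K _ hK hJ fun q hq e => hne (q⁻¹ * r) (mul_mem (inv_mem hq) hr) ?_
      rw [← map_conj_conj, ← e, map_conj_conj, inv_mul_cancel, map_conj_of_normalizer (one_mem _)]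
    · push Not at hJL
      exact hone L J hL hJ hJL
  have hnc : ∀ {K : Subgroup G}, IsComponent K → ¬ ∀ a ∈ K, a * z = z * a := by
    intro K hK hall
    refine hcentr fun J hJ a ha => ?_
    obtain ⟨q, hq, e⟩ := horbit K hK
    obtain ⟨r, hr, e'⟩ := horbit J hJ
    rw [← e', show r = r * q⁻¹ * q by group, ← map_conj_conj, e] at ha
    obtain ⟨b, hb, rfl⟩ := ha
    have hzr : Commute z (r * q⁻¹) := (h.z_comm (mul_mem hr (inv_mem hq))).symm
    show r * q⁻¹ * b * (r * q⁻¹)⁻¹ * z = z * (r * q⁻¹ * b * (r * q⁻¹)⁻¹)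
    have hcb : Commute z b := (hall b hb).symm
    exact (((hzr.mul_right hcb).mul_right hzr.inv_right)).eq.symm
  have hM : normalClosure ({z} : Set G) = generalizedFittingSubgroup G := by
    rw [hFstar]
    refine le_antisymm (normalClosure_le_normal (by simpa using hzE)) (CfsgLib.Cores.layer_le_iff.2 ?_)
    intro K hK
    refine (CfsgLib.Cores.component_le_or_commutator_eq_bot hK
      (normalClosure_normal (s := ({z} : Set G))).isSubnormal).resolve_right fun e => hnc hK fun a ha => ?_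
    exact (mem_centralizer_iff.1 (commutator_eq_bot_iff_le_centralizer.1 e ha) z
      (subset_normalClosure (Set.mem_singleton z))).symm
  refine ⟨hM, L, (hsimple hL).1, (hsimple hL).2, ?_⟩
  haveI := (hsimple hL).1
  by_cases hfixQ : ∀ q ∈ Q, L.map (MulAut.conj q).toMonoidHom = L
  · left
    rw [hFstar]
    refine le_antisymm (CfsgLib.Cores.component_le_layer hL) (CfsgLib.Cores.layer_le_iff.2 fun K hK => ?_)
    obtain ⟨q, hq, rfl⟩ := horbit K hK
    rw [hfixQ q hq]
  right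
  push Not at hfixQ
  obtain ⟨u, hu, huL⟩ := hfixQ
  refine ⟨u, hu, ?_⟩
  -- the action of `Q` on the components
  have hzfix : ∀ {K : Subgroup G}, IsComponent K → ∀ x ∈ zpowers z,
      K.map (MulAut.conj x).toMonoidHom = K :=
    fun hK x hx => map_conj_of_normalizer (zpowers_le.2 (hzN hK) hx)
  have hsqm : ∀ {a : G}, a ∈ Q → a * a ∈ zpowers z := fun ha => by
    rcases h.sq_cases ha with e | e <;> rw [e]
    exacts [one_mem _, mem_zpowers z]
  have hflip : ∀ {K : Subgroup G}, IsComponent K → ∀ v ∈ Q,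
      K.map (MulAut.conj v⁻¹).toMonoidHom = K.map (MulAut.conj v).toMonoidHom := by
    intro K hK v hv
    have := hzfix (hconj hK v⁻¹) _ (hsqm hv)
    rw [map_conj_conj, show v * v * v⁻¹ = v by group] at this
    exact this.symm
  obtain ⟨L', hL'⟩ : ∃ L', L' = L.map (MulAut.conj u).toMonoidHom := ⟨_, rfl⟩
  have hL'c : IsComponent L' := hL' ▸ hconj hL u
  have hne : L ≠ L' := fun e => huL (hL' ▸ e.symm)
  rw [← hL'] at huL
  have hinter : ∀ x ∈ L, x ∈ L' → x = 1 := fun x hx hx' =>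
    hcen hL x hx fun a ha => hcomm hL hL'c hne a ha x hx'
  have huniq : ∀ a ∈ L, ∀ b ∈ L', ∀ a' ∈ L, ∀ b' ∈ L', a * b = a' * b' → a = a' ∧ b = b' := by
    intro a ha b hb a' ha' b' hb' e
    have e1 : a'⁻¹ * a = b' * b⁻¹ := by
      calc a'⁻¹ * a = a'⁻¹ * (a * b) * b⁻¹ := by group
        _ = b' * b⁻¹ := by rw [e]; group
    have e2 := hinter _ (mul_mem (inv_mem ha') ha) (e1 ▸ mul_mem hb' (inv_mem hb))
    exact ⟨(inv_mul_eq_one.1 e2).symm, (mul_inv_eq_one.1 (e1 ▸ e2)).symm⟩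
  have hu' : ∀ x ∈ L, u * x * u⁻¹ ∈ L' := fun x hx => hL' ▸ hmem L u x hx
  have hLu : L'.map (MulAut.conj u).toMonoidHom = L := by
    rw [hL', map_conj_conj, hzfix hL _ (hsqm hu)]
  -- commutators with `u`
  have hcN : ∀ c : G, c * z = z * c → c * u * c⁻¹ * u⁻¹ ∈ Q := fun c hc =>
    mul_mem ((mem_normalizer_iff.1 (h.normal (mem_centralizer_singleton_iff.2 hc)) u).1 hu) (inv_mem hu)
  have hall : ∀ K, IsComponent K → K = L ∨ K = L' := by
    intro K hK
    by_contra! hK'
    obtain ⟨v, hv, hvK⟩ := horbit K hK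
    obtain ⟨M', hM'⟩ : ∃ M', M' = L.map (MulAut.conj (v * u)).toMonoidHom := ⟨_, rfl⟩
    have hM'c : IsComponent M' := hM' ▸ hconj hL _
    have hM'K : M' ≠ K := fun e => huL (hinj v (by rw [hvK, hL', map_conj_conj, ← hM', e]))
    have hM'L : M' ≠ L := fun e => hK'.2 (hinj v (by
      conv_rhs => rw [hL', map_conj_conj, ← hM', e]
      rw [← hvK, map_conj_conj, hzfix hL _ (hsqm hv)]))
    have hdich : ∀ c ∈ L, c * z = z * c → c = 1 ∨ ∀ a ∈ L, z * a * z⁻¹ = c * a * c⁻¹ := by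
      intro c hc hcz
      have hd1 : u * c⁻¹ * u⁻¹ ∈ L' := hu' _ (inv_mem hc)
      have hd2 : v * u * c * (v * u)⁻¹ ∈ M' := hM' ▸ hmem L _ c hc
      have hd3 : v * c⁻¹ * v⁻¹ ∈ K := hvK ▸ hmem L v _ (inv_mem hc)
      rcases h.comm_cases (hcN c hcz) hv with e | e
      · left
        refine inv_eq_one.1 (conj_eq_one_iff.1 (hcen hK _ hd3 fun b hb => ?_) : c⁻¹ = 1)
        have e' : v * c⁻¹ * v⁻¹ =
            (v * u * c * (v * u)⁻¹)⁻¹ * ((u * c⁻¹ * u⁻¹)⁻¹ * c⁻¹) := by
          calc v * c⁻¹ * v⁻¹ = (v * u * c * (v * u)⁻¹)⁻¹ * ((u * c⁻¹ * u⁻¹)⁻¹ * c⁻¹) *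
                (c * u * c⁻¹ * u⁻¹ * v * (c * u * c⁻¹ * u⁻¹)⁻¹ * v⁻¹) := by group
            _ = _ := by rw [e, mul_one]
        rw [e']
        exact (Commute.mul_right (Commute.inv_right (hcomm hK hM'c hM'K.symm b hb _ hd2))
          (Commute.mul_right (Commute.inv_right (hcomm hK hL'c hK'.2 b hb _ hd1))
            (Commute.inv_right (hcomm hK hL hK'.1 b hb _ hc)))).eq
      · right
        intro a ha
        have hw : Commute a (u * c⁻¹ * u⁻¹ * (v * u * c * (v * u)⁻¹) * (v * c⁻¹ * v⁻¹)) :=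
          ((show Commute a _ from hcomm hL hL'c hne a ha _ hd1).mul_right
            (hcomm hL hM'c hM'L.symm a ha _ hd2)).mul_right (hcomm hL hK hK'.1.symm a ha _ hd3)
        have e' : z = c * (u * c⁻¹ * u⁻¹ * (v * u * c * (v * u)⁻¹) * (v * c⁻¹ * v⁻¹)) := by
          rw [← e]; group
        obtain ⟨W, hWd⟩ : ∃ W, W = u * c⁻¹ * u⁻¹ * (v * u * c * (v * u)⁻¹) * (v * c⁻¹ * v⁻¹) :=
          ⟨_, rfl⟩
        rw [← hWd] at e' hw
        rw [e', mul_inv_rev]
        calc c * W * a * (W⁻¹ * c⁻¹) = c * (W * a) * W⁻¹ * c⁻¹ := by group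
          _ = c * a * c⁻¹ := by rw [← hw.eq]; group
    obtain ⟨c, hc, hc1, hcz⟩ := exists_ne_one_fixed (hsimple hL).2 hzz (hzN hL)
    have hcc := (hdich c hc hcz).resolve_left hc1
    have huq : ∀ d ∈ L, d * z = z * d → d = 1 ∨ d = c := by
      intro d hd hdz
      refine (hdich d hd hdz).imp id fun hdd => ?_
      have := hcen hL (c⁻¹ * d) (mul_mem (inv_mem hc) hd) fun a ha => by
        calc a * (c⁻¹ * d) = c⁻¹ * (c * a * c⁻¹) * d := by group
          _ = c⁻¹ * (d * a * d⁻¹) * d := by rw [← hcc a ha, hdd a ha]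
          _ = c⁻¹ * d * a := by group
      exact (inv_mul_eq_one.1 this).symm
    have hccz : c * c * z = z * (c * c) := ((show Commute c z from hcz).mul_left hcz).eq
    refine false_of_selfcentralizing_involution (hsimple hL).2 (c := (⟨c, hc⟩ : L))
      (fun e => hc1 (congrArg Subtype.val e))
      (Subtype.ext ((huq _ (mul_mem hc hc) hccz).resolve_right fun e => hc1 (mul_eq_right.1 e)))
      fun d hd => ?_
    have hd' : (d : G) * c = c * d := congrArg Subtype.val hd
    have hdz : (d : G) * z = z * d := by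
      have := hcc d d.2
      rw [← hd', mul_inv_cancel_right, mul_inv_eq_iff_eq_mul] at this
      exact this.symm
    exact (huq d d.2 hdz).imp (fun e => Subtype.ext e) (fun e => Subtype.ext e)
  have hLL' : L ⊔ L' = normalClosure ({z} : Set G) := by
    rw [hM, hFstar]
    refine le_antisymm (sup_le (CfsgLib.Cores.component_le_layer hL) (CfsgLib.Cores.component_le_layer hL'c))
      (CfsgLib.Cores.layer_le_iff.2 fun K hK => ?_)
    rcases hall K hK with e | e <;> rw [e]
    exacts [le_sup_left, le_sup_right]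
  have hLE : layer G = L ⊔ L' := by rw [hLL', hM, hFstar]
  refine ⟨hL' ▸ eq_bot_iff.2 fun x hx => hinter x hx.1 hx.2, hL' ▸ hcomm hL hL'c hne, hL' ▸ hLL', ?_⟩
  have hsupmem : ∀ x ∈ L ⊔ L', ∃ a ∈ L, ∃ b ∈ L', a * b = x := by
    intro x hx
    rw [← SetLike.mem_coe, coe_mul_of_left_le_normalizer_right L L'
      (CfsgLib.Cores.component_le_normalizer_component hL hL'c), Set.mem_mul] at hx
    exact hx
  obtain ⟨z₁, hz₁, y, hy, hzy⟩ := hsupmem z (hLE ▸ hzE)
  have hy' : y = u * z₁ * u⁻¹ := by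
    have e : u * z * u⁻¹ = z := by rw [h.z_comm hu, mul_inv_cancel_right]
    have e1 : u * z₁ * u⁻¹ * (u * y * u⁻¹) = z₁ * y := by
      rw [show u * z₁ * u⁻¹ * (u * y * u⁻¹) = u * (z₁ * y) * u⁻¹ by group, hzy, e]
    have hy2 : u * y * u⁻¹ ∈ L := hLu ▸ hmem L' u y hy
    rw [← hcomm hL hL'c hne _ hy2 _ (hu' z₁ hz₁)] at e1
    exact (huniq _ hy2 _ (hu' z₁ hz₁) _ hz₁ _ hy e1).2.symm
  subst hy'
  refine ⟨z₁, hz₁, hzy.symm, ?_⟩
  have hiff : ∀ a ∈ L, a * z = z * a ↔ a * z₁ = z₁ * a := by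
    intro a ha
    have hay : a * (u * z₁ * u⁻¹) = u * z₁ * u⁻¹ * a := hcomm hL hL'c hne a ha _ hy
    generalize u * z₁ * u⁻¹ = Y at hay hzy
    rw [← hzy, ← mul_assoc, mul_assoc z₁ Y a, ← hay, ← mul_assoc]
    exact ⟨mul_right_cancel, fun e => by rw [e]⟩
  have hz₁1 : z₁ ≠ 1 := fun e => hz1 (by rw [← hzy, e]; group)
  have hz₁z₁ : z₁ * z₁ = 1 := by
    have e : z₁ * z₁ * (u * z₁ * u⁻¹ * (u * z₁ * u⁻¹)) = 1 * 1 := by
      rw [mul_one, ← hzz, ← hzy]
      have := hcomm hL hL'c hne z₁ hz₁ _ hy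
      generalize u * z₁ * u⁻¹ = Y at this
      calc z₁ * z₁ * (Y * Y) = z₁ * (z₁ * Y) * Y := by group
        _ = z₁ * (Y * z₁) * Y := by rw [this]
        _ = _ := by group
    exact (huniq _ (mul_mem hz₁ hz₁) _ (mul_mem hy hy) _ (one_mem _) _ (one_mem _) e).1
  have hsq : ∀ a ∈ L, a * z = z * a → a * a = 1 ∨ a * a = z₁ := by
    intro a ha haz
    have hd : u * a⁻¹ * u⁻¹ ∈ L' := hu' _ (inv_mem ha)
    have e1 : a * u * a⁻¹ * u⁻¹ * (a * u * a⁻¹ * u⁻¹) =
        a * a * (u * a⁻¹ * u⁻¹ * (u * a⁻¹ * u⁻¹)) := by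
      calc a * u * a⁻¹ * u⁻¹ * (a * u * a⁻¹ * u⁻¹)
          = a * (u * a⁻¹ * u⁻¹ * a) * (u * a⁻¹ * u⁻¹) := by group
        _ = _ := by rw [← hcomm hL hL'c hne a ha _ hd]; group
    rcases h.sq_cases (hcN a haz) with e | e <;> rw [e1] at e
    · exact .inl (huniq _ (mul_mem ha ha) _ (mul_mem hd hd) _ (one_mem _) _ (one_mem _)
        (by rw [e, mul_one])).1
    · exact .inr (huniq _ (mul_mem ha ha) _ (mul_mem hd hd) _ hz₁ _ hy (by rw [e, hzy])).1
  have hcom : ∀ a ∈ L, a * z = z * a → ∀ b ∈ L, b * z = z * b →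
      a * b * a⁻¹ * b⁻¹ = 1 ∨ a * b * a⁻¹ * b⁻¹ = z₁ := by
    intro a ha haz b hb hbz
    obtain ⟨d, hd, hdd⟩ : ∃ d ∈ L', d = u * a⁻¹ * u⁻¹ := ⟨_, hu' _ (inv_mem ha), rfl⟩
    obtain ⟨f, hf, hff⟩ : ∃ f ∈ L', f = u * b⁻¹ * u⁻¹ := ⟨_, hu' _ (inv_mem hb), rfl⟩
    have ha' := hcN a haz
    have hb' := hcN b hbz
    rw [show a * u * a⁻¹ * u⁻¹ = a * d by rw [hdd]; group] at ha'
    rw [show b * u * b⁻¹ * u⁻¹ = b * f by rw [hff]; group] at hb'
    have e1 : a * d * (b * f) * (a * d)⁻¹ * (b * f)⁻¹ =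
        a * b * a⁻¹ * b⁻¹ * (d * f * d⁻¹ * f⁻¹) := by
      have c1 := hcomm hL hL'c hne b hb d hd
      have c2 : Commute (a⁻¹ * b⁻¹) (d * f * d⁻¹ * f⁻¹) := hcomm hL hL'c hne _
        (mul_mem (inv_mem ha) (inv_mem hb)) _
        (mul_mem (mul_mem (mul_mem hd hf) (inv_mem hd)) (inv_mem hf))
      have c3 : Commute a⁻¹ f⁻¹ := hcomm hL hL'c hne _ (inv_mem ha) _ (inv_mem hf)
      calc a * d * (b * f) * (a * d)⁻¹ * (b * f)⁻¹
          = a * (d * b) * (f * d⁻¹ * (a⁻¹ * f⁻¹) * b⁻¹) := by group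
        _ = a * b * ((d * f * d⁻¹ * f⁻¹) * (a⁻¹ * b⁻¹)) := by rw [← c1, c3.eq]; group
        _ = _ := by rw [← c2.eq]; group
    have hdf : d * f * d⁻¹ * f⁻¹ ∈ L' := mul_mem (mul_mem (mul_mem hd hf) (inv_mem hd)) (inv_mem hf)
    have hab : a * b * a⁻¹ * b⁻¹ ∈ L := mul_mem (mul_mem (mul_mem ha hb) (inv_mem ha)) (inv_mem hb)
    rcases h.comm_cases ha' hb' with e | e <;> rw [e1] at e
    · exact .inl (huniq _ hab _ hdf _ (one_mem _) _ (one_mem _) (by rw [e, mul_one])).1
    · exact .inr (huniq _ hab _ hdf _ hz₁ _ hy (by rw [e, hzy])).1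
  have hpow4 : ∀ a ∈ L, a * z = z * a → a ^ 4 = 1 := fun a ha haz => by
    rw [show (4 : ℕ) = 2 * 2 from rfl, pow_mul, sq, sq]
    rcases hsq a ha haz with e | e <;> rw [e]
    exacts [one_mul 1, hz₁z₁]
  obtain ⟨R, hR⟩ : ∃ R, R = (centralizer ({z₁} : Set G)).subgroupOf L := ⟨_, rfl⟩
  have hmemR : ∀ a : L, a ∈ R ↔ (a : G) * z = z * a := fun a => by
    rw [hR, mem_subgroupOf, mem_centralizer_singleton_iff, hiff a a.2]
  have hRp : IsPGroup 2 R := fun a => ⟨2, Subtype.ext (Subtype.ext (by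
    simpa using hpow4 ((a : L) : G) (a : L).2 ((hmemR a).1 a.2)))⟩
  -- a Sylow subgroup inside the centralizer
  obtain ⟨S, hS⟩ := h.extra.1.1.exists_le_sylow
  have hzS : z ∈ (S : Subgroup G) := hS h.z_mem
  haveI : Nontrivial (S : Subgroup G) := ⟨⟨⟨z, hzS⟩, 1, fun e => hz1 (congrArg Subtype.val e)⟩⟩
  haveI := S.2.center_nontrivial
  obtain ⟨w, hw⟩ := exists_ne (1 : center (S : Subgroup G))
  have hwc := mem_center_iff.1 w.2
  have hwz : ((w : (S : Subgroup G)) : G) = z :=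
    h.eq_z_of_centralizes (fun q hq => congrArg Subtype.val (hwc ⟨q, hS hq⟩))
      (fun e => hw (Subtype.ext (Subtype.ext e)))
  have hSC : ∀ y ∈ (S : Subgroup G), y * z = z * y := fun y hy => by
    have := congrArg Subtype.val (hwc ⟨y, hy⟩)
    simp only [coe_mul, hwz] at this
    exact this
  obtain ⟨T⟩ : Nonempty (Sylow 2 L) := inferInstance
  obtain ⟨S', hS'⟩ := (T.2.map L.subtype).exists_le_sylow
  obtain ⟨g, rfl⟩ := MulAction.exists_smul_eq G S S'
  have hg : ∀ t ∈ T, g⁻¹ * (t : G) * g ∈ (S : Subgroup G) := fun t ht => by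
    obtain ⟨s, hs, e⟩ := hS' ⟨t, ht, rfl⟩
    have e' : g * s * g⁻¹ = (t : G) := e
    rw [← e']; simpa [mul_assoc] using (show s ∈ (S : Subgroup G) from hs)
  obtain ⟨k, hkL, hkT⟩ : ∃ k : G, L.map (MulAut.conj k).toMonoidHom = L ∧
      ∀ t ∈ T, k⁻¹ * (t : G) * k * z = z * (k⁻¹ * (t : G) * k) := by
    rcases hall _ (hconj hL g) with e | e
    · exact ⟨g, e, fun t ht => hSC _ (hg t ht)⟩
    · refine ⟨g * u, ?_, fun t ht => ?_⟩
      · rw [← map_conj_conj, ← hL']
        exact (hall _ (hconj hL'c g)).resolve_right fun e' => hne (hinj g (e.trans e'.symm))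
      · have c1 : Commute u z := h.z_comm hu
        have c2 : Commute (g⁻¹ * (t : G) * g) z := hSC _ (hg t ht)
        rw [show (g * u)⁻¹ * (t : G) * (g * u) = u⁻¹ * (g⁻¹ * t * g) * u by group]
        exact ((c1.inv_left.mul_left c2).mul_left c1).eq
  have hkt : ∀ t : (T : Subgroup L), k⁻¹ * ((t : L) : G) * k ∈ L := by
    intro t
    obtain ⟨x, hx, e⟩ : ((t : L) : G) ∈ L.map (MulAut.conj k).toMonoidHom :=
      hkL.symm ▸ (t : L).2
    have e' : k * x * k⁻¹ = ((t : L) : G) := e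
    rw [← e']; simpa [mul_assoc] using hx
  let f : ↥(T : Subgroup L) → R := fun t =>
    ⟨⟨k⁻¹ * ((t : L) : G) * k, hkt t⟩, (hmemR _).2 (hkT _ t.2)⟩
  have hf : Function.Injective f := fun a b e => Subtype.ext (Subtype.ext (by
    simpa [f] using congrArg (fun r : R => ((r : L) : G)) e))
  obtain ⟨T₁, hT₁⟩ := hRp.exists_le_sylow
  have hRT : R = T₁ := eq_of_le_of_card_ge hT₁ (by
    rw [T₁.card_eq_multiplicity, ← T.card_eq_multiplicity]
    exact Nat.card_le_card_of_injective f hf)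
  refine ⟨⟨T₁, hRT ▸ hR, ?_⟩, ?_⟩
  · rw [map_le_iff_le_comap]
    let φ := (L.subtype).comp (T₁ : Subgroup L).subtype
    have hz₁m : ∀ {x : G}, x = 1 ∨ x = z₁ → x ∈ zpowers z₁ := by
      rintro x (rfl | rfl)
      exacts [one_mem _, mem_zpowers _]
    have hmem' : ∀ a : (T₁ : Subgroup L), ((a : L) : G) * z = z * ((a : L) : G) := fun a =>
      (hmemR a).1 (hRT ▸ a.2)
    refine CfsgLib.Transfer.frattini_le_of_commutator_pow (p := 2) _ (fun a b => ?_) (fun a => ?_)
    · refine hz₁m ?_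
      simpa [commutatorElement_def] using hcom _ (a : L).2 (hmem' a) _ (b : L).2 (hmem' b)
    · refine hz₁m ?_
      simpa [sq] using hsq _ (a : L).2 (hmem' a)
  · intro hQeq
    obtain ⟨W, hW⟩ : ∃ W, W = (layer G).subgroupOf (centralizer ({z} : Set G)) := ⟨_, rfl⟩
    haveI : W.Normal := hW ▸ inferInstance
    have hWp : IsPGroup 2 W := by
      intro w
      refine ⟨2, Subtype.ext (Subtype.ext ?_)⟩
      have hwE : ((w : ↥(centralizer ({z} : Set G))) : G) ∈ L ⊔ L' := by
        rw [← hLE]; exact mem_subgroupOf.1 (hW ▸ w.2)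
      obtain ⟨a, ha, b, hb, e⟩ := hsupmem _ hwE
      obtain ⟨x, hx, e'⟩ : b ∈ L.map (MulAut.conj u).toMonoidHom := hL' ▸ hb
      have e'' : u * x * u⁻¹ = b := e'
      have hwz : a * b * z = z * (a * b) := e ▸ mem_centralizer_singleton_iff.1 (w : ↥(centralizer ({z} : Set G))).2
      have hab : Commute a b := hcomm hL hL'c hne a ha b hb
      have hcz : ∀ {x : G}, x ∈ L → x * z₁ * x⁻¹ ∈ L := fun hx => mul_mem (mul_mem hx hz₁) (inv_mem hx)
      have hcy : b * (u * z₁ * u⁻¹) * b⁻¹ ∈ L' := mul_mem (mul_mem hb hy) (inv_mem hb)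
      have e1 : a * z₁ * a⁻¹ * (b * (u * z₁ * u⁻¹) * b⁻¹) = z₁ * (u * z₁ * u⁻¹) := by
        have c1 : Commute a⁻¹ (b * (u * z₁ * u⁻¹) * b⁻¹) := hcomm hL hL'c hne _ (inv_mem ha) _ hcy
        have c2 : Commute z₁ b := hcomm hL hL'c hne _ hz₁ _ hb
        calc a * z₁ * a⁻¹ * (b * (u * z₁ * u⁻¹) * b⁻¹)
            = a * z₁ * (a⁻¹ * (b * (u * z₁ * u⁻¹) * b⁻¹)) := by group
          _ = a * (z₁ * b) * (u * z₁ * u⁻¹) * b⁻¹ * a⁻¹ := by rw [c1.eq]; group
          _ = a * b * (z₁ * (u * z₁ * u⁻¹)) * (a * b)⁻¹ := by rw [c2.eq]; group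
          _ = z₁ * (u * z₁ * u⁻¹) := by rw [hzy, hwz, mul_inv_cancel_right]
      obtain ⟨ea, eb⟩ := huniq _ (hcz ha) _ hcy _ hz₁ _ hy e1
      have haz : a * z = z * a := (hiff a ha).2 (mul_inv_eq_iff_eq_mul.1 ea)
      have hxz : x * z = z * x := (hiff x hx).2 (mul_inv_eq_iff_eq_mul.1 (by
        calc x * z₁ * x⁻¹ = u⁻¹ * (u * x * u⁻¹ * (u * z₁ * u⁻¹) * (u * x * u⁻¹)⁻¹) * u := by group
          _ = z₁ := by rw [e'', eb]; group))
      show (((w : ↥(centralizer ({z} : Set G))) : G)) ^ 2 ^ 2 = 1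
      rw [← e, hab.mul_pow, show (2 : ℕ) ^ 2 = 4 from rfl, hpow4 a ha haz, ← e'', conj_pow,
        hpow4 x hx hxz]
      group
    have hle : W.map (centralizer ({z} : Set G)).subtype ≤ Q :=
      hQeq ▸ map_mono (CfsgLib.Cores.le_pCore hWp)
    have hRle : ∀ a ∈ L, a * z = z * a → a = 1 ∨ a = z₁ := by
      intro a ha haz
      have haQ : a ∈ Q := hle ⟨⟨a, mem_centralizer_singleton_iff.2 haz⟩,
        hW ▸ mem_subgroupOf.2 (CfsgLib.Cores.component_le_layer hL ha), rfl⟩
      have hd : u * a⁻¹ * u⁻¹ ∈ L' := hu' _ (inv_mem ha)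
      rcases h.comm_cases haQ hu with e | e
      · exact .inl (huniq _ ha _ hd _ (one_mem _) _ (one_mem _)
          (by rw [mul_one, ← e]; group)).1
      · exact .inr (huniq _ ha _ hd _ hz₁ _ hy (by rw [hzy, ← e]; group)).1
    refine false_of_sylow_two (hsimple hL).2 T₁ ?_
    have heq : (T₁ : Subgroup L) = zpowers (⟨z₁, hz₁⟩ : L) := by
      rw [← hRT]
      refine le_antisymm (fun a ha => ?_) (zpowers_le.2 ((hmemR _).2 ((hiff z₁ hz₁).2 rfl)))
      rcases hRle a a.2 ((hmemR a).1 ha) with e | e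
      · rw [show a = 1 from Subtype.ext e]; exact one_mem _
      · rw [show a = ⟨z₁, hz₁⟩ from Subtype.ext e]; exact mem_zpowers _
    rw [heq, Nat.card_zpowers]
    exact orderOf_eq_prime (by rw [sq]; exact Subtype.ext hz₁z₁) (fun e => hz₁1 (congrArg Subtype.val e))

theorem structure_large (hodd : ∀ K : Subgroup G, Odd (Nat.card K) → Q ≤ normalizer (K : Set G) → K = ⊥) :
    (IsMulCommutative ↥(normalClosure ({z} : Set G)) ∧ generalizedFittingSubgroup G = pCore 2 G) ∨
    (normalClosure ({z} : Set G) = generalizedFittingSubgroup G ∧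
      IsSimpleGroup ↥(normalClosure ({z} : Set G)) ∧ ¬ IsMulCommutative ↥(normalClosure ({z} : Set G))) ∨
    (normalClosure ({z} : Set G) = generalizedFittingSubgroup G ∧
    ∃ (L : Subgroup G) (u : G), u ∈ Q ∧ IsSimpleGroup ↥L ∧ ¬ IsMulCommutative ↥L ∧
      L ⊓ L.map (MulAut.conj u).toMonoidHom = ⊥ ∧
      (∀ x ∈ L, ∀ y ∈ L.map (MulAut.conj u).toMonoidHom, x * y = y * x) ∧
      L ⊔ L.map (MulAut.conj u).toMonoidHom = normalClosure ({z} : Set G) ∧
      ∃ z₁ ∈ L, z = z₁ * (u * z₁ * u⁻¹) ∧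
        (∃ R : Sylow 2 ↥L, (R : Subgroup ↥L) = (centralizer ({z₁} : Set G)).subgroupOf L ∧
          (frattini ↥(R : Subgroup ↥L)).map ((L.subtype).comp (R : Subgroup ↥L).subtype) ≤
            zpowers z₁) ∧
        Q ≠ (pCore 2 ↥(centralizer ({z} : Set G))).map (centralizer ({z} : Set G)).subtype) := by
  by_cases hF : fittingSubgroup G = ⊥
  · obtain ⟨hM, L, hs, hna, e | ⟨u, hu, hrest⟩⟩ := h.semisimple_case hodd hF
    · subst e
      rw [← hM] at hs hna
      exact .inr (.inl ⟨hM, hs, hna⟩)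
    · exact .inr (.inr ⟨hM, L, u, hu, hs, hna, hrest⟩)
  · exact .inl (h.fitting_case hodd hF)

end FData

end CfsgLib.LargeExtra
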