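import Mathlib
import Cfsg.Agent.Lib.MonsterType.Perp

/-!
Extraspecial 2-groups of both types from quadratic cocycles, and their 2-ranks.
-/

namespace CfsgLib.LargeExtra.TwoTypes

open Finset

/-- The space of `n` hyperbolic coordinates. -/
abbrev Sp (n : ℕ) := Fin n → ZMod 2 × ZMod 2

/-- The local cocycle. -/
def bet (e : ZMod 2) (x y : ZMod 2 × ZMod 2) : ZMod 2 := x.1 * y.2 + e * (x.1 * y.1 + x.2 * y.2)

/-- The local quadratic character. -/
def chi (a : ZMod 2) : ℤ := if a = 0 then 1 else -1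

theorem chi_add : ∀ a b, chi (a + b) = chi a * chi b := by decide

theorem bet_nondeg : ∀ e v, (∀ u, bet e v u = bet e u v) → v = 0 := by decide

theorem bet_sum : ∀ e : ZMod 2, ∑ v, chi (bet e v v) = if e = 0 then 2 else -2 := by decide

theorem bet_zero : ∀ e x y, (e ≠ 0 → x = 0) → (e ≠ 0 → y = 0) →
    bet e (x, 0) (y, 0) = 0 := by decide

theorem two_cases : ∀ a : ZMod 2, a = 0 ∨ a = 1 := by decide

variable {n : ℕ} (ε : Fin n → ZMod 2)

theorem chi_sum (f : Fin n → ZMod 2) : chi (∑ i, f i) = ∏ i, chi (f i) := by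
  induction (univ : Finset (Fin n)) using Finset.induction_on with
  | empty => rfl
  | insert i s hi ih => rw [sum_insert hi, prod_insert hi, chi_add, ih]

/-- The cocycle. -/
def beta (v w : Sp n) : ZMod 2 := ∑ i, bet (ε i) (v i) (w i)

theorem beta_add_left (u v w : Sp n) : beta ε (u + v) w = beta ε u w + beta ε v w := by
  simp only [beta, ← sum_add_distrib]
  exact sum_congr rfl fun i _ => by simp only [bet, Pi.add_apply, Prod.fst_add, Prod.snd_add]; ring

theorem beta_add_right (u v w : Sp n) : beta ε u (v + w) = beta ε u v + beta ε u w := by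
  simp only [beta, ← sum_add_distrib]
  exact sum_congr rfl fun i _ => by simp only [bet, Pi.add_apply, Prod.fst_add, Prod.snd_add]; ring

theorem beta_zero_left (w : Sp n) : beta ε 0 w = 0 := by simp [beta, bet]

theorem beta_zero_right (w : Sp n) : beta ε w 0 = 0 := by simp [beta, bet]

theorem sp_add_self (v : Sp n) : v + v = 0 :=
  funext fun _ => Prod.ext (CharTwo.add_self_eq_zero _) (CharTwo.add_self_eq_zero _)

/-- The commutator form. -/
def form (v w : Sp n) : ZMod 2 := beta ε v w + beta ε w v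

theorem form_add_left (u v w : Sp n) : form ε (u + v) w = form ε u w + form ε v w := by
  simp only [form, beta_add_left, beta_add_right]; ring

theorem exists_form_one {v : Sp n} (hv : v ≠ 0) : ∃ w, form ε w v = 1 := by
  obtain ⟨i, hi⟩ := Function.ne_iff.1 hv
  obtain ⟨u, hu⟩ : ∃ u, bet (ε i) (v i) u ≠ bet (ε i) u (v i) := by
    by_contra! h; exact hi (bet_nondeg _ _ h)
  have h0 : ∀ e x, bet e 0 x = 0 ∧ bet e x 0 = 0 := by decide
  refine ⟨Pi.single i u, ?_⟩
  have e1 : beta ε (Pi.single i u) v = bet (ε i) u (v i) := by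
    rw [beta, sum_eq_single i (fun j _ hj => by rw [Pi.single_eq_of_ne hj]; exact (h0 _ _).1)
      (by simp), Pi.single_eq_same]
  have e2 : beta ε v (Pi.single i u) = bet (ε i) (v i) u := by
    rw [beta, sum_eq_single i (fun j _ hj => by rw [Pi.single_eq_of_ne hj]; exact (h0 _ _).2)
      (by simp), Pi.single_eq_same]
  rw [form, e1, e2]
  revert hu
  generalize bet (ε i) (v i) u = a
  generalize bet (ε i) u (v i) = b
  revert a b; decide

/-- The extension of the coordinate space by the cocycle. -/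
@[ext] structure Ext {n : ℕ} (ε : Fin n → ZMod 2) : Type where
  v : Sp n
  a : ZMod 2

namespace Ext

variable {ε}

instance : Mul (Ext ε) := ⟨fun x y => ⟨x.v + y.v, x.a + y.a + beta ε x.v y.v⟩⟩
instance : One (Ext ε) := ⟨⟨0, 0⟩⟩
instance : Inv (Ext ε) := ⟨fun x => ⟨x.v, x.a + beta ε x.v x.v⟩⟩

theorem mul_v (x y : Ext ε) : (x * y).v = x.v + y.v := rfl
theorem mul_a (x y : Ext ε) : (x * y).a = x.a + y.a + beta ε x.v y.v := rfl
theorem one_v : (1 : Ext ε).v = 0 := rfl
theorem one_a : (1 : Ext ε).a = 0 := rfl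
theorem inv_v (x : Ext ε) : x⁻¹.v = x.v := rfl
theorem inv_a (x : Ext ε) : x⁻¹.a = x.a + beta ε x.v x.v := rfl

instance : Group (Ext ε) where
  mul_assoc x y w := by
    ext1
    · simp only [mul_v, add_assoc]
    · simp only [mul_a, mul_v, beta_add_left, beta_add_right]; ring
  one_mul x := by ext1 <;> simp [mul_v, mul_a, one_v, one_a, beta_zero_left]
  mul_one x := by ext1 <;> simp [mul_v, mul_a, one_v, one_a, beta_zero_right]
  inv_mul_cancel x := by
    ext1
    · simp only [mul_v, inv_v, one_v]; exact sp_add_self _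
    · simp only [mul_a, inv_v, inv_a, one_a]
      linear_combination (CharTwo.add_self_eq_zero x.a) + (CharTwo.add_self_eq_zero (beta ε x.v x.v))

/-- As a set it is a product. -/
def equivProd : Ext ε ≃ Sp n × ZMod 2 where
  toFun x := (x.v, x.a)
  invFun x := ⟨x.1, x.2⟩
  left_inv _ := rfl
  right_inv _ := rfl

instance : Finite (Ext ε) := Finite.of_equiv _ equivProd.symm

theorem card : Nat.card (Ext ε) = 2 ^ (2 * n + 1) := by
  rw [Nat.card_congr equivProd, Nat.card_prod, Nat.card_pi, prod_const, card_univ, Fintype.card_fin,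
    Nat.card_prod, Nat.card_zmod, pow_succ, pow_mul]
  norm_num

/-- The central involution. -/
def zed : Ext ε := ⟨0, 1⟩

theorem extraspecial (hn : 1 ≤ n) : Cfsg.IsExtraspecial 2 (Ext ε) := by
  have hv0 : ∀ x : Ext ε, x.v = 0 → x = 1 ∨ x = zed := fun x hx =>
    (two_cases x.a).imp (fun h => Ext.ext hx h) (fun h => Ext.ext hx h)
  have hcomm : ∀ x y : Ext ε, (x * y * x⁻¹ * y⁻¹).v = 0 := fun x y => by
    simp only [mul_v, inv_v]
    rw [add_assoc, add_add_add_comm, sp_add_self, sp_add_self, add_zero]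
  refine CfsgLib.MonsterType.isExtraspecial_of_center ?_ zed (fun h => ?_) (fun x => ⟨fun hx => ?_, ?_⟩)
    (fun x y => hv0 _ (hcomm x y)) (fun x => hv0 _ (sp_add_self _)) ?_
  · exact IsPGroup.of_card (card (ε := ε))
  · exact one_ne_zero (congrArg Ext.a h)
  · refine hv0 x ?_
    by_contra hne
    obtain ⟨w, hw⟩ := exists_form_one ε hne
    have h1 := congrArg Ext.a (Subgroup.mem_center_iff.1 hx ⟨w, 0⟩)
    simp only [mul_a, zero_add, add_zero] at h1
    rw [form] at hw
    have : beta ε w x.v = beta ε x.v w := by linear_combination h1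
    rw [this, CharTwo.add_self_eq_zero] at hw
    exact zero_ne_one hw
  · intro hx
    rw [Subgroup.mem_center_iff]
    intro y
    rcases hx with rfl | rfl
    · simp
    · ext1 <;> simp [zed, mul_v, mul_a, beta_zero_left, beta_zero_right, add_comm]
  · have hne : (Pi.single ⟨0, hn⟩ (1, 0) : Sp n) ≠ 0 := by simp
    obtain ⟨w, hw⟩ := exists_form_one ε hne
    refine ⟨⟨w, 0⟩, ⟨Pi.single ⟨0, hn⟩ (1, 0), 0⟩, fun h => ?_⟩
    have h1 := congrArg Ext.a h
    simp only [mul_a, zero_add, add_zero] at h1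
    rw [form, h1, CharTwo.add_self_eq_zero] at hw
    exact zero_ne_one hw

theorem beta_self_of_elem {A : Subgroup (Ext ε)} (hA : Cfsg.IsElementaryAbelian 2 A) {x : Ext ε}
    (hx : x ∈ A) : beta ε x.v x.v = 0 := by
  have h := congrArg Ext.a (hA.2 x hx)
  rw [sq, mul_a, CharTwo.add_self_eq_zero, zero_add, one_a] at h
  exact h

/-- A totally singular set closed under addition has at most `2^n` elements, fewer in minus type. -/
theorem singular_bound (W : Finset (Sp n)) (h0 : 0 ∈ W) (hadd : ∀ v ∈ W, ∀ w ∈ W, v + w ∈ W)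
    (hq : ∀ v ∈ W, beta ε v v = 0) :
    W.card ≤ 2 ^ n ∧ (W.card = 2 ^ n → (∏ i, ∑ v, chi (bet (ε i) v v)) = 2 ^ n) := by
  classical
  have hchi : ∀ v w : Sp n, chi (beta ε (v + w) (v + w))
      = chi (beta ε v v) * chi (beta ε w w) * chi (form ε v w) := by
    intro v w
    rw [← chi_add, ← chi_add, form, beta_add_left, beta_add_right, beta_add_right]
    congr 1; ring
  have hform : ∀ v ∈ W, ∀ w ∈ W, form ε v w = 0 := by
    intro v hv w hw
    have h := hq _ (hadd v hv w hw)
    rw [beta_add_left, beta_add_right, beta_add_right, hq v hv, hq w hw] at h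
    rw [form]; linear_combination h
  let P := univ.filter fun v : Sp n => ∀ w ∈ W, form ε v w = 0
  have hWP : W ⊆ P := fun v hv => mem_filter.2 ⟨mem_univ _, hform v hv⟩
  have hins : ∀ v : Sp n, ∑ w ∈ W, chi (form ε v w) = if v ∈ P then (W.card : ℤ) else 0 := by
    intro v
    by_cases hv : v ∈ P
    · rw [if_pos hv, sum_congr rfl (g := fun _ => (1 : ℤ)) fun w hw => by
        rw [(mem_filter.1 hv).2 w hw]; rfl]
      simp
    · rw [if_neg hv]
      obtain ⟨u, hu, hu1⟩ : ∃ u ∈ W, form ε v u = 1 := by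
        by_contra! h
        exact hv (mem_filter.2 ⟨mem_univ _, fun w hw => (two_cases _).resolve_right (h w hw)⟩)
      have hsw : ∑ w ∈ W, chi (form ε v w) = ∑ w ∈ W, chi (form ε v (w + u)) :=
        (sum_nbij' (· + u) (· + u) (fun w hw => hadd w hw u hu) (fun w hw => hadd w hw u hu)
          (fun w _ => by simp [add_assoc, sp_add_self]) (fun w _ => by simp [add_assoc, sp_add_self])
          (fun w _ => rfl)).symm
      have hneg : ∀ w, chi (form ε v (w + u)) = -chi (form ε v w) := fun w => by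
        have : form ε v (w + u) = form ε v w + form ε v u := by
          simp only [form, beta_add_left, beta_add_right]; ring
        rw [this, chi_add, hu1]
        simp [chi]
      rw [sum_congr rfl fun w _ => hneg w, sum_neg_distrib] at hsw
      omega
  have hcount : (W.card : ℤ) * P.card = 4 ^ n := by
    have e1 : ∑ v : Sp n, ∑ w ∈ W, chi (form ε v w) = (W.card : ℤ) * P.card := by
      rw [sum_congr rfl fun v _ => hins v, sum_ite_mem, univ_inter, sum_const, nsmul_eq_mul, mul_comm]
    rw [← e1, sum_comm, sum_eq_single_of_mem 0 h0]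
    · have : ∀ v : Sp n, chi (form ε v 0) = 1 := fun v => by
        simp [form, beta_zero_left, beta_zero_right, chi]
      rw [sum_congr rfl fun v _ => this v, sum_const, card_univ, Fintype.card_pi, prod_const, card_univ,
        Fintype.card_fin]
      simp
    · intro w _ hw
      obtain ⟨u, hu⟩ := exists_form_one ε hw
      have hsw : ∑ v, chi (form ε v w) = ∑ v, chi (form ε (v + u) w) :=
        (Fintype.sum_equiv (Equiv.addRight u) _ _ fun v => rfl).symm
      have hneg : ∀ v, chi (form ε (v + u) w) = -chi (form ε v w) := fun v => by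
        rw [form_add_left, chi_add, hu]; simp [chi]
      rw [sum_congr rfl fun v _ => hneg v, sum_neg_distrib] at hsw
      omega
  have hle : (W.card : ℤ) ≤ P.card := by exact_mod_cast card_le_card hWP
  have h4 : (4 : ℤ) ^ n = 2 ^ n * 2 ^ n := by rw [← mul_pow]; norm_num
  refine ⟨?_, fun heq => ?_⟩
  · by_contra! hlt
    have h1 : (2 : ℤ) ^ n < W.card := by exact_mod_cast hlt
    have h2 : (2 : ℤ) ^ n * 2 ^ n < (W.card : ℤ) * P.card :=
      mul_lt_mul'' h1 (h1.trans_le hle) (by positivity) (by positivity)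
    omega
  · have h2n : (2 : ℤ) ^ n ≠ 0 := by positivity
    have hWc : (W.card : ℤ) = 2 ^ n := by exact_mod_cast heq
    have hPc : (P.card : ℤ) = 2 ^ n := by
      rw [hWc, h4] at hcount; exact mul_left_cancel₀ h2n hcount
    have hPW : W = P := eq_of_subset_of_card_le hWP (by omega)
    rw [Fintype.prod_sum]
    have key : (W.card : ℤ) * ∑ v : Sp n, chi (beta ε v v)
        = W.card * ∑ v ∈ P, chi (beta ε v v) := by
      have e : ∀ w ∈ W, ∑ v : Sp n, chi (beta ε (v + w) (v + w)) = ∑ v : Sp n, chi (beta ε v v) :=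
        fun w _ => Fintype.sum_equiv (Equiv.addRight w) _ _ fun v => rfl
      have e2 : ∑ w ∈ W, ∑ v : Sp n, chi (beta ε (v + w) (v + w))
          = (W.card : ℤ) * ∑ v : Sp n, chi (beta ε v v) := by
        rw [sum_congr rfl e, sum_const, nsmul_eq_mul]
      rw [← e2, sum_comm, mul_sum, ← univ_inter P, ← sum_ite_mem]
      refine sum_congr rfl fun v _ => ?_
      have e3 : ∀ w ∈ W, chi (beta ε (v + w) (v + w)) = chi (beta ε v v) * chi (form ε v w) :=
        fun w hw => by rw [hchi, hq w hw]; simp [chi]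
      rw [sum_congr rfl e3, ← mul_sum, hins]
      split_ifs <;> ring
    rw [hWc] at key
    have hkey := mul_left_cancel₀ h2n key
    have hprod : ∀ v : Sp n, ∏ i, chi (bet (ε i) (v i) (v i)) = chi (beta ε v v) := by
      intro v
      rw [beta]
      exact (chi_sum _).symm
    rw [sum_congr rfl fun v _ => hprod v, hkey, ← hPW, sum_congr rfl (g := fun _ => (1 : ℤ)) fun v hv => by
      rw [hq v hv]; rfl]
    simp [heq]

theorem rank_le {A : Subgroup (Ext ε)} (hA : Cfsg.IsElementaryAbelian 2 A) {k : ℕ}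
    (hk : Nat.card A = 2 ^ k) :
    k ≤ n + 1 ∧ ((∏ i, ∑ v, chi (bet (ε i) v v)) ≠ 2 ^ n → k ≤ n) := by
  classical
  have : Fintype (Ext ε) := Fintype.ofFinite _
  let S := univ.filter fun x : Ext ε => x ∈ A
  let W := S.image Ext.v
  have hS : S.card = 2 ^ k := by rw [← hk, Nat.card_eq_fintype_card, Fintype.card_subtype]
  obtain ⟨h1, h2⟩ := singular_bound (ε := ε) W (mem_image.2 ⟨1, by simp [S], rfl⟩)
    (fun v hv w hw => by
      obtain ⟨x, hx, rfl⟩ := mem_image.1 hv
      obtain ⟨y, hy, rfl⟩ := mem_image.1 hw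
      exact mem_image.2 ⟨x * y, by simp [S] at hx hy ⊢; exact mul_mem hx hy, rfl⟩)
    (fun v hv => by
      obtain ⟨x, hx, rfl⟩ := mem_image.1 hv
      exact beta_self_of_elem hA (mem_filter.1 hx).2)
  have hle : S.card ≤ W.card * 2 := by
    refine (card_le_card_of_injOn (fun x => (x.v, x.a)) ?_ ?_).trans_eq
      (card_product W (univ : Finset (ZMod 2)))
    · intro x hx
      exact mem_product.2 ⟨mem_image_of_mem _ hx, mem_univ _⟩
    · intro x _ y _ h
      exact Ext.ext (congrArg Prod.fst h) (congrArg Prod.snd h)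
  refine ⟨(Nat.pow_le_pow_iff_right one_lt_two).1 (by rw [pow_succ]; omega), fun hne => ?_⟩
  have hlt : W.card < 2 ^ n := lt_of_le_of_ne h1 fun e => hne (h2 e)
  have : 2 ^ k < 2 ^ (n + 1) := by rw [pow_succ]; omega
  have := (Nat.pow_lt_pow_iff_right one_lt_two).1 this
  omega

/-- The standard maximal elementary abelian subgroup. -/
def std : Subgroup (Ext ε) where
  carrier := {x | ∀ i, (x.v i).2 = 0 ∧ (ε i ≠ 0 → (x.v i).1 = 0)}
  one_mem' := fun i => by simp [one_v]
  mul_mem' := fun {x y} hx hy i => by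
    simp only [mul_v, Pi.add_apply, Prod.fst_add, Prod.snd_add]
    exact ⟨by rw [(hx i).1, (hy i).1, add_zero], fun h => by rw [(hx i).2 h, (hy i).2 h, add_zero]⟩
  inv_mem' := fun {x} hx => hx

theorem std_beta {x y : Ext ε} (hx : x ∈ std) (hy : y ∈ std) : beta ε x.v y.v = 0 :=
  sum_eq_zero fun i _ => by
    rw [show x.v i = ((x.v i).1, 0) from Prod.ext rfl (hx i).1,
      show y.v i = ((y.v i).1, 0) from Prod.ext rfl (hy i).1]
    exact bet_zero _ _ _ (hx i).2 (hy i).2

theorem std_elem : Cfsg.IsElementaryAbelian 2 (std (ε := ε)) := by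
  refine ⟨⟨⟨fun x y => Subtype.ext (Ext.ext (add_comm _ _) ?_)⟩⟩, fun x hx => ?_⟩
  · show x.1.a + y.1.a + beta ε x.1.v y.1.v = y.1.a + x.1.a + beta ε y.1.v x.1.v
    rw [std_beta x.2 y.2, std_beta y.2 x.2, add_comm x.1.a]
  · rw [sq]
    ext1
    · exact sp_add_self _
    · rw [mul_a, std_beta hx hx, CharTwo.add_self_eq_zero, add_zero]; rfl

theorem std_card : Nat.card (std (ε := ε)) = 2 ^ ((univ.filter fun i => ε i = 0).card + 1) := by
  classical
  let e : (std (ε := ε)) ≃ ({i // ε i = 0} → ZMod 2) × ZMod 2 :=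
    { toFun := fun x => (fun i => (x.1.v i.1).1, x.1.a)
      invFun := fun p => ⟨⟨fun i => (if h : ε i = 0 then p.1 ⟨i, h⟩ else 0, 0), p.2⟩,
        fun i => ⟨rfl, fun h => dif_neg h⟩⟩
      left_inv := fun x => by
        refine Subtype.ext (Ext.ext (funext fun i => Prod.ext ?_ (x.2 i).1.symm) rfl)
        by_cases h : ε i = 0
        · simp [h]
        · simp [h, (x.2 i).2 h]
      right_inv := fun p => Prod.ext (funext fun i => dif_pos i.2) rfl }
  rw [Nat.card_congr e, Nat.card_prod, Nat.card_pi, prod_const, card_univ, Nat.card_zmod, pow_succ,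
    Fintype.card_subtype]

theorem rank_eq (r : ℕ) (hup : ∀ A : Subgroup (Ext ε), Cfsg.IsElementaryAbelian 2 A → ∀ k,
      Nat.card A = 2 ^ k → k ≤ r) (hr : (univ.filter fun i => ε i = 0).card + 1 = r) :
    sSup {k : ℕ | ∃ A : Subgroup (Ext ε), Cfsg.IsElementaryAbelian 2 A ∧ Nat.card A = 2 ^ k} = r := by
  refine le_antisymm (csSup_le ⟨r, ⟨std, std_elem, hr ▸ std_card⟩⟩ ?_) (le_csSup ⟨r, ?_⟩ ?_)
  · rintro k ⟨A, hA, hk⟩; exact hup A hA k hk
  · rintro k ⟨A, hA, hk⟩; exact hup A hA k hk
  · exact ⟨std, std_elem, hr ▸ std_card⟩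

end Ext

theorem exists_types (n : ℕ) (hn : 1 ≤ n) : ∀ r ∈ ({n, n + 1} : Set ℕ),
    ∃ (E : Type) (_ : Group E) (_ : Finite E), Cfsg.IsExtraspecial 2 E ∧
      Nat.card E = 2 ^ (2 * n + 1) ∧
      sSup {k : ℕ | ∃ A : Subgroup E, Cfsg.IsElementaryAbelian 2 A ∧ Nat.card A = 2 ^ k} = r := by
  rintro r (rfl | rfl)
  · let ε : Fin r → ZMod 2 := Pi.single ⟨0, hn⟩ 1
    refine ⟨Ext ε, inferInstance, inferInstance, Ext.extraspecial hn, Ext.card, Ext.rank_eq r ?_ ?_⟩
    · intro A hA k hk
      refine (Ext.rank_le hA hk).2 ?_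
      rw [← mul_prod_erase univ _ (mem_univ ⟨0, hn⟩), bet_sum, if_neg (by simp [ε])]
      rw [prod_congr rfl (g := fun _ => (2 : ℤ)) fun i hi => by
        rw [bet_sum, if_pos (by simp [ε, Pi.single_eq_of_ne (mem_erase.1 hi).1])], prod_const]
      intro h
      have : (0 : ℤ) < 2 ^ r := by positivity
      have : (0 : ℤ) < 2 ^ (univ.erase (⟨0, hn⟩ : Fin r)).card := by positivity
      omega
    · have : (univ.filter fun i => ε i = 0) = univ.erase ⟨0, hn⟩ := by
        ext i; simp [ε, Pi.single_apply]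
      rw [this, card_erase_of_mem (mem_univ _), card_univ, Fintype.card_fin]
      omega
  · refine ⟨Ext (0 : Fin n → ZMod 2), inferInstance, inferInstance, Ext.extraspecial hn, Ext.card,
      Ext.rank_eq _ (fun A hA k hk => (Ext.rank_le hA hk).1) ?_⟩
    simp

end CfsgLib.LargeExtra.TwoTypes
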